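import Cfsg.Agent.H4.Tor3
import Mathlib.NumberTheory.JacobiSum.Basic

/-!
Products of conjugacy classes in `SL₂(q)`.
-/

set_option autoImplicit false

namespace H4

open Matrix MulAction
open scoped MatrixGroups LinearAlgebra.Projectivization commutatorElement

variable {F : Type*} [Field F]

theorem exists_mul_trace' {G : SL(2, F)} (hG : ¬ Sc G.1) {t s x z : F}
    (h : x * x + G.1.trace * x * z + z * z - t * x - s * z + 1 = 0) :
    ∃ A B : SL(2, F), B.1.trace = s ∧ A.1.trace = t ∧ G = B * A := by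
  obtain ⟨P, hP, h1⟩ := exists_conj_comp hG
  rw [G.2] at h1
  let A : SL(2, F) := ⟨!![x, z + x * G.1.trace - s; z, t - x], by
    rw [det_fin_two_of]; linear_combination -h⟩
  have h2 : conjSL (mkGL P hP) (slComp G.1.trace) = G := conjSL_eq_iff.2 h1.symm
  refine ⟨conjSL (mkGL P hP) A, conjSL (mkGL P hP) (slComp G.1.trace * A⁻¹), ?_, ?_, ?_⟩
  · rw [trace_conjSL, sl_coe_mul, sl_inv_val, adjugate_fin_two_of]
    change (comp G.1.trace 1 * _).trace = _
    rw [comp, mul_fin_two, trace_fin_two_of]; ring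
  · rw [trace_conjSL, trace_fin_two_of]; ring
  · rw [← map_mul, inv_mul_cancel_right, h2]

theorem exists_conic [Finite F] {c : F} (hc : c * c - 4 ≠ 0) (t s : F) :
    ∃ x z : F, x * x + c * x * z + z * z - t * x - s * z + 1 = 0 := by
  obtain ⟨x, hx⟩ : ∃ x, x * (c * c - 4) = c * s - 2 * t := ⟨_, div_mul_cancel₀ _ hc⟩
  obtain ⟨z, hz⟩ : ∃ z, z * (c * c - 4) = c * t - 2 * s := ⟨_, div_mul_cancel₀ _ hc⟩
  have h1 : 2 * x + c * z = t := mul_right_cancel₀ hc (by linear_combination 2 * hx + c * hz)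
  have h2 : c * x + 2 * z = s := mul_right_cancel₀ hc (by linear_combination c * hx + 2 * hz)
  obtain ⟨a, b, h⟩ := exists_norm_eq (t := c) (d := 1) (Or.inl (by rwa [mul_one]))
    (x * x + c * x * z + z * z - 1)
  exact ⟨a + x, b + z, by rw [← h1, ← h2]; linear_combination h⟩

theorem exists_mul_of_trace [Finite F] {G X Y : SL(2, F)} (hG : ¬ Sc G.1)
    (hX : X.1.trace * X.1.trace - 4 ≠ 0) (hY : Y.1.trace * Y.1.trace - 4 ≠ 0) {x z : F}
    (h : x * x + G.1.trace * x * z + z * z - X.1.trace * x - Y.1.trace * z + 1 = 0) :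
    ∃ u v : SL(2, F), G = u * Y * u⁻¹ * (v * X * v⁻¹) := by
  obtain ⟨A, B, h1, h2, rfl⟩ := exists_mul_trace' hG h
  obtain ⟨u, hu⟩ := isConj_iff.1 (sl_isConj_of_disc h1.symm hY)
  obtain ⟨v, hv⟩ := isConj_iff.1 (sl_isConj_of_disc h2.symm hX)
  exact ⟨u, v, by rw [hu, hv]⟩

theorem psl_neg (g : SL(2, F)) : ((-g : SL(2, F)) : PSL(2, F)) = g :=
  psl2pgl_injective (by rw [psl2pgl_mk, psl2pgl_mk, smk_neg])

theorem not_sc_of_ne_one {g : SL(2, F)} (h : (g : PSL(2, F)) ≠ 1) : ¬ Sc g.1 := fun h1 =>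
  h ((QuotientGroup.eq_one_iff g).2 (sl_mem_center_iff.2 h1))

theorem disc_of_not_dvd [Finite F] (p : ℕ) [Fact p.Prime] [CharP F p] {g : SL(2, F)}
    (h1 : (g : PSL(2, F)) ≠ 1) (h : ¬ p ∣ orderOf (g : PSL(2, F))) :
    g.1.trace * g.1.trace - 4 ≠ 0 := by
  rw [← sl_disc]
  refine disc_ne_zero_of_pow p (fun h => not_sc_of_ne_one h1 (pmk_eq_one_iff.1 h)) h ?_
  rw [← orderOf_psl, psl2pgl_mk]
  exact pow_orderOf_eq_one _

theorem exists_conj_lower {g : SL(2, F)} (h : ¬ Sc g.1) :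
    ∃ u : SL(2, F), (u * g * u⁻¹).1 1 0 ≠ 0 := by
  by_contra h1
  push Not at h1
  have k : ∀ t : F, g.1 1 0 + t * (g.1 0 0 - g.1 1 1) - t * t * g.1 0 1 = 0 := fun t => by
    have := h1 (loT t)
    rw [loT_inv] at this
    simp only [sl2_mul_apply, coe_loT, of_apply, cons_val', cons_val_zero, cons_val_one,
      cons_val_fin_one] at this
    linear_combination this
  let J : SL(2, F) := ⟨!![0, 1; -1, 0], by simp [det_fin_two_of]⟩
  have h2 := h1 J
  have h3 : (J * g * J⁻¹).1 1 0 = -g.1 0 1 := by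
    rw [sl2_mul_apply, sl2_mul_apply, sl2_mul_apply, sl_inv_val]
    simp [J, adjugate_fin_two_of]
  have h4 := k 0
  have h5 := k 1
  rw [h3, neg_eq_zero] at h2
  exact h ⟨h2, by linear_combination h4, by linear_combination h5 - h4 + h2⟩

theorem trace_upT_conj (A B : SL(2, F)) (s : F) : (A * (upT s * B * (upT s)⁻¹)).1.trace =
    -(A.1 1 0 * B.1 1 0) * s ^ 2 + (A.1 0 0 * B.1 1 0 + A.1 1 0 * (B.1 1 1 - B.1 0 0) -
      A.1 1 1 * B.1 1 0) * s + (A * B).1.trace := by
  rw [upT_inv, trace_fin_two, trace_fin_two]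
  simp only [sl2_mul_apply, coe_upT, of_apply, cons_val', cons_val_zero, cons_val_one,
    cons_val_fin_one]
  ring

/-! ### Quadratic characters -/

section Quad

variable [Fintype F] [DecidableEq F]

theorem sum_quad_shift (h : ringChar F ≠ 2) (a : F) : ∑ x, quadraticChar F (x - a) = 0 := by
  rw [← quadraticChar_sum_zero h]
  exact Fintype.sum_equiv (Equiv.subRight a) _ _ fun _ => rfl

theorem sum_quad_mul (h : ringChar F ≠ 2) {a b : F} (hab : a ≠ b) :
    ∑ x, quadraticChar F (x - a) * quadraticChar F (x - b) = -1 := by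
  have h1 := jacobiSum_nontrivial_inv (quadraticChar_ne_one h)
  rw [(quadraticChar_isQuadratic F).inv, jacobiSum] at h1
  have h2 : b - a ≠ 0 := sub_ne_zero.2 hab.symm
  have h3 := quadraticChar_sq_one (neg_ne_zero.2 (one_ne_zero (α := F)))
  rw [← Fintype.sum_equiv ((Equiv.mulLeft₀ _ h2).trans (Equiv.addRight a)) (fun x =>
    quadraticChar F (-1) * (quadraticChar F x * quadraticChar F (1 - x))) _ fun x => ?_,
    ← Finset.mul_sum, h1]
  · linear_combination -h3
  · simp only [Equiv.trans_apply, Equiv.mulLeft₀_apply, Equiv.coe_addRight, ← map_mul]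
    rw [show ((b - a) * x + a - a) * ((b - a) * x + a - b) = (b - a) ^ 2 * (-1 * (x * (1 - x))) by ring,
      map_mul (quadraticChar F) ((b - a) ^ 2), quadraticChar_sq_one' h2, one_mul]

theorem exists_sq_sq_nsq (h : Fintype.card F % 4 = 3) {κ : F} (h0 : κ ≠ 0)
    (h1 : quadraticChar F (4 - κ) = 1) :
    ∃ n : F, quadraticChar F n = 1 ∧ quadraticChar F (n - 4) = 1 ∧ quadraticChar F (n - κ) = -1 := by
  have h2 : (2 : F) ≠ 0 := two_ne_zero_of_odd (Nat.odd_iff.2 (by omega))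
  have hc : ringChar F ≠ 2 := char_ne_two (F := F) _ h2
  have hm : quadraticChar F (-1) = -1 := by
    rw [quadraticChar_neg_one_iff_not_isSquare, FiniteField.isSquare_neg_one_iff, not_not]; exact h
  have h4 : (4 : F) ≠ 0 := by rw [show (4 : F) = 2 * 2 by norm_num]; exact mul_ne_zero h2 h2
  have h5 : (4 : F) ≠ κ := fun h => by rw [h, sub_self, MulChar.map_zero] at h1; omega
  have tri : ∀ x : F, quadraticChar F x = 0 ∧ x = 0 ∨ quadraticChar F x = 1 ∨
      quadraticChar F x = -1 := fun x => by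
    by_cases hx : x = 0
    · exact Or.inl ⟨hx ▸ MulChar.map_zero _, hx⟩
    · exact Or.inr (quadraticChar_dichotomy hx)
  by_contra H
  push Not at H
  have k : ∀ n : F, (1 + quadraticChar F (n - 0)) * (1 + quadraticChar F (n - 4)) *
      (1 - quadraticChar F (n - κ)) = 0 := fun n => by
    rw [sub_zero]
    rcases tri n with ⟨-, rfl⟩ | a | a
    · rw [show (0 : F) - 4 = -1 * 2 ^ 2 by norm_num, map_mul, hm, quadraticChar_sq_one' h2]; ring
    swap
    · rw [a]; ring
    rcases tri (n - 4) with ⟨-, b⟩ | b | b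
    · rw [sub_eq_zero.1 b, h1]; ring
    swap
    · rw [b]; ring
    rcases tri (n - κ) with ⟨-, c⟩ | c | c
    · rw [sub_eq_zero.1 c, show κ - 4 = -1 * (4 - κ) by ring, map_mul, hm, h1] at b; omega
    · rw [c]; ring
    · exact (H n a b c).elim
  have e : ∑ n : F, (1 + quadraticChar F (n - 0)) * (1 + quadraticChar F (n - 4)) *
      (1 - quadraticChar F (n - κ)) = ∑ n : F, (1 - quadraticChar F (n - 0) *
        quadraticChar F (n - 4) * quadraticChar F (n - κ)) + (∑ n, quadraticChar F (n - 0) +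
        ∑ n, quadraticChar F (n - 4) - ∑ n, quadraticChar F (n - κ) +
        ∑ n, quadraticChar F (n - 0) * quadraticChar F (n - 4) -
        ∑ n, quadraticChar F (n - 0) * quadraticChar F (n - κ) -
        ∑ n, quadraticChar F (n - 4) * quadraticChar F (n - κ)) := by
    simp only [← Finset.sum_add_distrib, ← Finset.sum_sub_distrib]
    exact Finset.sum_congr rfl fun _ _ => by ring
  rw [Finset.sum_eq_zero fun n _ => k n, sum_quad_shift hc, sum_quad_shift hc, sum_quad_shift hc,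
    sum_quad_mul hc h4.symm, sum_quad_mul hc h0.symm, sum_quad_mul hc h5] at e
  have : 0 ≤ ∑ n : F, (1 - quadraticChar F (n - 0) * quadraticChar F (n - 4) *
      quadraticChar F (n - κ)) := Finset.sum_nonneg fun n _ => by
    rw [← map_mul, ← map_mul]
    rcases tri ((n - 0) * (n - 4) * (n - κ)) with ⟨a, -⟩ | a | a <;> rw [a] <;> norm_num
  omega

end Quad

theorem exists_third {X Y : SL(2, F)} (hX : X.1.trace = 0) (hY : Y.1.trace = 0)
    (hs : (X * Y).1.trace * (X * Y).1.trace - 4 ≠ 0) {A B : F}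
    (h : IsSquare (4 - (X * Y).1.trace * (X * Y).1.trace - A * A - B * B - (X * Y).1.trace * A * B)) :
    ∃ Z : SL(2, F), Z.1.trace = 0 ∧ (X * Z).1.trace = A ∧ (Y * Z).1.trace = B := by
  obtain ⟨c, hc⟩ := h
  have dX := X.2
  have dY := Y.2
  rw [det_fin_two] at dX dY
  rw [trace_fin_two] at hX hY
  have e : (X * Y).1.trace = X.1 0 0 * Y.1 0 0 + X.1 0 1 * Y.1 1 0 +
      (X.1 1 0 * Y.1 0 1 + X.1 1 1 * Y.1 1 1) := by
    rw [trace_fin_two, sl2_mul_apply, sl2_mul_apply]
  generalize (X * Y).1.trace = s at *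
  have hX' : X.1 1 1 = -X.1 0 0 := by linear_combination hX
  have hY' : Y.1 1 1 = -Y.1 0 0 := by linear_combination hY
  rw [hX'] at dX e
  rw [hY'] at dY e
  obtain ⟨a, ha⟩ : ∃ a, a * (s * s - 4) = 2 * A + s * B := ⟨_, div_mul_cancel₀ _ hs⟩
  obtain ⟨b, hb⟩ : ∃ b, b * (s * s - 4) = 2 * B + s * A := ⟨_, div_mul_cancel₀ _ hs⟩
  obtain ⟨d, hd⟩ : ∃ d, d * (s * s - 4) = c := ⟨_, div_mul_cancel₀ _ hs⟩
  have h1 : -2 * a + b * s = A := mul_right_cancel₀ hs (by linear_combination -2 * ha + s * hb)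
  have h2 : a * s - 2 * b = B := mul_right_cancel₀ hs (by linear_combination s * ha - 2 * hb)
  have h3 : a * a + b * b - a * b * s + d * d * (4 - s * s) = 1 := mul_right_cancel₀ hs (by
    rw [← h1, ← h2, ← hd] at hc
    linear_combination hc)
  let Z : SL(2, F) := ⟨a • X.1 + b • Y.1 + d • (X.1 * Y.1 - Y.1 * X.1), by
    rw [det_fin_two]
    simp only [Matrix.add_apply, Matrix.smul_apply, Matrix.sub_apply, m2_mul, smul_eq_mul, hX', hY']
    rw [e] at h3
    linear_combination h3 + (a * a + 4 * d * d * (Y.1 0 0 * -Y.1 0 0 - Y.1 0 1 * Y.1 1 0)) * dX +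
      (b * b + 4 * d * d) * dY⟩
  have hZ : Z.1 = a • X.1 + b • Y.1 + d • (X.1 * Y.1 - Y.1 * X.1) := rfl
  refine ⟨Z, ?_, ?_, ?_⟩ <;> rw [trace_fin_two] <;>
    simp only [sl_coe_mul, hZ, Matrix.add_apply, Matrix.smul_apply, Matrix.sub_apply, m2_mul,
      smul_eq_mul, hX', hY']
  · ring
  · rw [e] at h1; linear_combination h1 - 2 * a * dX
  · rw [e] at h2; linear_combination h2 - 2 * b * dY

theorem odd_orderOf_of_sq [Fintype F] (h2 : (2 : F) ≠ 0) {u : SL(2, F)}
    (h : u.1.trace * u.1.trace - 4 = 0 ∨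
      (Fintype.card F % 4 = 3 ∧ IsSquare (u.1.trace * u.1.trace - 4))) :
    Odd (orderOf (u : PSL(2, F))) := by
  obtain ⟨p, hp⟩ := CharP.exists F
  have : Fact p.Prime := ⟨CharP.char_is_prime F p⟩
  rcases m2_cases u.1 with h1 | ⟨a, h1⟩ | ⟨a, b, h1⟩ | h1
  · rw [(QuotientGroup.eq_one_iff u).2 (sl_mem_center_iff.2 h1), orderOf_one]; exact odd_one
  · rw [← orderOf_psl, psl2pgl_mk, smk_un_pow p h1]
    exact this.out.odd_of_ne_two (char_ne_two p h2)
  · have h3 := (h.resolve_left h1.sl_disc).1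
    have := orderOf_psl_dvd (g := sgl u) h1.disc_ne_zero (x := u) (pmk_mem_pT_self _)
    rw [card_pT_sp h1, gcd_eq_two (by omega)] at this
    exact Odd.of_dvd_nat (Nat.odd_iff.2 (by omega)) this
  · obtain ⟨-, r, hr⟩ := h.resolve_left h1.sl_disc
    refine (h1 ((u.1.trace + r) / 2) ?_).elim
    rw [u.2]
    field_simp
    linear_combination -hr

theorem odd_orderOf_two [Fintype F] (h2 : (2 : F) = 0) {u : SL(2, F)} (h : u.1.trace ≠ 0) :
    Odd (orderOf (u : PSL(2, F))) := by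
  have hg : disc (sgl u).1 ≠ 0 := by
    rw [sl_disc, show (4 : F) = 2 * 2 by norm_num, h2, mul_zero, sub_zero]; exact mul_ne_zero h h
  have h3 := orderOf_psl_dvd hg (x := u) (pmk_mem_pT_self _)
  have h4 := even_card_of_two h2
  have h5 := one_lt_card' (F := F)
  rw [gcd_eq_one h4 (by omega), Nat.div_one] at h3
  refine Odd.of_dvd_nat (Nat.odd_iff.2 ?_) h3
  rcases card_pT hg with h | h <;> omega

theorem exists_common_inv [Fintype F] (h4 : 4 ≤ Fintype.card F) {x y : PSL(2, F)}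
    (hx : orderOf x = 2) (hy : orderOf y = 2) (h : ¬ Odd (orderOf (x * y))) :
    ∃ z, orderOf z = 2 ∧ Odd (orderOf (x * z)) ∧ Odd (orderOf (y * z)) := by
  classical
  obtain ⟨X, rfl⟩ := QuotientGroup.mk_surjective x
  obtain ⟨Y, rfl⟩ := QuotientGroup.mk_surjective y
  have tX : X.1.trace = 0 := trace_eq_zero_of_ord2 (by rw [← psl2pgl_mk, orderOf_psl, hx])
  have tY : Y.1.trace = 0 := trace_eq_zero_of_ord2 (by rw [← psl2pgl_mk, orderOf_psl, hy])
  by_cases h2 : (2 : F) = 0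
  · have : CharP F 2 := CharTwo.of_one_ne_zero_of_two_eq_zero one_ne_zero h2
    have k : ∀ X : SL(2, F), orderOf (X : PSL(2, F)) = 2 → X.1.trace = 0 →
        X.1 0 1 ≠ 0 ∨ X.1 1 0 ≠ 0 := fun X hX tX => by
      by_contra h
      push Not at h
      rw [trace_fin_two] at tX
      refine not_sc_of_ne_one (fun h => ?_) ⟨h.1, h.2, by linear_combination tX - X.1 1 1 * h2⟩
      rw [h, orderOf_one] at hX; omega
    have k2 : ∀ b c : F, b * c = 0 ∨ b = c → b ≠ 0 ∨ c ≠ 0 → X.1 0 1 * c + X.1 1 0 * b ≠ 0 →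
        Y.1 0 1 * c + Y.1 1 0 * b ≠ 0 → ∃ z : PSL(2, F), orderOf z = 2 ∧
          Odd (orderOf ((X : PSL(2, F)) * z)) ∧ Odd (orderOf ((Y : PSL(2, F)) * z)) := by
      intro b c h1 h3 h5 h6
      obtain ⟨a, ha⟩ : ∃ a : F, a * a - b * c = 1 := by
        rcases h1 with h1 | rfl
        exacts [⟨1, by rw [h1]; ring⟩, ⟨1 + b, by linear_combination b * h2⟩]
      let Z : SL(2, F) := ⟨!![a, b; c, a], by rw [det_fin_two_of, ha]⟩
      have hZ : Z.1 = !![a, b; c, a] := rfl
      have k3 : ∀ W : SL(2, F), W.1.trace = 0 → (W * Z).1.trace = W.1 0 1 * c + W.1 1 0 * b :=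
        fun W hW => by
          rw [trace_fin_two] at hW ⊢
          simp only [sl2_mul_apply, hZ, of_apply, cons_val', cons_val_zero, cons_val_one,
            cons_val_fin_one]
          linear_combination a * hW
      refine ⟨Z, ?_, odd_orderOf_two h2 (by rwa [k3 X tX]), odd_orderOf_two h2 (by rwa [k3 Y tY])⟩
      rw [← orderOf_psl, psl2pgl_mk]
      refine orderOf_eq_prime ?_ fun h => h3.elim (fun h3 => h3 (smk_eq_one_iff.1 h).1)
        fun h3 => h3 (smk_eq_one_iff.1 h).2.1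
      rw [← map_pow, sq, sl_sq_of_trace, smk_neg, map_one]
      rw [trace_fin_two_of, ← two_mul, h2, zero_mul]
    have kX := k X hx tX
    have kY := k Y hy tY
    by_cases a1 : X.1 0 1 ≠ 0 ∧ Y.1 0 1 ≠ 0
    · exact k2 0 1 (by simp) (by simp) (by simpa using a1.1) (by simpa using a1.2)
    by_cases a2 : X.1 1 0 ≠ 0 ∧ Y.1 1 0 ≠ 0
    · exact k2 1 0 (by simp) (by simp) (by simpa using a2.1) (by simpa using a2.2)
    by_cases a3 : X.1 0 1 = 0
    · have a4 := kX.resolve_left (not_not.2 a3)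
      have a5 : Y.1 1 0 = 0 := by_contra fun h => a2 ⟨a4, h⟩
      exact k2 1 1 (by simp) (by simp) (by simpa [a3] using a4) (by simpa [a5] using kY)
    · have a4 : Y.1 0 1 = 0 := by_contra fun h => a1 ⟨a3, h⟩
      have a5 := kY.resolve_left (not_not.2 a4)
      have a6 : X.1 1 0 = 0 := by_contra fun h => a2 ⟨h, a5⟩
      exact k2 1 1 (by simp) (by simp) (by simpa [a6] using a3) (by simpa [a4] using a5)
  have hq := odd_card_of_two_ne_zero h2
  have h' := mt (odd_orderOf_of_sq h2 (u := X * Y)) h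
  rw [not_or] at h'
  have fin : ∀ A B : F, IsSquare (4 - (X * Y).1.trace * (X * Y).1.trace - A * A - B * B -
      (X * Y).1.trace * A * B) → (A * A - 4 = 0 ∨ (Fintype.card F % 4 = 3 ∧ IsSquare (A * A - 4))) →
      (B * B - 4 = 0 ∨ (Fintype.card F % 4 = 3 ∧ IsSquare (B * B - 4))) → ∃ z : PSL(2, F),
      orderOf z = 2 ∧ Odd (orderOf ((X : PSL(2, F)) * z)) ∧ Odd (orderOf ((Y : PSL(2, F)) * z)) := by
    intro A B h1 h3 h5
    obtain ⟨Z, h6, h7, h8⟩ := exists_third tX tY h'.1 h1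
    exact ⟨Z, by rw [← orderOf_psl, psl2pgl_mk, ord2_of_trace h2 h6],
      odd_orderOf_of_sq h2 (u := X * Z) (by rwa [h7]), odd_orderOf_of_sq h2 (u := Y * Z) (by rwa [h8])⟩
  by_cases h3 : Fintype.card F % 4 = 3
  swap
  · obtain ⟨i, hi⟩ := FiniteField.isSquare_neg_one_iff.2 h3
    exact fin 2 2 ⟨i * ((X * Y).1.trace + 2), by
      linear_combination ((X * Y).1.trace + 2) ^ 2 * hi⟩ (Or.inl (by norm_num)) (Or.inl (by norm_num))
  have hm : ¬ IsSquare (-1 : F) := by rw [FiniteField.isSquare_neg_one_iff, not_not]; exact h3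
  have neg : ∀ a : F, ¬ IsSquare a → IsSquare (-a) := fun a ha => by
    simpa using isSquare_mul_of_not hm ha
  have sq : ∀ a : F, quadraticChar F a = 1 → a ≠ 0 ∧ IsSquare a := fun a ha => by
    have : a ≠ 0 := fun h => by rw [h, MulChar.map_zero] at ha; omega
    exact ⟨this, (quadraticChar_one_iff_isSquare this).1 ha⟩
  have h5 : ¬ IsSquare ((X * Y).1.trace * (X * Y).1.trace - 4) := fun h => h'.2 ⟨h3, h⟩
  have h6 := h'.1
  generalize (X * Y).1.trace = s at *
  by_cases hs : s = 0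
  · obtain ⟨l, h7, h8⟩ : ∃ l : F, l ≠ 0 ∧ l * l ≠ 1 := by
      by_contra H
      push Not at H
      have : (Finset.univ : Finset F) ⊆ {0, 1, -1} := fun l _ => by
        by_cases hl : l = 0
        · simp [hl]
        · rcases mul_self_eq_one_iff.1 (H l hl) with h | h <;> simp [h]
      have := (Finset.card_le_card this).trans Finset.card_le_three
      rw [Finset.card_univ] at this
      omega
    have h9 : l + l⁻¹ ≠ 0 := fun h => hm ⟨l, by
      field_simp at h; linear_combination -h⟩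
    have h10 : (l + l⁻¹) * (l + l⁻¹) - 4 = (l - l⁻¹) * (l - l⁻¹) := by field_simp; ring
    have h11 : l - l⁻¹ ≠ 0 := fun h => h8 (by field_simp at h; linear_combination h)
    obtain ⟨n, a1, a2, a3⟩ := exists_sq_sq_nsq h3 (κ := 4 - (l + l⁻¹) * (l + l⁻¹))
      (fun h => mul_ne_zero h11 h11 (by linear_combination -h - h10))
      (by rw [sub_sub_cancel, ← _root_.sq, quadraticChar_sq_one' h9])
    obtain ⟨B, rfl⟩ := (sq n a1).2
    refine fin (l + l⁻¹) B ?_ (Or.inr ⟨h3, _, h10⟩) (Or.inr ⟨h3, (sq _ a2).2⟩)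
    have := neg _ (quadraticChar_neg_one_iff_not_isSquare.1 a3)
    rwa [hs, show 4 - 0 * 0 - (l + l⁻¹) * (l + l⁻¹) - B * B - 0 * (l + l⁻¹) * B =
      -(B * B - (4 - (l + l⁻¹) * (l + l⁻¹))) by ring]
  obtain ⟨n, a1, a2, a3⟩ := exists_sq_sq_nsq h3 (κ := s * s) (mul_ne_zero hs hs)
    ((quadraticChar_one_iff_isSquare (fun h => h6 (by linear_combination -h))).2
      (by simpa using neg _ h5))
  obtain ⟨m, A, rfl, hm2⟩ : ∃ m A : F, n = m * m ∧ m + 2 = A * A := by
    obtain ⟨m, rfl⟩ := (sq n a1).2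
    by_cases h7 : IsSquare (m + 2)
    · obtain ⟨A, hA⟩ := h7; exact ⟨m, A, rfl, hA⟩
    · by_cases h8 : IsSquare (-m + 2)
      · obtain ⟨A, hA⟩ := h8; exact ⟨-m, A, by ring, hA⟩
      · have h9 := isSquare_mul_of_not h7 h8
        refine (not_isSquare_mul (sq _ a2).2 (sq _ a2).1 hm ?_).elim
        rwa [show (m * m - 4) * -1 = (m + 2) * (-m + 2) by ring]
  have h7 : IsSquare (A * A - 4) := by
    by_contra h7
    refine not_isSquare_mul ⟨A, rfl⟩ (fun h => (sq _ a2).1 ?_) h7 ?_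
    · linear_combination (m - 2) * hm2 + (m - 2) * h
    · rw [← hm2, show (m + 2) * (m + 2 - 4) = m * m - 4 by ring]; exact (sq _ a2).2
  have h8 := quadraticChar_neg_one_iff_not_isSquare.1 a3
  by_cases h9 : IsSquare ((2 + s) * (m + s))
  · refine fin A (-A) ?_ (Or.inr ⟨h3, h7⟩) (Or.inr ⟨h3, by rwa [neg_mul_neg]⟩)
    have h10 : ¬ IsSquare ((2 - s) * (m - s)) := fun h10 => not_isSquare_mul (neg _ h5)
      (neg_ne_zero.2 h6) h8 (by
        rw [show -(s * s - 4) * (m * m - s * s) = (2 + s) * (m + s) * ((2 - s) * (m - s)) by ring]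
        exact h9.mul h10)
    have := neg _ h10
    rwa [show 4 - s * s - A * A - -A * -A - s * A * -A = -((2 - s) * (m - s)) by
      linear_combination (2 - s) * hm2]
  · refine fin A A ?_ (Or.inr ⟨h3, h7⟩) (Or.inr ⟨h3, h7⟩)
    have := neg _ h9
    rwa [show 4 - s * s - A * A - A * A - s * A * A = -((2 + s) * (m + s)) by
      linear_combination (2 + s) * hm2]

end H4
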