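import Cfsg.Agent.H4.Tor3

/-!
Conjugacy of the subgroups `A₅` of `PGL₂(q)`.
-/

set_option autoImplicit false

namespace H4

open Matrix MulAction
open scoped MatrixGroups LinearAlgebra.Projectivization commutatorElement

variable {F : Type*} [Field F]

theorem a5_other : ∃ g h : alternatingGroup (Fin 5),
    g * a5a * g⁻¹ * a5b = h * (a5a * a5b * (a5a * a5b)) * h⁻¹ := by
  decide +kernel

theorem V4_equiv_a5 [Finite F] {A B : SL(2, F)} {τ : F} (hτ : τ * τ = τ + 1) (hA : A.1.trace = 0)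
    (hB : B.1.trace = 1) (hAB : (A * B).1.trace = τ) :
    Nonempty (V4 (smk A) (smk B) ≃* alternatingGroup (Fin 5)) := by
  obtain ⟨φ, hφ, h5, h6⟩ := exists_hom_a5 hτ hA hB hAB
  refine ⟨(MulEquiv.subgroupCongr ?_).trans (MonoidHom.ofInjective hφ).symm⟩
  rw [MonoidHom.range_eq_map, ← closure_a5, map_V4, h5, h6]

theorem a5_gens' [Finite F] {M : Subgroup PGL(2, F)}
    (h : Nonempty (M ≃* alternatingGroup (Fin 5))) {τ : F} (hτ : τ * τ = τ + 1) :
    ∃ A B : SL(2, F), A.1.trace = 0 ∧ B.1.trace = 1 ∧ (A * B).1.trace = τ ∧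
      M = V4 (smk A) (smk B) := by
  obtain ⟨A, B, t, ht, tA, tB, tAB, rfl⟩ := a5_gens h
  rcases mul_eq_zero.1 (show (t - τ) * (t - (1 - τ)) = 0 by linear_combination ht - hτ) with h1 | h1
  · exact ⟨A, B, tA, tB, tAB.trans (sub_eq_zero.1 h1), rfl⟩
  obtain ⟨φ, hφ, h5, h6⟩ := exists_hom_a5 ht tA tB tAB
  have h2 : φ.range = V4 (smk A) (smk B) := by
    rw [MonoidHom.range_eq_map, ← closure_a5, map_V4, h5, h6]
  have h3 : ∀ g, ∃ G : SL(2, F), smk G = φ g := fun g => mem_pL.1 (a5_le_pL h (h2.le ⟨g, rfl⟩))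
  obtain ⟨g, k, h4⟩ := a5_other
  obtain ⟨G, hG⟩ := h3 g
  obtain ⟨K, hK⟩ := h3 k
  have h7 : smk (G * A * G⁻¹) ∈ V4 (smk A) (smk B) := h2.le ⟨g * a5a * g⁻¹, by
    simp only [map_mul, map_inv, hG, h5]⟩
  have h8 : smk (K * (A * B * (A * B)) * K⁻¹) = smk (G * A * G⁻¹ * B) := by
    simpa only [map_mul, map_inv, hG, hK, ← h5, ← h6] using congrArg φ h4.symm
  have h9 : (K * (A * B * (A * B)) * K⁻¹).1.trace = -τ := by
    rw [← sl_trace_of_isConj (isConj_iff.2 ⟨K, rfl⟩), sl_coe_mul, sl_cayley, trace_sub, trace_smul,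
      tAB, trace_one]
    simp only [smul_eq_mul, Fintype.card_fin, Nat.cast_ofNat]
    linear_combination ht + h1
  have h10 : (G * A * G⁻¹).1.trace = 0 := (sl_trace_of_isConj (isConj_iff.2 ⟨G, rfl⟩)).symm.trans tA
  obtain ⟨A', h11, h12, h13⟩ : ∃ A' : SL(2, F), smk A' ∈ V4 (smk A) (smk B) ∧ A'.1.trace = 0 ∧
      (A' * B).1.trace = τ := by
    rcases smk_eq_iff.1 h8 with h11 | h11
    · exact ⟨-(G * A * G⁻¹), by rwa [smk_neg], by rw [sl_neg_val, trace_neg, h10, neg_zero],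
        by rw [neg_mul, sl_neg_val, trace_neg, h11, h9, neg_neg]⟩
    · exact ⟨_, h7, h10, by rw [h11, sl_neg_val, trace_neg, h9, neg_neg]⟩
  refine ⟨A', B, h12, tB, h13, (eq_of_le_of_card ((Subgroup.closure_le _).2 ?_) ?_).symm⟩
  · rintro _ (rfl | rfl)
    exacts [h11, right_mem_V4 _ _]
  · rw [card_of_equiv h, card_of_equiv (V4_equiv_a5 hτ h12 tB h13)]

theorem a5_conj [Finite F] {M M' : Subgroup PGL(2, F)}
    (h : Nonempty (M ≃* alternatingGroup (Fin 5))) (h' : Nonempty (M' ≃* alternatingGroup (Fin 5))) :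
    ∃ g : PGL(2, F), M' = cj M g := by
  obtain ⟨A, B, t, ht, tA, tB, tAB, rfl⟩ := a5_gens h'
  obtain ⟨A', B', tA', tB', tAB', rfl⟩ := a5_gens' h ht
  obtain ⟨P, rfl, rfl⟩ := exists_conj_pair_sl (A := A') (B := B') (by
    rw [det_comm_eq, ← sl_coe_mul, tA', tB', tAB', A'.2, B'.2]
    intro h
    exact one_ne_zero (α := F) (by linear_combination (t + 1) * h + (t + 3) * ht - ht))
    (tA'.trans tA.symm) (tB'.trans tB.symm) (tAB'.trans tAB.symm)
  refine ⟨pmk P, ?_⟩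
  rw [cj, map_V4, smk_conjSL, smk_conjSL]
  rfl

theorem normalizer_a5 [Fintype F] (hq : (Fintype.card F).Prime) (h7 : 7 ≤ Fintype.card F)
    {M : Subgroup PGL(2, F)} (h : Nonempty (M ≃* alternatingGroup (Fin 5))) :
    Subgroup.normalizer (M : Set PGL(2, F)) = M := by
  obtain ⟨p, hp⟩ := CharP.exists F
  have : Fact p.Prime := ⟨CharP.char_is_prime F p⟩
  have h2 := two_ne_zero_of_odd (hq.odd_of_ne_two (by omega))
  have h60 := (card_of_equiv h).trans card_a5
  have h1 := Subgroup.card_le_of_le (Subgroup.le_normalizer (H := M))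
  obtain ⟨A, hA, e⟩ := exists_a4_le_a5 h
  rcases over_has4 p (char_ne_two p h2) (has4_of_a4 e) (hA.trans Subgroup.le_normalizer) with
    h3 | h3 | h3 | ⟨E, P, -, h3⟩
  · rw [card_of_equiv h3, card_a4] at h1; omega
  · rw [card_of_equiv h3, card_s4] at h1; omega
  · exact (eq_of_le_of_card Subgroup.le_normalizer (by rw [card_of_equiv h3, card_a5, h60])).symm
  · obtain rfl := eq_top_of_prime (by rwa [Nat.card_eq_fintype_card]) E
    have h4 : pL F ≤ Subgroup.normalizer (M : Set PGL(2, F)) := by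
      rcases h3 with h3 | h3 <;> rw [h3]
      · rw [pslS_top, cj_pL]
      · rw [pglS_top, cj_top]; exact le_top
    have := isSimpleGroup_pL (F := F) (by omega)
    rcases ((Subgroup.normal_subgroupOf_iff_le_normalizer (a5_le_pL h)).2 h4).eq_bot_or_eq_top
      with h5 | h5
    · rw [(Subgroup.subgroupOf_eq_bot.1 h5).eq_bot_of_le (a5_le_pL h), Subgroup.card_bot] at h60
      omega
    · exact (ne_pL_of_card h7 (by rw [h60]; norm_num)
        (le_antisymm (a5_le_pL h) (Subgroup.subgroupOf_eq_top.1 h5))).elim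

end H4
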