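import Cfsg.Agent.H7.Bh
import Cfsg.Agent.H29.Mathieu

/-! The subgroup of order three is inverted in a group of shape `2^(1+12).3.M22.2`. -/

set_option autoImplicit false
set_option linter.unusedVariables false
open Subgroup H7B Cfsg Cfsg.Spor

namespace H4.B6

variable {C : Type*} [Group C] [Finite C] {Q N M : Subgroup C} [N.Normal]

theorem b6' (c22 : Nat.card M22 = 443520) (z22 : Function.Injective (MulAut.conj : M22 →* MulAut M22))
    (h : St Q N M) (π : C →* MulAut M22) (s : Function.Surjective π) (k : π.ker = N)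
    (a b : M22) (α : MulAut M22) (ab : a * b = b * a) (c9 : Nat.card (closure ({a, b} : Set M22)) = 9)
    (e1 : α a = a) (e2 : α b = b⁻¹) (P : Subgroup C) (hP : P ≤ N) (h3 : Nat.card P = 3) :
    normalizer (P : Set C) ≠ centralizer (P : Set C) := fun e => by
  have := h.nQ
  have : Fact (Nat.Prime 3) := ⟨by norm_num⟩
  let q := QuotientGroup.mk' Q
  have qs : Function.Surjective q := QuotientGroup.mk'_surjective Q
  obtain ⟨⟨p, pP⟩, hp⟩ := exists_prime_orderOf_dvd_card' (G := P) 3 (by rw [h3])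
  rw [← orderOf_coe] at hp
  have p3 : orderOf (q p) = 3 := orderOf_eq_prime (by rw [← map_pow, ← hp, pow_orderOf_eq_one, map_one]) fun e => by
    have := Q.orderOf_dvd_natCard ((QuotientGroup.eq_one_iff p).1 e)
    rw [show orderOf p = 3 from hp, h.hcard] at this
    omega
  have nq : ∀ n ∈ N, q n ∈ zpowers (q p) := by
    have c1 : Nat.card (N.map q) = 3 := by
      have := (q.comp N.subtype).ker.card_mul_index
      rw [index_ker, ← MonoidHom.map_range, range_subtype, ← MonoidHom.comap_ker, QuotientGroup.ker_mk',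
        h.hN, show comap N.subtype Q = Q.subgroupOf N from rfl,
        Nat.card_congr (subgroupOfEquivOfLe h.hQN).toEquiv, h.hcard] at this
      omega
    have := eq_of_le_of_card_ge (zpowers_le_of_mem (mem_map_of_mem q (hP pP))) (by rw [c1, Nat.card_zpowers, p3])
    exact fun n hn => this.ge (mem_map_of_mem q hn)
  have sy : ∀ R ≤ N, Nat.card R = 3 → ∃ S : Sylow 3 N, S = R.subgroupOf N := fun R l c => by
    have c' : Nat.card (R.subgroupOf N) = 3 ^ 1 := (Nat.card_congr (subgroupOfEquivOfLe l).toEquiv).trans c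
    have := (R.subgroupOf N).card_mul_index
    rw [c', h.hN, h.hcard] at this
    exact ⟨(IsPGroup.of_card c').toSylow (by omega), rfl⟩
  have cp : ∀ d, d * q p = q p * d := fun d => by
    obtain ⟨c, rfl⟩ := qs d
    obtain ⟨S, hS⟩ := sy P hP h3
    obtain ⟨T, hT⟩ := sy (P.map (MulAut.conj c).toMonoidHom) (by
      rintro _ ⟨x, hx, rfl⟩; exact ‹N.Normal›.conj_mem x (hP hx) c)
      (by rw [card_map_of_injective (MulAut.conj c).injective, h3])
    obtain ⟨n, rfl⟩ := MulAction.exists_smul_eq N T S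
    have k1 : (n : C) * c ∈ normalizer (P : Set C) := mem_normalizer_fintype fun x hx => by
      have : n * ⟨c * x * c⁻¹, ‹N.Normal›.conj_mem x (hP hx) c⟩ * n⁻¹ ∈ ((n • T : Sylow 3 N) : Subgroup N) :=
        ⟨⟨c * x * c⁻¹, ‹N.Normal›.conj_mem x (hP hx) c⟩, by rw [SetLike.mem_coe, hT]; exact ⟨x, hx, rfl⟩, rfl⟩
      rw [hS] at this
      simpa [mem_subgroupOf, mul_assoc] using this
    rw [e] at k1
    have k2 := congrArg q (k1 p pP)
    obtain ⟨i, hi⟩ := nq n n.2
    have hi : q p ^ i = q n := hi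
    simp only [map_mul, ← hi] at k2
    rw [← mul_assoc, ((Commute.refl (q p)).zpow_right i).eq, mul_assoc, mul_assoc, mul_right_inj] at k2
    exact k2.symm
  have cn : ∀ n, π n = 1 → ∀ d, d * q n = q n * d := fun n hn d => by
    obtain ⟨i, hi⟩ := nq n (k ▸ hn)
    rw [← hi]; exact (Commute.zpow_right (cp d) i).eq
  obtain ⟨A, hA⟩ := s (MulAut.conj a)
  obtain ⟨B, hB⟩ := s (MulAut.conj b)
  obtain ⟨c, hc⟩ := s α
  have cj : ∀ x, α * MulAut.conj x * α⁻¹ = MulAut.conj (α x) := fun x => MulEquiv.ext fun y => by simp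
  have w1 : π (A * B * A⁻¹ * B⁻¹) = 1 := by
    simp only [map_mul, map_inv, hA, hB]
    rw [← map_mul, ab, map_mul]; group
  have u1 := cn (c * A * c⁻¹ * A⁻¹) (by simp only [map_mul, map_inv, hA, hc, cj, e1, mul_inv_cancel])
  have u2 := cn (c * B * c⁻¹ * B) (by simp only [map_mul, map_inv, hB, hc, cj, e2, inv_mul_cancel])
  have w2 := cn _ w1
  have w3 : q (A * B * A⁻¹ * B⁻¹) ^ 3 = 1 := by
    obtain ⟨i, hi⟩ := nq _ (k.le w1)
    rw [← hi, ← zpow_natCast, ← zpow_mul, mul_comm, zpow_mul, zpow_natCast, ← p3, pow_orderOf_eq_one, one_zpow]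
  simp only [map_mul, map_inv] at u1 u2 w2 w3
  have AB : q A * q B = q B * q A := by
    generalize q A = x at *; generalize q B = y at *; generalize q c = g at *
    obtain ⟨u, hu⟩ : ∃ u, u = g * x * g⁻¹ * x⁻¹ := ⟨_, rfl⟩
    obtain ⟨v, hv⟩ : ∃ v, v = g * y * g⁻¹ * y := ⟨_, rfl⟩
    obtain ⟨w, hw⟩ : ∃ w, w = x * y * x⁻¹ * y⁻¹ := ⟨_, rfl⟩
    rw [← hu] at u1; rw [← hv] at u2; rw [← hw] at w2 w3
    have f1 : w = u * x * (v * y⁻¹) * (u * x)⁻¹ * (v * y⁻¹)⁻¹ := by
      calc w = g * w * g⁻¹ := by rw [w2, mul_inv_cancel_right]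
        _ = _ := by rw [hu, hv, hw]; group
    have f2 : w = x * y⁻¹ * x⁻¹ * y := by
      calc w = u * (x * v * y⁻¹ * x⁻¹) * u⁻¹ * y * v⁻¹ := by rw [f1]; group
        _ = v * (x * y⁻¹ * x⁻¹ * y) * v⁻¹ := by rw [← u1, u2 x]; group
        _ = _ := by rw [← u2]; group
    have f3 : w * w = 1 := by
      have f4 : x * y⁻¹ * x⁻¹ * y = y⁻¹ * w⁻¹ * y := by rw [hw]; group
      have f5 : y⁻¹ * w⁻¹ * y = w⁻¹ := by
        rw [mul_assoc, ← (Commute.inv_right (w2 y)).eq, inv_mul_cancel_left]
      rw [f4, f5] at f2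
      exact mul_eq_one_iff_eq_inv.2 f2
    rw [pow_succ, sq, f3, one_mul, hw, mul_inv_eq_one, mul_inv_eq_iff_eq_mul] at w3
    exact w3
  let S := closure ({q A, q B, q p} : Set (C ⧸ Q))
  letI : CommGroup S := closureCommGroupOfComm (by
    rintro _ (rfl | rfl | rfl) _ (rfl | rfl | rfl) <;> first | rfl | exact AB | exact AB.symm | exact cp _ | exact (cp _).symm)
  have t1 := MonoidHom.transfer_eq_pow (MonoidHom.id S) (q p) fun i g _ => by
    rw [mul_assoc, ← (Commute.pow_right (cp g) i).eq, inv_mul_cancel_left]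
  have t2 : q p ∈ commutator (C ⧸ Q) := by
    have := mem_map_of_mem q (h.hperf (h.hNM (hP pP)))
    rw [Subgroup.map_sup, map_commutator, QuotientGroup.map_mk'_self, sup_bot_eq] at this
    exact commutator_mono le_top le_top this
  rw [Abelianization.commutator_subset_ker _ t2] at t1
  have t3 : 3 ∣ S.index := p3 ▸ orderOf_dvd_of_pow_eq_one (congrArg Subtype.val t1).symm
  let T := ((closure {a, b}).map (MulAut.conj : M22 →* MulAut M22)).comap π
  have t4 : T.map q ≤ S := by
    have : T ≤ S.comap q := by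
      have l : N ≤ S.comap q := fun n hn => (zpowers_le_of_mem (subset_closure (by simp))) (nq n hn)
      rw [← comap_map_eq_self (H := S.comap q) (f := π) (k ▸ l)]
      refine comap_mono ?_
      rw [MonoidHom.map_closure, closure_le]
      rintro _ ⟨_, rfl | rfl, rfl⟩
      · exact ⟨A, subset_closure (by simp), hA⟩
      · exact ⟨B, subset_closure (by simp), hB⟩
    exact map_le_iff_le_comap.2 this
  have t5 := t3.trans (index_dvd_of_le t4)
  rw [index_map_eq _ qs (by
    rw [QuotientGroup.ker_mk']; exact h.hQN.trans (k ▸ ker_le_comap _ _)), index_comap_of_surjective _ s] at t5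
  have t6 := ((closure {a, b}).map (MulAut.conj : M22 →* MulAut M22)).card_mul_index
  have t7 := index_ker π
  obtain ⟨e⟩ := h.hM22
  rw [k, MonoidHom.range_eq_top.2 s, card_top, ← relIndex_mul_index h.hNM, h.hM, relIndex, index,
    Nat.card_congr e.toEquiv, c22] at t7
  rw [card_map_of_injective z22, c9, ← t7] at t6
  omega

end H4.B6
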