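import Cfsg.Agent.H5.Component
import Cfsg.Agent.H22.Linear

set_option autoImplicit false
set_option linter.unusedSimpArgs false

/-! The block subgroup `SL_m` of `SL_(m+1)`. -/

namespace H4.Blk

open Matrix Subgroup Cfsg
open scoped MatrixGroups

variable {F : Type*} [Field F] {m : ℕ}

/-- The projection onto the last coordinate. -/
abbrev E (F : Type*) [Field F] (m : ℕ) : Matrix (Fin (m + 1)) (Fin (m + 1)) F := single (Fin.last m) (Fin.last m) 1

def K (F : Type*) [Field F] (m : ℕ) : Subgroup SL(m + 1, F) where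
  carrier := {k | k.1 * E F m = E F m ∧ E F m * k.1 = E F m}
  one_mem' := ⟨one_mul _, mul_one _⟩
  mul_mem' {a b} ha hb := ⟨show a.1 * b.1 * _ = _ by rw [mul_assoc, hb.1, ha.1],
    show _ * (a.1 * b.1) = _ by rw [← mul_assoc, ha.2, hb.2]⟩
  inv_mem' {a} ha := ⟨by
    rw [← ha.1, ← mul_assoc, show (a⁻¹).1 * a.1 = 1 from congrArg Subtype.val (inv_mul_cancel a), ha.1, one_mul], by
    rw [← ha.2, mul_assoc, show a.1 * (a⁻¹).1 = 1 from congrArg Subtype.val (mul_inv_cancel a), ha.2, mul_one]⟩

theorem conj_E {g g' k : Matrix (Fin (m + 1)) (Fin (m + 1)) F} (h : g * g' = 1) (hg : g * E F m = E F m * g)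
    (hk : k * E F m = E F m ∧ E F m * k = E F m) : g * k * g' * E F m = E F m ∧ E F m * (g * k * g') = E F m := by
  have h' : g' * g = 1 := mul_eq_one_comm.1 h
  have h1 : g' * E F m = E F m * g' := by
    calc g' * E F m = g' * (E F m * g) * g' := by rw [mul_assoc, mul_assoc, h, mul_one]
      _ = _ := by rw [← hg, ← mul_assoc, h', one_mul]
  exact ⟨by rw [mul_assoc, h1, mul_assoc, ← mul_assoc k, hk.1, ← mul_assoc, hg, mul_assoc, h, mul_one],
    by rw [← mul_assoc, ← mul_assoc, ← hg, mul_assoc g, hk.2, hg, mul_assoc, h, mul_one]⟩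

theorem comm_E (h2 : (2 : F) ≠ 0) {g : Matrix (Fin (m + 1)) (Fin (m + 1)) F}
    (h : g * ((2 : F) • E F m - 1) = ((2 : F) • E F m - 1) * g) : g * E F m = E F m * g := by
  rw [mul_sub, sub_mul, mul_one, one_mul, sub_left_inj, mul_smul_comm, smul_mul_assoc] at h
  exact smul_right_injective _ h2 h

def up (F : Type*) [Field F] (m : ℕ) : SL(m, F) →* SL(m + 1, F) where
  toFun A := ⟨reindex finSumFinEquiv finSumFinEquiv (fromBlocks A.1 0 0 (1 : Matrix (Fin 1) (Fin 1) F)), by
    rw [det_reindex_self, det_fromBlocks_zero₂₁]; simp⟩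
  map_one' := Subtype.ext (by simp [fromBlocks_one])
  map_mul' A B := Subtype.ext (show reindex _ _ (fromBlocks (A.1 * B.1) _ _ _) = reindex _ _ _ * reindex _ _ _ by
    simp [fromBlocks_multiply])

theorem up_val (A : SL(m, F)) :
    (up F m A).1 = reindex finSumFinEquiv finSumFinEquiv (fromBlocks A.1 0 0 (1 : Matrix (Fin 1) (Fin 1) F)) := rfl

theorem up_inj : Function.Injective (up F m) := fun _ _ h =>
  Subtype.ext (fromBlocks_inj.1 ((reindex _ _).injective (congrArg Subtype.val h))).1

theorem E_eq : E F m = reindex finSumFinEquiv finSumFinEquiv (fromBlocks 0 0 0 (1 : Matrix (Fin 1) (Fin 1) F)) := by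
  ext i j
  obtain ⟨i, rfl⟩ := (finSumFinEquiv (m := m) (n := 1)).surjective i
  obtain ⟨j, rfl⟩ := (finSumFinEquiv (m := m) (n := 1)).surjective j
  rw [reindex_apply, submatrix_apply, Equiv.symm_apply_apply, Equiv.symm_apply_apply, E, single_apply,
    show Fin.last m = finSumFinEquiv (Sum.inr (0 : Fin 1)) from Fin.ext (by simp)]
  simp only [EmbeddingLike.apply_eq_iff_eq]
  rcases i with i | i <;> rcases j with j | j <;> simp [Fin.fin_one_eq_zero]

theorem range_up : (up F m).range = K F m := by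
  ext k
  constructor
  · rintro ⟨A, rfl⟩
    constructor <;> rw [up_val] <;> simp [E_eq, fromBlocks_multiply]
  · rintro ⟨h1, h2⟩
    obtain ⟨B, hB⟩ := (reindex (finSumFinEquiv (m := m) (n := 1)) finSumFinEquiv).surjective k.1
    have hd := k.2
    rw [← fromBlocks_toBlocks B] at hB
    rw [← hB, E_eq] at h1 h2
    simp only [reindex_apply, submatrix_mul_equiv, fromBlocks_multiply] at h1 h2
    have h3 := fromBlocks_inj.1 ((reindex _ _).injective h1)
    have h4 := fromBlocks_inj.1 ((reindex _ _).injective h2)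
    simp only [Matrix.mul_zero, Matrix.mul_one, Matrix.zero_mul, Matrix.one_mul, zero_add] at h3 h4
    rw [h3.2.1, h3.2.2.2, h4.2.2.1] at hB
    rw [← hB, det_reindex_self, det_fromBlocks_zero₂₁, det_one, mul_one] at hd
    exact ⟨⟨_, hd⟩, Subtype.ext hB⟩

theorem qs_SL [Fintype F] (hm : 2 ≤ m) (h : m = 2 → 4 ≤ Fintype.card F) : IsQuasisimple SL(m, F) :=
  ⟨⟨H22.commutator_SL_fin_eq_top m h⟩, H22.PSL_fin_isSimpleGroup m hm h⟩

theorem qs_K [Fintype F] (hm : 2 ≤ m) (h : m = 2 → 4 ≤ Fintype.card F) : IsQuasisimple (K F m) :=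
  range_up (F := F) (m := m) ▸ H5.qs_of_equiv (qs_SL hm h) (MonoidHom.ofInjective up_inj)

theorem tv_mem {i j : Fin (m + 1)} (hij : i ≠ j) (hi : i ≠ Fin.last m) (hj : j ≠ Fin.last m) :
    SpecialLinearGroup.transvection hij (1 : F) ∈ K F m := by
  constructor
  · show transvection i j (1 : F) * _ = _
    rw [transvection, add_mul, one_mul, single_mul_single_of_ne _ _ _ _ hj, add_zero]
  · show _ * transvection i j (1 : F) = _
    rw [transvection, mul_add, mul_one, single_mul_single_of_ne _ _ _ _ hi.symm, add_zero]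

/-- What commutes with the block subgroup is diagonal with two eigenvalues. -/
theorem cent_K (hm : 2 ≤ m) {g : SL(m + 1, F)} (hg : g ∈ centralizer (K F m : Set SL(m + 1, F))) :
    ∃ a b : F, g.1 = diagonal fun i => if i = Fin.last m then b else a := by
  have key : ∀ i j : Fin (m + 1), i ≠ j → i ≠ Fin.last m → j ≠ Fin.last m →
      single i j (1 : F) * g.1 = g.1 * single i j 1 := fun i j hij hi hj => by
    have h : transvection i j (1 : F) * g.1 = g.1 * transvection i j 1 := congrArg Subtype.val (hg _ (tv_mem hij hi hj))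
    rwa [transvection, add_mul, mul_add, one_mul, mul_one, add_right_inj] at h
  have ex : ∀ i : Fin (m + 1), ∃ j, i ≠ j ∧ j ≠ Fin.last m := fun i => by
    by_cases h : i.val = 0
    exacts [⟨⟨1, by omega⟩, by simp [Fin.ext_iff, h], by simp [Fin.ext_iff]; omega⟩,
      ⟨⟨0, by omega⟩, by simp [Fin.ext_iff, h], by simp [Fin.ext_iff]; omega⟩]
  refine ⟨g.1 0 0, g.1 (Fin.last m) (Fin.last m), ext fun k l => ?_⟩
  rw [diagonal_apply]
  split_ifs with h1 h2
  · subst h1 h2; rfl
  · subst h1
    by_cases h0 : k = 0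
    · rw [h0]
    · simpa using congrFun (congrFun (key 0 k (Ne.symm h0) (by simp [Fin.ext_iff]; omega) h2) 0) k
  · by_cases hl : l = Fin.last m
    · obtain ⟨j, h3, h4⟩ := ex k
      have := congrFun (congrFun (key j k h3.symm h4 (hl ▸ h1)) j) l
      rwa [single_mul_apply_same, one_mul, mul_single_apply_of_ne _ _ _ _ _ (Ne.symm h1)] at this
    · obtain ⟨j, h3, h4⟩ := ex l
      have := congrFun (congrFun (key l j h3 hl h4) k) j
      rw [mul_single_apply_same, mul_one, single_mul_apply_of_ne _ _ _ _ _ h1] at this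
      exact this.symm

theorem diag_eq : (diagonal fun i : Fin (m + 1) => if i = Fin.last m then (1 : F) else -1) = (2 : F) • E F m - 1 := by
  ext i j
  by_cases h : i = j
  · subst h; by_cases h' : i = Fin.last m <;> simp [h', single_apply, eq_comm, one_add_one_eq_two, eq_sub_iff_add_eq]
  · have : ¬ (Fin.last m = i ∧ Fin.last m = j) := fun h' => h (h'.1.symm.trans h'.2)
    simp [h, single_apply, this]

theorem two_ne [Fintype F] (hF : Odd (Fintype.card F)) : (2 : F) ≠ 0 := fun h => by
  have : CharP F 2 := (CharP.charP_iff_prime_eq_zero Nat.prime_two).2 h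
  exact absurd (FiniteField.even_card_of_char_two (ringChar.eq F 2)) (by obtain ⟨k, hk⟩ := hF; omega)

end H4.Blk
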