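import Cfsg.Agent.H2.Sm4
import Cfsg.Agent.H13.Dc
/-! Simple groups whose order divides 95040 and is divisible by eleven. -/
set_option autoImplicit false
set_option linter.unusedSectionVars false
open Cfsg H19 Subgroup H2
open H17 hiding dg
open H20 (cent nrm)
namespace H4.Db
variable {G : Type*} [Group G] [Finite G]

theorem sumz (y : G) [Fintype (zpowers y)] (F : G → ℂ) :
    ∑ q : zpowers y, F q = ∑ k ∈ Finset.range (orderOf y), F (y ^ k) := by
  rw [← (finEquivZPowers (isOfFinOrder_of_finite y)).sum_comp, ← Fin.sum_univ_eq_sum_range fun k => F (y ^ k)]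
  rfl

theorem inv4 (hG : commutator G = ⊤) {χ : G → ℂ} (hχ : IsCharacter G χ) {u : G} (hu : u * u = 1) :
    ∃ k : ℕ, χ 1 = χ u + 4 * k := by
  classical
  obtain ⟨n, l, hn, hl⟩ := (hχ.restrict (zpowers u)).exists_sum_linear (ch_comm_zpowers u)
  set v : zpowers u := ⟨u, mem_zpowers u⟩
  have h3 := ch_det_prod hG hχ (zpowers u).subtype l hl v
  have h : ∀ i, l i v = 1 ∨ l i v = -1 := fun i => by
    have : (l i v : ℂ) * l i v = 1 := by
      rw [← Units.val_mul, ← map_mul, show v * v = 1 from Subtype.ext hu, map_one, Units.val_one]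
    exact (mul_self_eq_one_iff.1 this).imp (fun e => Units.ext e) fun e => Units.ext e
  have h1 : χ 1 = ∑ i, (l i 1 : ℂ) := hl 1
  have h2 : χ u = ∑ i, (l i v : ℂ) := hl v
  rw [← Finset.prod_filter_mul_prod_filter_not _ fun i => l i v = 1,
    Finset.prod_eq_one fun i hi => (Finset.mem_filter.1 hi).2, one_mul,
    Finset.prod_congr rfl fun i hi => (h i).resolve_left (Finset.mem_filter.1 hi).2, Finset.prod_const] at h3
  obtain ⟨k, hk⟩ := (neg_one_pow_eq_one_iff_even (by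
    intro e; have := congrArg Units.val e; norm_num at this)).1 h3
  refine ⟨k, ?_⟩
  have h4 : ∑ i, ((l i 1 : ℂ) - l i v) = ∑ i with ¬ l i v = 1, (2 : ℂ) := by
    rw [Finset.sum_filter]
    refine Finset.sum_congr rfl fun i _ => ?_
    by_cases e : l i v = 1
    · simp [e]
    · simp [(h i).resolve_left e]; norm_num
  rw [Finset.sum_sub_distrib, ← h1, ← h2, Finset.sum_const, hk] at h4
  simp only [nsmul_eq_mul, Nat.cast_add] at h4
  linear_combination h4

theorem num (d : ℕ) (h : d < 126) (h1 : d ∣ 1440) (h2 : d % 11 = 1 ∨ d % 11 = 10) (h3 : d ≠ 1) (h4 : d ≠ 10) :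
    d = 12 ∨ d = 32 ∨ d = 45 ∨ d = 120 := by
  interval_cases d <;> simp_all

theorem no15840 [IsSimpleGroup G] (h : Nat.card G = 15840) [Fact (Nat.Prime 11)] (P : Sylow 11 G)
    (hP : Nat.card (P : Subgroup G) = 11)
    (hc : Nat.card (cent (P : Subgroup G)) = 11) (he : (cent (P : Subgroup G)).relIndex (nrm (P : Subgroup G)) = 10) :
    False := by
  classical
  have := Fact.mk Nat.prime_five
  have hG : ¬ IsMulCommutative G := sm_noncomm_of_card (by rw [h]; norm_num)
  have hp := sm_commutator_eq_top hG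
  have hC : cent (P : Subgroup G) ≤ P := (eq_of_le_of_card_ge (sm_le_cent hP) (by rw [hc, hP])).ge
  have hi : (cent (P : Subgroup G)).index = 1440 := by
    have := (cent (P : Subgroup G)).card_mul_index; rw [hc, h] at this; omega
  obtain ⟨O, _, hO⟩ := exists_ovp 11
  obtain ⟨X, Y, s, ε, D⟩ := d1_exists hO (by norm_num) P hP
  rw [he] at D
  obtain ⟨θ, hθ⟩ := D.Y_nonempty
  have k1 : ∀ χ ∈ irr (B0 O G), χ ≠ triv G → dg χ = 12 ∨ dg χ = 32 ∨ dg χ = 45 ∨ dg χ = 120 := fun χ h1 h2 => by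
    have a := D.deg_cases h1 h2
    have b : dg χ ≠ 1 := ch_deg_ne_one hp h2
    have c : dg χ ∣ 1440 ∧ dg χ ^ 2 ≤ 15840 ∧ dg χ ≠ 10 := by
      rcases ((D.mem χ).1 h1).resolve_left h2 with k | k
      · refine ⟨hi ▸ D.dvdX k, ?_, fun e => ?_⟩
        · have := Finset.single_le_sum (f := fun χ => dg χ ^ 2) (fun _ _ => Nat.zero_le _) k
          have := D.sq_le hθ
          omega
        · have := D.det_X hp hC k (by omega) (by norm_num)
          rw [D.cardY'] at this; norm_num at this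
      · refine ⟨hi ▸ D.dvdY k, ?_, fun e => D.det_Y hp hC k (by omega) D.cardY'⟩
        have := D.sq_le k
        rw [D.cardY'] at this
        omega
    exact num _ (by nlinarith [c.2.1]) c.1 (by omega) b c.2.2
  have := Fintype.ofFinite (P : Subgroup G)
  have k0 : ∀ χ ∉ irr (B0 O G), ∑ x : (P : Subgroup G), (χ : G → ℂ) x = dg χ := fun χ h2 => by
    rw [ch_sum_const (fun x : (P : Subgroup G) => (χ : G → ℂ) x) 0 fun x hx => D.zero_of_not_mem hC h2
      (D.sing x.2 fun e => hx (Subtype.ext e)), mul_zero, add_zero, OneMemClass.coe_one, ← cast_deg]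
  have k2 : ∀ χ ≠ triv G, 11 ∣ dg χ ∨ dg χ = 12 ∨ dg χ = 32 ∨ dg χ = 45 ∨ dg χ = 120 := fun χ h2 => by
    by_cases h1 : χ ∈ irr (B0 O G)
    · exact .inr (k1 χ h1 h2)
    obtain ⟨m, hm⟩ := ch_sum_sub χ.2.isCharacter (P : Subgroup G)
    rw [k0 χ h1, hP] at hm
    exact .inl ⟨m, by exact_mod_cast hm⟩
  obtain ⟨Q⟩ : Nonempty (Sylow 5 G) := inferInstance
  have hQ : Nat.card (Q : Subgroup G) = 5 := sm_sylow_prime (by rw [h]; norm_num) (by rw [h]; norm_num) Q
  obtain ⟨O', _, hO'⟩ := exists_ovp 5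
  obtain ⟨X', Y', s', ε', E⟩ := d1_exists hO' (by norm_num) Q hQ
  have e1 := sm_e_dvd Q hQ
  have e2 := sm_e_ne_one hG Q (by rw [h]; norm_num)
  generalize (cent (Q : Subgroup G)).relIndex (nrm (Q : Subgroup G)) = e at E e1 e2
  obtain ⟨φ, hφ⟩ := E.Y_nonempty
  have k3 : ∀ χ ∈ X', (11 : ℤ) ∣ s' χ * dg χ := fun χ hχ => by
    have a := E.modX hχ
    have := k2 χ (E.X_ne hχ)
    rcases E.sgn χ hχ with e | e <;> rw [e] at a ⊢ <;> omega
  have q1 := E.eqn_deg hφ
  have q2 := E.modY hφ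
  have q3 := k2 φ (E.Y_ne hφ)
  have q4 := Finset.dvd_sum k3
  have e3 : e = 2 := by
    have := Nat.le_of_dvd (by norm_num) e1
    have := E.e_pos
    have : e ≠ 3 := by rintro rfl; norm_num at e1
    rcases E.eps with k | k <;> rw [k] at q1 q2 <;> omega
  subst e3
  obtain ⟨χ, rfl⟩ := Finset.card_eq_one.1 (show X'.card = 1 by have := E.cardX; omega)
  have m := Finset.mem_singleton_self χ
  rw [Finset.sum_singleton] at q1 q4
  have q5 : s' χ = 1 ∧ dg χ = 11 := by
    have q6 := E.modX m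
    rcases E.eps with k | k <;> rcases E.sgn χ m with j | j <;> rw [j] at q1 q4 q6 ⊢ <;> rw [k] at q1 q2 <;> omega
  have nb : χ ∉ irr (B0 O G) := fun k => by have := k1 χ k (E.X_ne m); omega
  obtain ⟨y, hy, ho, -⟩ := af_exists_gen hP hC he (by norm_num)
  have o5 : orderOf (y ^ 5) = 2 := by rw [orderOf_pow' _ (by norm_num), ho]; rfl
  have uP : y ^ 5 ∉ (P : Subgroup G) := fun k => by
    have := (P : Subgroup G).orderOf_dvd_natCard k
    rw [o5, hP] at this; omega
  have c1 : (χ : G → ℂ) 1 = 11 := by rw [← cast_deg]; exact_mod_cast q5.2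
  obtain ⟨k, hk⟩ := inv4 hp χ.2.isCharacter (u := y ^ 5) (by rw [← pow_two, ← o5, pow_orderOf_eq_one])
  have := Fintype.ofFinite (zpowers y)
  obtain ⟨a, ha⟩ := ch_sum_sub χ.2.isCharacter (zpowers y)
  have v : ∀ j, 5 ∣ 10 / Nat.gcd 10 j → j ≠ 0 → (χ : G → ℂ) (y ^ j) = 1 := fun j h1 h2 => by
    rw [E.valX χ m _ (by rwa [orderOf_pow' _ h2, ho]), q5.1]; simp
  rw [sumz, Nat.card_zpowers, ho] at ha
  simp only [Finset.sum_range_succ, Finset.sum_range_zero, pow_zero] at ha
  rw [v 1 (by norm_num) (by norm_num), v 2 (by norm_num) (by norm_num), v 3 (by norm_num) (by norm_num),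
    v 4 (by norm_num) (by norm_num), v 6 (by norm_num) (by norm_num), v 7 (by norm_num) (by norm_num),
    v 8 (by norm_num) (by norm_num), v 9 (by norm_num) (by norm_num)] at ha
  have := Fintype.ofFinite (zpowers (y ^ 5))
  have := Fintype.ofFinite ↥((P : Subgroup G) ⊔ zpowers (y ^ 5))
  obtain ⟨b, hb⟩ := ch_sum_sub χ.2.isCharacter ((P : Subgroup G) ⊔ zpowers (y ^ 5))
  obtain ⟨s1, s2⟩ := sm_sum_sup (P := (P : Subgroup G)) (zpowers_le.2 (pow_mem hy 5))
    (disjoint_of_coprime_natCard (by rw [hP, Nat.card_zpowers, o5]; norm_num)) (χ : G → ℂ)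
  have h2 : ∀ x : (P : Subgroup G), (χ : G → ℂ) (x * y ^ 5) = (χ : G → ℂ) (y ^ 5) := fun x => by
    obtain ⟨k, -, hk⟩ := exists_conj_of_fpf (pow_mem hy 5) (af_fpf hP hC uP) x.2
    rw [← hk, χ.2.isCharacter.isClassFunction]
  rw [s1, s2, sumz _ fun q => ∑ x : (P : Subgroup G), (χ : G → ℂ) (x * q), hP, Nat.card_zpowers, o5] at hb
  simp only [Finset.sum_range_succ, Finset.sum_range_zero, pow_zero, mul_one, pow_one, h2, k0 χ nb, q5.2,
    Finset.sum_const, Finset.card_univ, ← Nat.card_eq_fintype_card, hP, nsmul_eq_mul] at hb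
  have z1 : (30 : ℂ) = 10 * a + 4 * k := by push_cast at ha; linear_combination ha + hk - 2 * c1
  have z2 : (132 : ℂ) = 22 * b + 44 * k := by push_cast at hb; linear_combination hb + 11 * hk - 11 * c1
  have z3 : 30 = 10 * a + 4 * k := by exact_mod_cast z1
  have z4 : 132 = 22 * b + 44 * k := by exact_mod_cast z2
  have : y ^ 5 ∈ charKer (χ : G → ℂ) := by
    rw [show k = 0 by omega] at hk
    exact χ.2.mem_charKer.2 (by simpa using hk.symm)
  rw [χ.2.charKer_eq_bot_of_simple fun e => E.X_ne m (Subtype.ext e), mem_bot] at this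
  rw [this, orderOf_one] at o5
  omega

theorem tab : ∀ m ∈ Nat.divisors 8640, ∀ x ∈ Filt.par (11 * m) 11, m = 60 ∨ m = 720 ∨ m = 8640 ∨
    (m = 1440 ∧ x.2 = (10, 1)) ∨ (m = 4320 ∧ x.2 = (10, 3)) := by decide +kernel

theorem orders [IsSimpleGroup G] (hG : ¬ IsMulCommutative G) (h : Nat.card G ∣ 95040) (h1 : 11 ∣ Nat.card G) :
    Nat.card G = 660 ∨ Nat.card G = 7920 ∨ Nat.card G = 95040 := by
  have : Fact (Nat.Prime 11) := ⟨by norm_num⟩
  obtain ⟨P⟩ : Nonempty (Sylow 11 G) := inferInstance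
  have hP := sm_sylow_prime h1 (fun k => by have := k.trans h; omega) P
  obtain ⟨v, hv, hx⟩ := filt_par hG ((Nat.le_of_dvd (by norm_num) h).trans_lt (by norm_num)) (by norm_num) P hP
  obtain ⟨m, hm⟩ := h1
  rw [hm] at hx h
  rcases tab m (Nat.mem_divisors.2 ⟨Nat.dvd_of_mul_dvd_mul_left (k := 11) (by norm_num) h, by norm_num⟩) _ hx with
    e | e | e | ⟨e, k⟩ | ⟨e, k⟩
  · omega
  · omega
  · omega
  · obtain ⟨k1, rfl⟩ := Prod.mk.inj k
    exact (no15840 (by omega) P hP hv k1).elim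
  · obtain ⟨k1, rfl⟩ := Prod.mk.inj k
    have := sm_relIndex_cent (P : Subgroup G)
    rw [k1, hv] at this
    exact (H13Dc.no47520 (by omega) P hv this.symm).elim
end H4.Db
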