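import Cfsg.Agent.H4.Hd8
import Cfsg.Agent.H4.Hd9
/-! Frames: the four groups. -/
set_option autoImplicit false
set_option maxRecDepth 100000
set_option linter.style.haveILetI false
set_option linter.unusedSectionVars false
set_option linter.unusedVariables false
namespace H4.Hd
open H29 (force force_eq allL allL_spec anyL anyL_iff band band_iff)
open H27 (cl mem_cl cl_le)
open H28 (ev ev_cons ev_nil Rels)
open Subgroup Cfsg H16
noncomputable section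
universe u
variable {G : Type u} [Group G] [Finite G] {z : G}
/-- generated by elements satisfying the relators -/
def Pr (G : Type u) [Group G] (k : ℕ) (R : List (List ℕ)) : Prop := ∃ xs : List G, xs.length = k ∧ Rels xs R ∧ cl xs = ⊤
def Out (G : Type u) [Group G] : Prop :=
  (Pr G 7 H28.hdP_R ∧ 322560 ≤ Nat.card G ∧ ¬ IsSimpleGroup G) ∨ Pr G 8 H28.hdL_R ∨ Pr G 8 H28.hdM_R ∨ Pr G 8 H28.hdE_R
namespace Fr
variable {F : Fr z} {ρ σ : G} {a b c d a' b' c' d' : ℕ} {W21 W12 : List (ℕ × ℕ)}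
theorem xcs (R : F.RR PA2 W2 ρ b c a d) {X : Subgroup G} (hX : C1[z] ≤ X) (h : ρ ∈ X) : F.Xc X 0 1 ∧ F.Xc X 2 4 ∧ F.Xc X 5 3 :=
  ⟨(R.ac cz V.cz (by decide +kernel)).xc h hX 0 1, (R.ac 0x10410c1 (.of_vb (by decide +kernel)) (by decide +kernel)).xc h hX 2 4,
    (R.ac 0x15410c1 (.of_vb (by decide +kernel)) (by decide +kernel)).xc h hX 5 3⟩
theorem fin (R : F.RR PA2 W2 ρ b c a d) (R' : F.RR PA1 W1 σ b' c' a' d') (hc : ρ * σ * ρ⁻¹ = σ) {Cw Cw' Rl : List (List ℕ)}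
    {Cs Cs' : List ℕ} (h : rChk b c a d b' c' a' d' W21 W12 Cw Cw' Cs Cs' Rl = true)
    (x : ∀ X, C1[z] ≤ X → ρ ∈ X → σ ∈ X → (F.Xc X 6 1 ∨ F.Xc X 6 3) ∧ (F.Xc X 7 2 ∨ F.Xc X 7 3)) : Pr G 8 Rl := by
  obtain ⟨h1, h2⟩ := xs_gen (F := F) (rs := [σ, ρ]) (dd_V R.vd R'.vd) (by simp [Gn, DD])
  have h3 := h2 (1, d') (by simp [DD])
  have h4 := h2 (2, d) (by simp [DD])
  obtain ⟨x1, x4, x5⟩ := xcs R h1 h4
  exact ⟨_, rfl, rels R R' hc h, Gen.top ⟨h1, x1, (R'.ac cz V.cz (by decide +kernel)).xc h3 h1 0 2, x4, x5,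
    (x _ h1 h4 h3).1, (x _ h1 h4 h3).2⟩⟩
theorem both (h1 : F.Z (rep 1)) (h2 : F.Z (rep 2)) : Pr G 8 H28.hdL_R ∨ Pr G 8 H28.hdM_R ∨ Pr G 8 H28.hdE_R := by
  have k : ∀ {F : Fr z} {ρ}, F.RR PA2 W2 ρ 0x1061041 0x1043041 0x1041441 0x1041241 → F.Z (rep 2) →
      Pr G 8 H28.hdL_R ∨ Pr G 8 H28.hdM_R ∨ Pr G 8 H28.hdE_R := fun {F ρ} R h2 => by
    obtain ⟨σ, R' | R'⟩ := exists_rr' (F := F.rev) (by rwa [Z, F.rev_f (b := rep 2) (by decide +kernel)])
    · obtain ⟨σ, R', hc⟩ := comm_step R R'.rev cL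
      exact .inl (fin R R' hc rL fun X hX a b => ⟨.inr ((R.act 0x14490c1 0x10490c1).xc a hX 6 3),
        .inr ((R'.act 0x1069241 0x1049241).xc b hX 7 3)⟩)
    · obtain ⟨σ, R', hc⟩ := comm_step R R'.rev cM
      exact .inr (.inl (fin R R' hc rM fun X hX a b => ⟨.inr ((R.act 0x14490c1 0x10490c1).xc a hX 6 3),
        .inl ((R'.act 0x1061241 0x1041241).xc b hX 7 2)⟩))
  obtain ⟨ρ, R | R⟩ := exists_rr' h1
  · exact k R h2
  obtain ⟨σ, R' | R'⟩ := exists_rr' (F := F.rev) (by rwa [Z, F.rev_f (b := rep 2) (by decide +kernel)])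
  · exact k R' (by rwa [Z, F.rev_f (b := rep 1) (by decide +kernel)])
  obtain ⟨σ, R', hc⟩ := comm_step R R'.rev cE
  exact .inr (.inr (fin R R' hc rE fun X hX a b => ⟨.inl ((R.act 0x1449041 0x1149061).xc a hX 6 1),
    .inl ((R'.act 0x1441141 0x10411e1).xc b hX 7 2)⟩))
theorem par_u (R : F.RR PA2 W2 ρ 0x1061041 0x1043041 0x1041441 0x1041241) (h2 : ¬ F.Z (rep 2)) {g : G} (hg : g ∈ C1[z]) (hz : IsConj z g) :
    g ∈ F.S PU := by
  obtain ⟨x1, x4, x5⟩ := xcs R le_top (mem_top ρ)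
  have x6 := (R.act 0x14490c1 0x10490c1).xc (mem_top ρ) le_top 6 3
  obtain ⟨a, ha, rfl⟩ := F.sur (mem_cent1.1 hg)
  obtain ⟨c, e⟩ := isConj_iff.1 hz
  have o2 : mu a a = o := (F.one_iff (ha.mu ha)).1 (by rw [F.mul ha ha, ← e, conj_mul, F.zz]; group)
  have o1 : a ≠ o := fun e => F.not_Z_o (e ▸ hz)
  have := allH_spec p6 ha
  simp only [imp_iff, Nat.beq_eq, sq_eq, Nat.blt_eq] at this
  refine (F.fS ha).2 (this o2 ?_)
  have k := (F.Z_cls ha o2 o1).1 hz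
  have k8 := (cls_spec ha o2 o1).1
  have n4 := fun e => h2 (x4.symm.Z e)
  have n5 := fun e => F.not_w (x5.Z e)
  have n6 := fun e => F.not_w (x6.Z e)
  have n7 : ¬ F.Z (rep 7) := fun e => by
    have := H29.allR_lt p10 _ F.pt_lt
    simp only [imp_iff, band_iff, bnot_iff, anyL_iff, bor_iff, Nat.beq_eq, List.mem_cons, List.not_mem_nil, or_false,
      exists_eq_or_imp, exists_eq_left, F.tb_pt, Nat.reduceLT, Nat.ofNat_pos, Nat.one_lt_ofNat, not_or] at this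
    rcases this ⟨⟨F.Z0, x1.Z F.Z0⟩, h2, F.not_w, n4, n5, n6⟩ with h | h
    · exact F.cnt_ne aChk2 F.wc2 nd2 (k := 7) (by norm_num) (by decide +kernel) (by rw [h, LA2_eq]; exact par_chk)
    · exact h e
  generalize cls a = i at k k8
  by_contra hn
  interval_cases i
  exacts [h2 k, F.not_w k, n4 k, n5 k, n6 k, n7 k]
theorem tr_u {X : Subgroup G} (hX : C1[z] ≤ X) (x1 : F.Xc X 0 1) {s : G} (hs : s ∈ F.S PU) (s1 : s ≠ 1) :
    ∃ m ∈ X, m * z * m⁻¹ = s := by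
  obtain ⟨a, ha, hm, rfl⟩ := F.mem_S.1 hs
  have o1 : a ≠ o := fun e => s1 (e ▸ F.one)
  obtain ⟨-, g, hg, e⟩ := F.conj_rep ha (F.sq_o uChk ha hs) o1
  have := (band_iff.1 (PU.all p7 ha hm)).1
  simp only [bor_iff, Nat.beq_eq, Nat.blt_eq, o1, false_or] at this
  generalize cls a = i at e this
  interval_cases i
  · exact ⟨g, hX hg, by rw [← e, show F.f (rep 0) = z from F.fz]⟩
  · obtain ⟨m, hm, e'⟩ := x1
    exact ⟨g * m, mul_mem (hX hg) hm, by rw [← e, ← e', show F.f (rep 0) = z from F.fz]; group⟩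
theorem hU : C1[z] ≤ N[F.S PU] := fun g hg => F.mem_of_gens (fun x hx =>
  (nm_of PU (allL_spec (f := nmP PU) (by decide +kernel) x hx)).2) (mem_cent1.1 hg)
theorem par_n (R : F.RR PA2 W2 ρ 0x1061041 0x1043041 0x1041441 0x1041241) (h2 : ¬ F.Z (rep 2)) : N[F.S PU] = ⊤ := by
  by_contra hn
  obtain ⟨u1, u2, u3, u4, -, u5⟩ := F.a_spec uChk
  have tr := @tr_u _ _ _ _ F _ hU (xcs R hU (R.ac2 p3).2).1
  have cz' : ∀ s ∈ F.S PU, s ≠ 1 → IsConj z s := fun s hs s1 => let ⟨m, _, e⟩ := tr hs s1; isConj_iff.2 ⟨m, e⟩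
  have S : H11.YZ.SCH (F.S PT) (F.S PU) N[F.S PU] := ⟨F.sy_T, ⟨u4, fun x hx g hg => by
      by_cases e : x = 1
      · simp [e]
      · exact par_u R h2 (F.S_cen PT hg) ((isConj_cj g x).2 (cz' x hx e))⟩,
    ne_bot_of_mem u3 F.z_ne, fun s hs os => by
      obtain ⟨m, hm, rfl⟩ := tr hs (H6.ord2_ne_one os)
      rw [H16.cent1_cj]; exact H16.cj_le_of_mem hm hU, F.norm_T.trans ((F.S_cen PT).trans hU), hn⟩
  have nL := H11.YZ.LX_normal (H11.YZ.conj_DS (S := F.S PU))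
  have uL : ∀ s ∈ F.S PU, s ∈ H11.ZD.LX (H11.YZ.DS (F.S PU)) ⊤ := fun s hs => by
    by_cases e : s = 1
    · exact e ▸ one_mem _
    · exact H11.ZD.mem_LX (H11.YZ.mem_DS hs (H6.ord2_of (u5 s hs) e)) trivial
  have se := S.se le_rfl fun u hu ou => S.pure hu ou
  have pu := fun u hu ou => S.pure (u := u) hu ou
  generalize H11.ZD.LX (H11.YZ.DS (F.S PU)) ⊤ = L at *
  have k : ∀ b, V b → F.f b ∈ L → ¬ uT b = true := fun b hb hL hu => by
    simp only [uT, force_eq, band_iff, mem_iff] at hu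
    have := allL_spec p9 _ hu.1
    simp only [band_iff, bnot_iff, Nat.beq_eq] at this
    have v := V.of_vb this.1
    have q := (F.mul v v).symm.trans (this.2.1.symm ▸ F.one)
    have o2 := H6.ord2_of q fun e => this.2.2 ((F.fS v).1 (e ▸ one_mem _))
    obtain ⟨-, g, hg⟩ := pu _ ((mul_mem_cancel_left hL).1 (F.mul hb v ▸ uL _ ((F.fS (hb.mu v)).2 hu.2))) o2
    exact this.2.2 ((F.fS v).1 (par_u R h2 (mem_cent1.2 (F.cen v)) ((isConj_cj g _).1
      (cz' _ hg (H6.ord2_ne_one (H6.ord2_conj o2 g))))))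
  have LH : ∀ g ∈ L, g ∈ C1[z] → g ∈ F.S PU := fun g hL hg => by
    obtain ⟨a, ha, rfl⟩ := F.sur (mem_cent1.1 hg)
    have := allH_spec p8 ha
    simp only [bor_iff, force_eq, anyL_iff] at this
    refine (F.fS ha).2 (this.resolve_right fun h => h.elim (k a ha hL) fun ⟨x, hx, h⟩ => ?_)
    have : V x ∧ mu x x = o := by
      have := allL_spec (f := fun x => band (vb x) (Nat.beq (mu x x) o)) (by decide +kernel) x hx
      exact ⟨.of_vb (band_iff.1 this).1, Nat.beq_eq.mp (band_iff.1 this).2⟩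
    refine k _ (((this.1.mu ha).mu this.1).mu ha.iv) ?_ h
    rw [F.mul ((this.1.mu ha).mu this.1) ha.iv, F.mul (this.1.mu ha) this.1, F.mul this.1 ha, F.inv ha]
    nth_rw 2 [eq_inv_of_mul_eq_one_left (show F.f x * F.f x = 1 by rw [← F.mul this.1 this.1, this.2, F.one])]
    exact mul_mem (nL.conj_mem _ hL _) (inv_mem hL)
  have v4 : V 0x1141041 := .of_vb (by decide +kernel)
  have v5 : V 0x10410c1 := .of_vb (by decide +kernel)
  have v2 : V 0x1041441 := .of_vb (by decide +kernel)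
  have m4 := F.fS' PU (a := 0x1141041) (by decide +kernel)
  have o4 := H6.ord2_of (u5 _ m4) fun e => absurd ((F.one_iff v4).1 e) (by decide)
  have oz := H6.ord2_of F.zz F.z_ne
  obtain ⟨g, e⟩ := isConj_iff.1 (H6.se_isConj se (a := ⟨z, uL _ u3⟩) (b := ⟨_, uL _ m4⟩) (by rwa [← orderOf_coe])
    (by rwa [← orderOf_coe]))
  have e : g.1 * z * g.1⁻¹ = F.f 0x1141041 := congrArg Subtype.val e
  have hg := S.mem u3 oz g.1 (e ▸ le_norm _ m4)
  have c := LH (g.1⁻¹ * (F.f 0x10410c1 * g.1 * (F.f 0x10410c1)⁻¹)) (mul_mem (inv_mem g.2) (nL.conj_mem _ g.2 _)) (mem_cent1.2 (by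
    have c1 := F.cen v5
    have c2 := (F.cm_iff v5 v4).1 (by decide +kernel)
    rw [← e] at c2
    calc _ = g.1⁻¹ * (F.f 0x10410c1 * (g.1 * z * g.1⁻¹)) * g.1 * (F.f 0x10410c1)⁻¹ * (F.f 0x10410c1 * z⁻¹ * (F.f 0x10410c1)⁻¹ * z) := by group
      _ = _ := by rw [c2, show F.f 0x10410c1 * z⁻¹ * (F.f 0x10410c1)⁻¹ = z⁻¹ by rw [(show Commute _ z from c1).inv_right.eq, mul_inv_cancel_right]]; group))
  obtain ⟨w, hw, hm, ew⟩ := F.mem_S.1 (conj_mem' hg (F.fS' PU (a := 0x1041441) (by decide +kernel)))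
  have k1 := (band_iff.1 (PU.all p7 hw hm)).2
  have k2 := mem_cent.1 (u2 c) _ (conj_mem (hU (mem_cent1.2 (F.cen v5))) ((F.fS hw).2 hm))
  have k3 : F.f (H4.Hd.cj 0x10410c1 w) = F.f w * (g.1⁻¹ * z * g.1) := by
    have := (Cj.h (F := F) v5 v2).rt (b' := mu 0x1041441 cz)
    rw [F.cj v5 hw, ← mul_inv_eq_iff_eq_mul.2 k2.symm, ew, show g.1⁻¹ * F.f 0x1041441 * g.1 * (g.1⁻¹ * z * g.1) =
      g.1⁻¹ * (F.f 0x1041441 * F.f cz) * g.1 by rw [F.fz]; group, ← F.mul v2 V.cz, ← this.2.2]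
    group
  simp only [mem_iff, List.mem_cons, List.not_mem_nil, or_false] at k1
  rcases k1 with k1 | k1 <;> rw [k1] at k3
  · exact F.z_ne (by simpa [mul_assoc, inv_mul_eq_iff_eq_mul] using k3)
  · rw [F.mul hw V.cz, F.fz, mul_right_inj] at k3
    rw [show g.1 * z * g.1⁻¹ = z by nth_rw 1 [k3]; group] at e
    exact absurd (F.inj V.cz v4 (F.fz.trans e)) (by decide)
theorem tr_at {P : Pat} {W : List (ℕ × ℕ)} (h : F.AC ρ P W ∧ ρ ∈ N[F.S P]) (k : V a ∧ F.f a ∈ N[F.S P]) :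
    Tr F.Cj P (ρ * F.f a) fun v => app W (H4.Hd.cj a v) o := fun v hv hm =>
  let ⟨h1, h2, h3⟩ := tr_h k.1 k.2 v hv hm
  let ⟨h4, h5, h6⟩ := h.1.tr h.2 _ h1 h2
  ⟨h4, h5, h3.comp h6⟩
theorem par (hc : Nat.card C1[z] = 21504) (h1 : F.Z (rep 1)) (h2 : ¬ F.Z (rep 2)) :
    Pr G 7 H28.hdP_R ∧ 322560 ≤ Nat.card G ∧ ¬ IsSimpleGroup G := by
  obtain ⟨ρ, R | R⟩ := exists_rr' h1
  swap
  · have t := mem_top ρ
    exact absurd ((xcs R le_top t).2.1.symm.Z (((R.act 0x1061041 0x1161061).xc t le_top 4 6).symm.Z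
      (((R.act 0x1449041 0x1149061).xc t le_top 6 1).symm.Z h1))) h2
  have hn := par_n R h2
  obtain ⟨u1, u2, u3, u4, -, u5⟩ := F.a_spec uChk
  have v : ∀ x ∈ cds D7, V x := V.all (by decide +kernel)
  obtain ⟨g1, g2⟩ := xs_gen (F := F) (rs := [1, ρ]) v (by decide)
  have g3 := g2 (2, 0x1041241) (by decide)
  refine ⟨⟨F.xs [1, 1, ρ] D7, rfl, fun w hw => ?_, top_le_iff.1 fun g _ => ?_⟩, ?_, fun hs => ?_⟩
  · have := List.all_eq_true.1 p2 w hw
    simp only [bor_iff, beq_iff_eq] at this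
    rcases this with h | h | rfl
    · exact h_word v h
    · exact af_word aChk2 R ⟨AC.one, one_mem _⟩ ⟨R.ac, R.tri.nm⟩ (one_mem _) (mem_Bs (by group)) v p1 h
    have t : ∀ i ∈ [1, 2, 4, 3, 6], Tr F.Cj PU ((F.xs [1, 1, ρ] D7).getD i 1) (tsU i) := by
      simp only [List.forall_mem_cons]
      exact ⟨tr_at ⟨AC.one, one_mem _⟩ (nm_of (a := 0x1061041) PU), tr_at ⟨AC.one, one_mem _⟩ (nm_of (a := 0x1043041) PU),
        tr_at ⟨AC.one, one_mem _⟩ (nm_of (a := 0x10c1041) PU), tr_at ⟨AC.one, one_mem _⟩ (nm_of (a := 0x1841041) PU),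
        tr_at (R.ac2 p3) (nm_of (a := 0x1041241) PU), by simp⟩
    obtain ⟨a, ha, hm, e⟩ := F.mem_S.1 (tr_cent uChk (cj_word fun i hi => t i (by revert i; decide)) p4)
    have := PU.all p5 ha hm
    rw [imp_iff, Nat.beq_eq, Nat.beq_eq] at this
    rw [← e, this ((cj_word t a ha hm).2.2.uniq ⟨ha, ha, by rw [e, H28.ev_pwW]; group⟩), F.one]
  · obtain ⟨m, hm, e⟩ := tr_u g1 (xcs R g1 g3).1 (conj_mem (hn ▸ mem_top g) u3) fun e => F.z_ne (H16.conj_eq_one_iff.1 e)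
    refine (mul_mem_cancel_left (inv_mem hm)).1 (g1 (mem_cent1.2 ?_))
    calc _ = m⁻¹ * (g * z * g⁻¹) * g := by group
      _ = _ := by rw [← e]; group
  · have c1 := H15.Bd.card_conj_class z ⊤
    have c2 := H16.card_mul_relIndex (le_top (a := C1[z]))
    have c3 : Nat.card (F.S PU) = 16 := (F.card_S PU (by decide +kernel)).trans (by decide +kernel)
    have c4 : ((F.S PU : Set G) \ {1}).ncard ≤ {y | ∃ b ∈ (⊤ : Subgroup G), b * z * b⁻¹ = y}.ncard :=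
      Set.ncard_le_ncard fun s hs => tr_u le_top (xcs R le_top (mem_top ρ)).1 hs.1 hs.2
    rw [Set.ncard_sdiff_singleton_of_mem (one_mem _), show (F.S PU : Set G).ncard = 16 from c3] at c4
    rw [hc, card_top] at c2
    have c5 : 15 ≤ (C1[z]).relIndex ⊤ := c4.trans (le_of_eq c1)
    omega
  · rcases hs.eq_bot_or_eq_top_of_normal _ (normalizer_eq_top_iff.1 hn) with e | e
    · exact ne_bot_of_mem u3 F.z_ne e
    · exact absurd ((F.fS (P := PU) (a := 0x10410c1) (.of_vb (by decide +kernel))).1 (e ▸ mem_top _)) (by decide +kernel)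
theorem main (F : Fr z) (hc : Nat.card C1[z] = 21504) {g : G} (h1 : g * z * g⁻¹ ∈ C1[z]) (h2 : g * z * g⁻¹ ≠ z) : Out G := by
  by_cases k1 : F.Z (rep 1) <;> by_cases k2 : F.Z (rep 2)
  · exact .inr (both k1 k2)
  · exact .inl (par hc k1 k2)
  · exact .inl (par (F := F.rev) hc (by rwa [Z, F.rev_f (b := rep 2) (by decide +kernel)])
      (by rwa [Z, F.rev_f (b := rep 1) (by decide +kernel)]))
  · exact ((F.nwc h1 h2).elim k1 k2).elim
theorem simple [hs : IsSimpleGroup G] (F : Fr z) (hc : Nat.card C1[z] = 21504) :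
    Pr G 8 H28.hdL_R ∨ Pr G 8 H28.hdM_R ∨ Pr G 8 H28.hdE_R := by
  have oz := H6.ord2_of F.zz F.z_ne
  by_cases h : ∃ g : G, g * z * g⁻¹ ∈ C1[z] ∧ g * z * g⁻¹ ≠ z
  · obtain ⟨g, h1, h2⟩ := h
    exact (F.main hc h1 h2).resolve_left fun h => h.2.2 hs
  exfalso
  rcases hs.eq_bot_or_eq_top_of_normal (pPrimeCore 2 G) inferInstance with e | e
  · have := H19.zstar_center ⟨oz, fun g hg => not_not.1 fun k => h ⟨g, mem_cent1.2 hg.eq.symm, k⟩⟩ e
    rcases hs.eq_bot_or_eq_top_of_normal (center G) inferInstance with e | e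
    · exact ne_bot_of_mem this F.z_ne e
    · exact absurd ((F.cm_iff (a := 0x1041441) (b := 0x1061041) (.of_vb (by decide +kernel)) (.of_vb (by decide +kernel))).2
        (mem_center_iff.1 (e ▸ mem_top _) _)) (by decide +kernel)
  · exact H1.not_dvd_card_pPrimeCore Nat.prime_two (oz ▸ H16.orderOf_dvd_card (e ▸ mem_top z))
end Fr
end
end H4.Hd
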