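import Cfsg.Agent.H4.Hd10
import Cfsg.Agent.S0249
import Cfsg.Agent.S0364
import Cfsg.Agent.S0365
import Cfsg.Agent.S2133
import Cfsg.Agent.S2134
import Cfsg.Agent.H28.He
/-! Held's theorem. -/
set_option autoImplicit false
set_option maxRecDepth 100000
set_option linter.style.haveILetI false
set_option linter.unusedSectionVars false
set_option linter.unusedVariables false
namespace H4.Hd
open H29 (force force_eq allL allL_spec anyL anyL_iff band band_iff)
open H27 (cl mem_cl cl_le)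
open H28 (ev ev_cons ev_nil Rels)
open Subgroup Cfsg
noncomputable section
universe u
variable {G : Type u} [Group G] {k m : ℕ} {R : List (List ℕ)} {M : Type} [Group M]
theorem Pr.le (P : H28.Pres.{u} k R m) (h : Pr G k R) : Nat.card G ≤ m := by
  obtain ⟨xs, h1, h2, h3⟩ := h
  have := (P G xs h1 h2).2
  rwa [h3, card_top] at this
theorem Pr.hom (P : H28.Pres.{u} k R m) (h : Pr G k R) (h' : Pr M k R) (hc : m ≤ Nat.card M) :
    ∃ φ : M →* G, Function.Surjective φ := by
  obtain ⟨xs, hl, rx, tx⟩ := h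
  obtain ⟨ys, hk, r, top⟩ := h'
  obtain ⟨φ, hφ⟩ := (H28.Univ.of_pres P hk r (by rwa [top, card_top])).hom (hl.trans hk.symm) rx
  let ι : M ≃* cl ys := topEquiv.symm.trans (MulEquiv.subgroupCongr top.symm)
  have sj : φ.range = ⊤ := top_le_iff.1 (tx ▸ cl_le fun x hx => by
    obtain ⟨i, hi, rfl⟩ := List.getElem_of_mem hx
    exact ⟨_, (hφ [i]).trans (by rw [ev_cons, ev_nil, mul_one, List.getD_eq_getElem _ _ hi])⟩)
  exact ⟨φ.comp ι.toMonoidHom, (MonoidHom.range_eq_top.1 sj).comp ι.surjective⟩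
theorem Pr.iso [Nontrivial G] [hs : IsSimpleGroup M] (P : H28.Pres.{u} k R m) (h : Pr G k R) (h' : Pr M k R)
    (hc : Nat.card M = m) : Nonempty (G ≃* M) := by
  obtain ⟨φ, sj⟩ := h.hom P h' hc.ge
  rcases hs.eq_bot_or_eq_top_of_normal _ (MonoidHom.normal_ker φ) with h | h
  · exact ⟨(MulEquiv.ofBijective φ ⟨(MonoidHom.ker_eq_bot_iff φ).1 h, sj⟩).symm⟩
  · obtain ⟨g, hg⟩ := exists_ne (1 : G)
    obtain ⟨x, rfl⟩ := sj g
    exact absurd (MonoidHom.mem_ker.1 (h ▸ mem_top x)) hg
theorem card_sl : Nat.card SL = 9999360 := by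
  have h := H22.card_SL (F := ZMod 2) 5 (by norm_num)
  rw [ZMod.card] at h
  exact (one_mul _).symm.trans (h.trans (by decide +kernel))
theorem simple_sl : IsSimpleGroup SL := by
  have := H22.gcd_mul_card_PSL (F := ZMod 2) 5 (by norm_num)
  rw [ZMod.card, show Nat.gcd 5 (2 - 1) = 1 from rfl, one_mul] at this
  have s := Cfsg.Agent.S0249.result (F := ZMod 2) 5 (by norm_num)
  exact (MulEquiv.ofBijective (QuotientGroup.mk' (center _)) ((Nat.bijective_iff_surjective_and_card _).2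
    ⟨QuotientGroup.mk'_surjective _, this.symm⟩)).isSimpleGroup
variable {s : SL} {z : G}
theorem simple_pr [Finite G] [IsSimpleGroup G] (hs : (s : Mt) = Matrix.transvection 0 1 1) (hz : orderOf z = 2)
    (e : centralizer ({z} : Set G) ≃* centralizer ({s} : Set SL)) :
    Pr G 8 H28.hdL_R ∨ Pr G 8 H28.hdM_R ∨ Pr G 8 H28.hdE_R :=
  let ⟨F, _⟩ := exists_fr hs (H6.ord2_ne_one hz) e
  F.simple ((Nat.card_congr e.toEquiv).trans (H29.sl5_s hs).2.2)
theorem he_pr : Pr Spor.He 8 H28.hdE_R := by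
  haveI := H28.he_simple
  obtain ⟨z, hz, ⟨e⟩⟩ := Cfsg.Agent.S2134.result s0 rfl
  have c := H28.he_card
  rcases simple_pr rfl hz e with h | h | h
  · have := h.le H28.hdL_pres; omega
  · have := h.le H28.hdM_pres; omega
  · exact h
theorem he_iso [Nontrivial G] (h : Pr G 8 H28.hdE_R) : Nonempty (G ≃* Spor.He) :=
  haveI := H28.he_simple
  h.iso H28.hdE_pres he_pr H28.he_card
theorem m24_pr : Pr M24 8 H28.hdM_R := by
  haveI := Cfsg.Agent.S0365.result
  have c := Cfsg.Agent.S0364.result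
  haveI := Nat.finite_of_card_ne_zero (c.trans_ne (by norm_num))
  obtain ⟨z, hz, ⟨e⟩⟩ := Cfsg.Agent.S2133.result s0 rfl
  rcases simple_pr rfl hz e with h | h | h
  · have := h.le H28.hdL_pres; omega
  · exact h
  · obtain ⟨f⟩ := he_iso h
    have := (Nat.card_congr f.toEquiv).trans H28.he_card; omega
theorem m24_iso [Nontrivial G] (h : Pr G 8 H28.hdM_R) : Nonempty (G ≃* M24) :=
  haveI := Cfsg.Agent.S0365.result
  h.iso H28.hdM_pres m24_pr Cfsg.Agent.S0364.result
theorem s0_ord : orderOf s0 = 2 := H6.ord2_of (Subtype.ext (by decide +kernel)) fun e => absurd (congrArg Subtype.val e) (by decide +kernel)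
theorem sl_pr : Pr SL 8 H28.hdL_R := by
  haveI := simple_sl
  have c := card_sl
  rcases simple_pr rfl s0_ord (MulEquiv.refl _) with h | h | h
  · exact h
  · obtain ⟨f⟩ := m24_iso h
    have := (Nat.card_congr f.toEquiv).trans Cfsg.Agent.S0364.result; omega
  · obtain ⟨f⟩ := he_iso h
    have := (Nat.card_congr f.toEquiv).trans H28.he_card; omega
theorem sl_iso [Nontrivial G] (h : Pr G 8 H28.hdL_R) : Nonempty (G ≃* SL) :=
  haveI := simple_sl
  h.iso H28.hdL_pres sl_pr card_sl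
/-- Held's theorem -/
theorem held [Finite G] [IsSimpleGroup G] (hs : (s : Mt) = Matrix.transvection 0 1 1) (hz : orderOf z = 2)
    (e : centralizer ({z} : Set G) ≃* centralizer ({s} : Set SL)) :
    Nonempty (G ≃* SL) ∨ Nonempty (G ≃* M24) ∨ Nonempty (G ≃* Spor.He) :=
  (simple_pr hs hz e).imp sl_iso (Or.imp m24_iso he_iso)
theorem out [Finite G] (hs : (s : Mt) = Matrix.transvection 0 1 1) (hz : orderOf z = 2)
    (e : centralizer ({z} : Set G) ≃* centralizer ({s} : Set SL)) {g : G} (h1 : g * z * g⁻¹ ∈ centralizer ({z} : Set G))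
    (h2 : g * z * g⁻¹ ≠ z) : (Pr G 7 H28.hdP_R ∧ 322560 ≤ Nat.card G) ∨
      Nonempty (G ≃* SL) ∨ Nonempty (G ≃* M24) ∨ Nonempty (G ≃* Spor.He) :=
  let ⟨F, _⟩ := exists_fr hs (H6.ord2_ne_one hz) e
  haveI : Nontrivial G := ⟨_, _, h2⟩
  (F.main ((Nat.card_congr e.toEquiv).trans (H29.sl5_s hs).2.2) h1 h2).imp (fun h => ⟨h.1, h.2.1⟩)
    (Or.imp sl_iso (Or.imp m24_iso he_iso))
def v0 : Fin 5 → ZMod 2 := Pi.single 0 1
abbrev St := MulAction.stabilizer SL v0
theorem cen_st {A : SL} (h : A ∈ centralizer ({s0} : Set SL)) : A ∈ St := by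
  have e : A.1 * Matrix.transvection 0 1 1 = Matrix.transvection 0 1 1 * A.1 :=
    congrArg Subtype.val (show A * s0 = s0 * A from mem_centralizer_singleton_iff.1 h)
  have k : ∀ i, i ≠ 0 → A.1 i 0 = 0 := fun i hi => by
    have := congrFun (congrFun e i) 1
    rw [Matrix.mul_transvection_apply_same, Matrix.transvection_mul_apply_of_ne _ _ _ _ hi, one_mul] at this
    exact add_eq_left.1 this
  have k0 : A.1 0 0 = 1 := (by decide : ∀ a : ZMod 2, a ≠ 0 → a = 1) _ fun h0 => by
    have := Matrix.det_eq_zero_of_column_eq_zero (A := A.1) 0 fun i => if hi : i = 0 then hi ▸ h0 else k i hi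
    rw [A.2] at this; exact one_ne_zero this
  change A.1.mulVec v0 = v0
  ext i
  rw [v0, Matrix.mulVec_single_one]
  by_cases hi : i = 0
  · subst hi; simpa using k0
  · simpa [hi] using k i hi
theorem st_pr : Pr St 7 H28.hdP_R ∧ 322560 ≤ Nat.card St := by
  let s' : St := ⟨s0, cen_st (mem_centralizer_singleton_iff.2 rfl)⟩
  let e : centralizer ({s'} : Set St) ≃* centralizer ({s0} : Set SL) :=
    { toFun x := ⟨x.1.1, mem_centralizer_singleton_iff.2 (congrArg Subtype.val (mem_centralizer_singleton_iff.1 x.2))⟩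
      invFun x := ⟨⟨x.1, cen_st x.2⟩, mem_centralizer_singleton_iff.2 (Subtype.ext (mem_centralizer_singleton_iff.1 x.2))⟩
      left_inv _ := rfl
      right_inv _ := rfl
      map_mul' _ _ := rfl }
  let t : SL := ⟨Matrix.transvection 1 4 1, Matrix.det_transvection_of_ne 1 4 (by decide) 1⟩
  let g : St := ⟨t, show t.1.mulVec v0 = v0 by decide +kernel⟩
  have gi : g⁻¹ = g := inv_eq_of_mul_eq_one_right (Subtype.ext (Subtype.ext (by decide +kernel)))
  have lt : Nat.card St < 9999360 := by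
    rw [← card_sl, ← card_top (G := SL)]
    refine H16.card_lt (G := SL) (lt_top_iff_ne_top.2 fun h => ?_)
    exact absurd (show (Matrix.transvection 1 0 1 : Mt).mulVec v0 = v0 from
      h.ge (mem_top (G := SL) ⟨_, Matrix.det_transvection_of_ne 1 0 (by decide) 1⟩)) (by decide +kernel)
  rcases out (g := g) (z := s') rfl (by rw [← orderOf_coe]; exact s0_ord) e
    (by rw [gi]; exact mem_centralizer_singleton_iff.2 (Subtype.ext (Subtype.ext (by decide +kernel))))
    (by rw [gi]; exact fun e => absurd (congrArg (fun x : St => x.1.1) e) (by decide +kernel)) with h | ⟨⟨f⟩⟩ | ⟨⟨f⟩⟩ | ⟨⟨f⟩⟩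
  · exact h
  · have := (Nat.card_congr f.toEquiv).trans card_sl; omega
  · have := (Nat.card_congr f.toEquiv).trans Cfsg.Agent.S0364.result; omega
  · have := (Nat.card_congr f.toEquiv).trans H28.he_card; omega
theorem st_iso (h : Pr G 7 H28.hdP_R ∧ 322560 ≤ Nat.card G) : Nonempty (G ≃* St) := by
  obtain ⟨φ, sj⟩ := h.1.hom H28.hdP_pres st_pr.1 st_pr.2
  exact ⟨(MulEquiv.ofBijective φ (sj.bijective_of_nat_card_le ((st_pr.1.le H28.hdP_pres).trans h.2))).symm⟩
end
end H4.Hd
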