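import Cfsg.Agent.H4.Hd2
/-! Computations in the centralizer of a transvection of `SL(5,2)`. -/
set_option autoImplicit false
set_option maxRecDepth 100000
set_option linter.style.haveILetI false
set_option linter.unusedSectionVars false
set_option linter.unusedVariables false
namespace H4.Hd
open H29 (force force_eq allL allL_spec anyL anyL_iff band band_iff)
open H27 (cl mem_cl cl_le)
open H28 (ev ev_cons ev_nil Rels)
noncomputable section
def LA1 : List ℕ := [0x1041041, 0x1041061, 0x1141041, 0x1141061, 0x1049041, 0x1049061, 0x1149041, 0x1149061, 0x10410c1, 0x10410e1, 0x11410c1, 0x11410e1, 0x10490c1, 0x10490e1, 0x11490c1, 0x11490e1, 0x1441041, 0x1441061, 0x1541041, 0x1541061, 0x1449041, 0x1449061, 0x1549041, 0x1549061, 0x14410c1, 0x14410e1, 0x15410c1, 0x15410e1, 0x14490c1, 0x14490e1, 0x15490c1, 0x15490e1, 0x1061041, 0x1061061, 0x1161041, 0x1161061, 0x1069041, 0x1069061, 0x1169041, 0x1169061, 0x10610c1, 0x10610e1, 0x11610c1, 0x11610e1, 0x10690c1, 0x10690e1,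 0x11690c1, 0x11690e1, 0x1461041, 0x1461061, 0x1561041, 0x1561061, 0x1469041, 0x1469061, 0x1569041, 0x1569061, 0x14610c1, 0x14610e1, 0x15610c1, 0x15610e1, 0x14690c1, 0x14690e1, 0x15690c1, 0x15690e1]
def LA2 : List ℕ := [0x1041041, 0x1041061, 0x1141041, 0x1141061, 0x10410c1, 0x10410e1, 0x11410c1, 0x11410e1, 0x1441041, 0x1441061, 0x1541041, 0x1541061, 0x14410c1, 0x14410e1, 0x15410c1, 0x15410e1, 0x1041141, 0x1041161, 0x1141141, 0x1141161, 0x10411c1, 0x10411e1, 0x11411c1, 0x11411e1, 0x1441141, 0x1441161, 0x1541141, 0x1541161, 0x14411c1, 0x14411e1, 0x15411c1, 0x15411e1, 0x1841041, 0x1841061, 0x1941041, 0x1941061, 0x18410c1, 0x18410e1, 0x19410c1, 0x19410e1, 0x1c41041, 0x1c41061, 0x1d41041, 0x1d41061, 0x1c410c1, 0x1c410e1, 0x1d410c1, 0x1d410e1, 0x1841141, 0x1841161, 0x1941141, 0x1941161, 0x18411c1, 0x18411e1, 0x19411c1, 0x19411e1, 0x1c41141, 0x1c41161, 0x1d41141, 0x1d41161, 0x1c411c1, 0x1c411e1, 0x1d411c1, 0x1d411e1]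
theorem LA1_eq : lst PA1.L o = LA1 := by decide +kernel
theorem LA2_eq : lst PA2.L o = LA2 := by decide +kernel
def cnt (L : List ℕ) (O : ℕ → Bool) (x : ℕ) : ℕ :=
  (L.map fun a => L.countP fun b => band (O a) (band (O b) (O (mu (mu a b) x)))).sum
def Oz (pt a : ℕ) : Bool := tb pt (cls a)
def cntNe (L : List ℕ) (pt k : ℕ) : Bool := band (tb pt k) (bnot (Nat.beq (cnt L (Oz pt) cz) (cnt L (Oz pt) (rep k))))
theorem nwc_chk : H29.allR (fun pt => imp (Nat.beq (Nat.land pt 15) 1) (bor (Nat.beq pt 1)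
    (bor (anyL (cntNe LA1 pt) [4, 5, 6]) (cntNe LA2 pt 7)))) 0 256 = true := by decide +kernel
theorem par_chk : cntNe LA2 131 7 = true := by decide +kernel
theorem o3_chk : allH (fun a => force (sq a) fun a2 => imp (band (Nat.beq (mu a2 a) o) (band (bnot (Nat.beq a o))
    (allL (fun x => pm PA2.M (mu (mu a x) a2)) (cds PA2.L))))
    (allP PA2.L (fun b => imp (cm a b) (mem b [o, cz, 0x1141041, 0x1141061])) o)) = true := by decide +kernel
def LK : List ℕ := [0x1041041, 0x1041441, 0x1061041, 0x1043041, 0x1061441, 0x1043441, 0x1069441, 0x1023041, 0x1062041, 0x1069041, 0x1023441, 0x1062441, 0x1049441, 0x102b441, 0x1022041, 0x106a041, 0x1049041, 0x102b041, 0x1022441, 0x106a441, 0x104b441, 0x102a441, 0x102a041, 0x104b041]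
theorem k_chk : allH (fun k => imp (cm k 0x1141041) (force (Nat.land k PA2.M) fun c => band (mem c LK) (pm PA2.M (mu k (iv c))))) = true := by
  decide +kernel
def nmP (P : Pat) (h : ℕ) : Bool := band (vb h) (allL (fun x => pm P.M (cj h x)) (cds P.L))
theorem LK_chk : allL (fun k => band (nmP PA2 k) (cm k 0x1141041)) LK = true := by decide +kernel
def beq2 (a b : Bool) : Bool := cnd a b (bnot b)
theorem beq2_iff {a b : Bool} : beq2 a b = true ↔ (a = true ↔ b = true) := by cases a <;> cases b <;> simp [beq2, cnd]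
def TW : List (List ℕ) := [[0, 0], [0], [1, 1], [1], [2, 2], [2], [0, 2, 0, 2], [0, 2], [1, 2], [1, 2, 1, 2, 1, 2], [0, 1, 0, 1], [0, 1, 0, 1, 2, 1, 0, 1, 2]]
theorem s4_chk : allL (fun a => allL (fun b => allL (fun c =>
    imp (TW.all fun w => beq2 (pm PA2.M (evc [a, b, c] w)) (pm PA2.M (evc [0x1041441, 0x1061041, 0x1043041] w)))
    (anyL (fun p => band (Nat.beq (cj p 0x1041441) a) (band (Nat.beq (cj p 0x1061041) b) (Nat.beq (cj p 0x1043041) c))) LK)) LK) LK) LK = true := by
  decide +kernel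
theorem e35_chk : allP PA2.L (fun b => imp (band (Nat.beq (cj 0x1041441 b) b) (band (Nat.beq (cj 0x1043041 b) b)
    (Nat.beq (mu b (mu (cj 0x1061041 (cj 0x1043041 b)) (cj 0x1061041 (cj 0x1043041 (cj 0x1061041 (cj 0x1043041 b)))))) o)))
    (force (mu b (cj 0x1061041 b)) fun b1 => force (mu b1 (cj 0x1041441 b1)) fun b2 =>
      band (imp (Nat.beq b2 0x1141041) (band (Nat.beq b 0x1841041) (Nat.beq b1 0x1441041)))
        (imp (Nat.beq b2 0x1141061) (band (Nat.beq b 0x1841141) (Nat.beq b1 0x14410c1))))) o = true := by decide +kernel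
def W1 : List (ℕ × ℕ) := [(17, 0x1069041), (22, 0x1541041), (7, 0x10410e1), (15, 0x1061041), (20, 0x1441041), (5, 0x10410c1)]
def W2 : List (ℕ × ℕ) := [(23, 0x1841141), (8, 0x1841041), (22, 0x14410c1), (7, 0x1441041), (20, 0x1141061), (5, 0x1141041)]
def wChk (P : Pat) (W : List (ℕ × ℕ)) : Bool :=
  allP P.L (fun a => force (app W a o) fun b => Nat.beq (mu (app W b o) a) b) o
theorem wChk1 : wChk PA1 W1 = true := by decide +kernel
theorem wChk2 : wChk PA2 W2 = true := by decide +kernel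
def tests (L : List ℕ) (T : List (List ℕ)) : Bool := T.all fun w => force (evc L w) fun v => imp (pm PA2.M v) (Nat.beq v o)
def CL : List (List ℕ) := [[0x1061041, 0x1043041, 0x1041441, 0x1041241], [0x1061041, 0x1043041, 0x1041561, 0x1041241], [0x1061061, 0x1043061, 0x1041441, 0x1041241], [0x1061061, 0x1043061, 0x1041561, 0x1041241]]
theorem cmp_chk : allP PA2.L (fun a1 => force (mu a1 0x1061041) fun b => imp (tests [b] [[0, 0]])
    (allP PA2.L (fun a2 => force (mu a2 0x1043041) fun c => imp (tests [b, c] [[1, 1], [0, 1, 0, 1, 0, 1]])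
    (allP PA2.L (fun a3 => force (mu a3 0x1041441) fun a => imp (tests [b, c, a] [[2, 2], [2, 1, 2, 1], [2, 0, 2, 0, 1, 0, 2, 0, 1]])
    (allP PA2.L (fun a4 => force (mu a4 0x1041241) fun d => imp (tests [b, c, a, d] [[3, 3], [3, 0, 3, 0], [3, 1, 3, 1], [3, 2, 3, 2]])
    (anyL (fun e => CL.any fun C => [b, c, a, d].map (cj e) == C) LA2)) o)) o)) o)) o = true := by decide +kernel
def PZ : Pat := ⟨[(22, 0x1441041), (7, 0x10410c1), (20, 0x1141041), (5, 0x1041061)], 0x1afff5f, by decide +kernel⟩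
/-- classes that are always conjugate to `z`, when both ends are -/
def zc (a : ℕ) : Bool := Oz 23 a
def ct : ℕ := 0x11410c1
def co : ℕ := 0x14410e1
def LW : List ℕ := [o, ct, co, 0x1541061]
theorem J_cos : allP PJ.L (fun x => imp (band (mem (sq x) LW) (bnot (mem x LW)))
    (anyL (fun w => force (mu x w) fun y => band (Nat.beq (sq y) o) (zc y)) LW)) o = true := by decide +kernel
def nz (a : ℕ) : Bool := bnot (bor (Nat.beq a o) (zc a))
theorem Z_cen : allP PZ.L (fun p => imp (nz p) (band (Nat.ble (cntP PT.L (cm p) o) 512) (allP PZ.L (fun q => imp (band (nz q) (nz (mu p q)))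
    (allP PT.L (fun x => imp (band (cm x p) (cm x q)) (pm PJ.M x)) o)) o))) o = true := by decide +kernel
theorem t_cen : allH (fun a => imp (cm a ct) (pm PT.M a)) = true := by decide +kernel
theorem Z_inf : allP PA1.L (fun a => imp (pm PA2.M a) (pm PZ.M a)) o = true := by decide +kernel
def w0Chk (P : Pat) (pt : ℕ) : Bool := allP P.L (fun a => imp (band (Oz pt a) (Oz pt (mu a ct))) (allP P.L (fun b =>
  imp (band (Oz pt b) (Oz pt (mu b ct))) (force (mu a b) fun c => bor (mem c LW) (bor (Oz pt c) (Oz pt (mu c ct))))) o)) o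
theorem w0_chk : allL (fun pt => band (w0Chk PA1 pt) (w0Chk PA2 pt)) [23, 87, 151, 215] = true := by decide +kernel
end
end H4.Hd
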