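import Cfsg.Agent.H4.Hd7
import Cfsg.Agent.H11.YC
import Cfsg.Agent.H6.CS3
import Cfsg.Agent.H15.B1a
import Cfsg.Agent.H19.BS3
/-! Frames: generation. -/
set_option autoImplicit false
set_option maxRecDepth 100000
set_option linter.style.haveILetI false
set_option linter.unusedSectionVars false
set_option linter.unusedVariables false
namespace H4.Hd
open H29 (force force_eq allL allL_spec anyL anyL_iff band band_iff)
open H27 (cl mem_cl cl_le)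
open H28 (ev ev_cons ev_nil Rels)
open Subgroup Cfsg H16
noncomputable section
universe u
variable {G : Type u} [Group G] [Finite G] {z : G}
section
variable {K W M P : Subgroup G} {x y a b ω : G}
theorem exists_quot (hW : K ≤ N[W]) : ∃ (Q : Type u) (_ : Group Q) (_ : Finite Q) (φ : K →* Q), Function.Surjective φ ∧
    (∀ p q : K, φ p = φ q ↔ p.1 * q.1⁻¹ ∈ W) ∧ ∀ p : K, orderOf (φ p) = 2 ↔ p.1 * p.1 ∈ W ∧ p.1 ∉ W := by
  haveI : (W.subgroupOf K).Normal := ⟨fun n hn g => conj_mem (H := W) (hW g.2) hn⟩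
  have k : ∀ p : K, QuotientGroup.mk' (W.subgroupOf K) p = 1 ↔ p.1 ∈ W := fun p => QuotientGroup.eq_one_iff p
  exact ⟨_, inferInstance, inferInstance, QuotientGroup.mk' (W.subgroupOf K), QuotientGroup.mk'_surjective _,
    fun p q => by rw [← mul_inv_eq_one, ← map_inv, ← map_mul, k]; rfl,
    fun p => by rw [H6.ord2_iff, ← map_mul, Ne, k, k]; rfl⟩
theorem se_quot (hW : K ≤ N[W]) (hM : W ≤ M) (h : ∀ g ∈ K, ∀ x ∈ K, x ∈ M → x * x ∈ W → x ∉ W → g * x * g⁻¹ ∈ M → g ∈ M)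
    (hP : IsPGroup 2 P) (hK : P ≤ K) (hx : x ∈ P) (hy : y ∈ P) (xM : x ∈ M) (h1 : x * x ∈ W ∧ x ∉ W) (h2 : y * y ∈ W ∧ y ∉ W)
    (h3 : x * y * (y * x)⁻¹ ∉ W) : K ≤ M := fun g hg => by
  obtain ⟨Q, _, _, φ, sj, eq, od⟩ := exists_quot hW
  have m : ∀ p : K, φ p ∈ (M.subgroupOf K).map φ ↔ p.1 ∈ M := fun p =>
    ⟨fun ⟨q, h1, h2⟩ => (mul_mem_cancel_right (M.inv_mem h1)).1 (hM ((eq p q).1 h2.symm)), fun h => mem_map_of_mem φ h⟩
  by_contra hn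
  refine h3 ((eq (⟨x, hK hx⟩ * ⟨y, hK hy⟩) (⟨y, hK hy⟩ * ⟨x, hK hx⟩)).1 ?_)
  rw [map_mul, map_mul]
  refine H6.CS.se_comm (M := (M.subgroupOf K).map φ) (H6.stronglyEmbedded_iff.2 ⟨fun e => hn ((m ⟨g, hg⟩).1 (e ▸ mem_top _)),
    ⟨_, (m ⟨x, hK hx⟩).2 xM, (od _).2 h1⟩, fun g t ot h4 h5 => ?_⟩) ((hP.comap_subtype (K := K)).map φ)
    (mem_map_of_mem φ hx) (mem_map_of_mem φ hy) ((od _).2 h1) ((od _).2 h2)
  obtain ⟨g, rfl⟩ := sj g
  obtain ⟨t, rfl⟩ := sj t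
  rw [← map_inv, ← map_mul, ← map_mul] at h5
  exact (m g).2 (h _ g.2 _ t.2 ((m t).1 h4) ((od t).1 ot).1 ((od t).1 ot).2 ((m _).1 h5))
theorem zs_quot (hW : K ≤ N[W]) (hω : ω ∈ K) (ha : a ∈ K) (hb : b ∈ K) (h0 : ω * ω ∈ W ∧ ω ∉ W) (h1 : a * a ∈ W ∧ a ∉ W)
    (h2 : b * b ∈ W ∧ b ∉ W) (h3 : a * b⁻¹ ∉ W) (h4 : a * b = b * a)
    (iso : ∀ g ∈ K, ω * (g * ω * g⁻¹) * (g * ω * g⁻¹ * ω)⁻¹ ∈ W → g * ω * g⁻¹ * ω⁻¹ ∈ W)
    (h : ∀ v ∈ [ω, a, b, a * b], ∀ g ∈ K, g * v * g⁻¹ * v⁻¹ ∈ W → g ∈ M) : K ≤ M := fun g hg => by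
  obtain ⟨Q, _, _, φ, sj, eq, od⟩ := exists_quot hW
  have k : ∀ v : K, v.1 ∈ [ω, a, b, a * b] → ∀ p : K, φ p * φ v * (φ p)⁻¹ = φ v → p.1 ∈ M := fun v hv p e =>
    h _ hv _ p.2 ((eq (p * v * p⁻¹) v).1 (by rwa [map_mul, map_mul, map_inv]))
  have k2 : ∀ v : K, v.1 ∈ [ω, a, b, a * b] → pPrimeCore 2 Q ⊓ C1[φ v] ≤ (M.subgroupOf K).map φ := fun v hv q hq => by
    obtain ⟨p, rfl⟩ := sj q
    exact mem_map_of_mem φ (k v hv p (mul_inv_eq_iff_eq_mul.2 (mem_cent1.1 hq.2)))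
  have hO : Odd (Nat.card (pPrimeCore 2 Q)) := Nat.coprime_two_right.1 (H1.coprime_card_pPrimeCore 2)
  have nO : ∀ q : Q, q ∈ N[pPrimeCore 2 Q] := fun q => normalizer_eq_top (pPrimeCore 2 Q) ▸ mem_top q
  have le := H15.Bd.gen_four ((od ⟨a, ha⟩).2 h1) ((od ⟨b, hb⟩).2 h2) (fun e => h3 ((eq _ _).1 e))
    ((show Commute ⟨a, ha⟩ (⟨b, hb⟩ : K) from Subtype.ext h4).map φ) hO (nO _) (nO _) (k2 _ (by simp)) (k2 _ (by simp))
    (map_mul φ _ _ ▸ k2 _ (by simp))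
  have I : IsIsolatedInvolution (φ ⟨ω, hω⟩) := ⟨(od _).2 h0, fun q hq => by
    obtain ⟨p, rfl⟩ := sj q
    rw [← map_inv, ← map_mul, ← map_mul] at hq ⊢
    exact (eq _ _).2 (iso _ p.2 ((eq (⟨ω, hω⟩ * (p * ⟨ω, hω⟩ * p⁻¹)) (p * ⟨ω, hω⟩ * p⁻¹ * ⟨ω, hω⟩)).1
      (by rw [map_mul, hq.eq, ← map_mul])))⟩
  have zs := H19.zstar I (φ ⟨g, hg⟩)
  rw [H6.ord2_inv I.1, mul_assoc, mul_assoc, ← mul_assoc (φ ⟨g, hg⟩)] at zs
  obtain ⟨o, ho, c⟩ := H11.YZ.exists_conj_comm (H6.ord2_mul_self I.1) (H6.ord2_mul_self (H6.ord2_conj I.1 _)) hO (mul_mem zs zs)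
  obtain ⟨m, hm, rfl⟩ := le ho
  refine (mul_mem_cancel_left hm).1 (k ⟨ω, hω⟩ (by simp) (m * ⟨g, hg⟩) (I.2 _ ?_))
  convert c.symm using 1
  rw [map_mul]; group
theorem pg_zp {n : ℕ} (h : x ^ 2 ^ n = 1) : Pg[2] (zpowers x) := pg_iff.2 fun g => ⟨n, Subtype.ext (by
  obtain ⟨k, hk⟩ := g.2
  rw [Subgroup.coe_pow, ← hk, ← zpow_natCast, ← zpow_mul, mul_comm, zpow_mul, zpow_natCast, h, one_zpow]; rfl)⟩
theorem sy_mem (h : Sy[2] P K) (hx : x ∈ K) (h4 : x * x * (x * x) = 1) : ∃ g ∈ K, g * x * g⁻¹ ∈ P := by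
  obtain ⟨g, hg, e⟩ := sy_conj_le h (zpowers_le.2 hx) (pg_zp (n := 2) (by rw [← h4, pow_succ' 2, pow_mul, pow_one, pow_two, pow_two]))
  exact ⟨g, hg, e (H16.cj_mem (mem_zpowers x))⟩
end
def lChk (L : List ℕ) : Bool := band (mem o L) (allL (fun a => band (band (vb a) (Nat.beq (mu a a) o)) (allL (fun b => mem (mu a b) L) L)) L)
def w1Chk (P : Pat) (pt : ℕ) : Bool := bor (allP P.L (fun c => bor (mem c LW) (bor (Oz pt c) (Oz pt (mu c ct)))) o)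
  (allP P.L (fun a => imp (band (Oz pt a) (Oz pt (mu a ct))) (pm PZ.M a)) o)
theorem w1_chk : allL (fun pt => band (w1Chk PA1 pt) (w1Chk PA2 pt)) [23, 87, 151, 215] = true := by decide +kernel
theorem w2_chk : allP PZ.L (fun c => bor (mem c LW) (bor (zc c) (zc (mu c ct)))) o = true := by decide +kernel
theorem pt_chk : H29.allR (fun p => imp (band (band (tb p 0) (band (tb p 1) (tb p 2))) (band (bnot (tb p 3)) (band (tb p 4) (bnot (tb p 5)))))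
    (mem p [23, 87, 151, 215])) 0 256 = true := by decide +kernel
namespace Fr
variable (F : Fr z)
/-- the subgroup with the listed elements -/
def SL (L : List ℕ) (h : lChk L = true := by decide +kernel) : Subgroup G where
  carrier := {g | ∃ a ∈ L, F.f a = g}
  one_mem' := ⟨o, mem_iff.1 (band_iff.1 h).1, F.one⟩
  mul_mem' := by
    simp only [lChk, band_iff, allL_iff, mem_iff] at h
    rintro _ _ ⟨a, ha, rfl⟩ ⟨b, hb, rfl⟩
    exact ⟨_, (h.2 a ha).2 b hb, F.mul (.of_vb (h.2 a ha).1.1) (.of_vb (h.2 b hb).1.1)⟩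
  inv_mem' := by
    simp only [lChk, band_iff, allL_iff, mem_iff, Nat.beq_eq] at h
    rintro _ ⟨a, ha, rfl⟩
    have v := V.of_vb (h.2 a ha).1.1
    exact ⟨a, ha, eq_inv_of_mul_eq_one_left (by rw [← F.mul v v, (h.2 a ha).1.2, F.one])⟩
variable {F}
theorem fSL {L : List ℕ} {h : lChk L = true} {a : ℕ} (ha : V a) : F.f a ∈ F.SL L h ↔ a ∈ L := by
  simp only [lChk, band_iff, allL_iff] at h
  exact ⟨fun ⟨b, hb, e⟩ => F.inj (.of_vb (h.2 b hb).1.1) ha e ▸ hb, fun k => ⟨a, k, rfl⟩⟩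
theorem S_le' (P Q : Pat) (h : allL (pm Q.M) (cds P.L) = true := by decide +kernel) : F.S P ≤ F.S Q :=
  F.S_le fun x hx => (F.fS (P.V hx)).2 (allL_spec h x hx)
theorem S_c (P : Pat) {a : ℕ} (h : band (vb a) (allL (fun x => cm x a) (cds P.L)) = true := by decide +kernel) : F.S P ≤ C1[F.f a] :=
  F.S_le fun x hx => mem_cent1.2 ((F.cm_iff (P.V hx) (.of_vb (band_iff.1 h).1)).1 (allL_spec (band_iff.1 h).2 x hx))
theorem vt : V ct := .of_vb (by decide +kernel)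
theorem vo : V co := .of_vb (by decide +kernel)
theorem fm {a b : ℕ} (c : ℕ) (h : band (band (vb a) (vb b)) (Nat.beq (mu a b) c) = true := by decide +kernel) :
    F.f a * F.f b = F.f c := by
  simp only [band_iff, Nat.beq_eq] at h
  rw [← F.mul (.of_vb h.1.1) (.of_vb h.1.2), h.2]
/-- the fusion pattern of the simple groups -/
structure Gen (F : Fr z) (X : Subgroup G) : Prop where
  hX : C1[z] ≤ X
  x1 : F.Xc X 0 1
  x2 : F.Xc X 0 2
  x4 : F.Xc X 2 4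
  x5 : F.Xc X 5 3
  x6 : F.Xc X 6 1 ∨ F.Xc X 6 3
  x7 : F.Xc X 7 2 ∨ F.Xc X 7 3
namespace Gen
variable {X : Subgroup G} (h : F.Gen X) {g x y : G} {a : ℕ}
include h
theorem inX (hy : y ∈ X) (h2 : orderOf y = 2) : ∃ x ∈ X, x * y * x⁻¹ = z ∨ x * y * x⁻¹ = F.f ct := by
  obtain ⟨g, hg, e⟩ := sy_mem (hl_of_le F.sy_T ((F.S_cen PT).trans h.hX) le_top) hy (by rw [H6.ord2_mul_self h2, one_mul])
  have o2 := H6.ord2_conj h2 g
  obtain ⟨k, hk, c, hc, e⟩ := F.inv_rep (F.S_cen PT e) (H6.ord2_mul_self o2) (H6.ord2_ne_one o2)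
  have r : ∀ i, F.Xc X i i := fun i => ⟨1, one_mem _, by group⟩
  have : F.Xc X k 0 ∨ F.Xc X k 3 := by
    interval_cases k
    exacts [.inl (r 0), .inl h.x1.symm, .inl h.x2.symm, .inr (r 3), .inl (h.x2.trans h.x4).symm, .inr h.x5,
      h.x6.imp_left (·.trans h.x1.symm), h.x7.imp_left (·.trans h.x2.symm)]
  have q : ∀ x, x * c⁻¹ * g * y * (x * c⁻¹ * g)⁻¹ = x * F.f (rep k) * x⁻¹ := fun x => by
    rw [show x * c⁻¹ * g * y * _ = x * c⁻¹ * (g * y * g⁻¹) * c * x⁻¹ by group, ← e]; group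
  rcases this with ⟨x, hx, e⟩ | ⟨x, hx, e⟩
  · exact ⟨_, mul_mem (mul_mem hx (inv_mem (h.hX hc))) hg, .inl ((q x).trans (e.trans F.fz))⟩
  · exact ⟨_, mul_mem (mul_mem hx (inv_mem (h.hX hc))) hg, .inr ((q x).trans e)⟩
theorem star (hz : IsConj z y) (hy : y ∈ X) (hg : g * y * g⁻¹ ∈ X) : g ∈ X := by
  have k : ∀ y ∈ X, IsConj z y → ∃ x ∈ X, x * y * x⁻¹ = z := fun y hy hz => by
    obtain ⟨c, e⟩ := isConj_iff.1 hz
    obtain ⟨x, hx, e⟩ := h.inX hy (e ▸ H6.ord2_conj (H6.ord2_of F.zz F.z_ne) c)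
    exact ⟨x, hx, e.resolve_right fun e => F.not_w (show IsConj z (F.f ct) from e ▸ (isConj_cj _ _).2 hz)⟩
  obtain ⟨x, hx, e⟩ := k y hy hz
  obtain ⟨x', hx', e'⟩ := k _ hg ((isConj_cj _ _).2 hz)
  have : x' * g * x⁻¹ ∈ X := h.hX (mem_cent1.2 (by nth_rw 1 [← e]; rw [← e']; group))
  rwa [mul_mem_cancel_right (inv_mem hx), mul_mem_cancel_left hx'] at this
theorem zcZ (ha : V a) (h2 : mu a a = o) (k : zc a = true) : F.Z a := by
  have h1 : a ≠ o := fun e => absurd (e ▸ k) (by decide +kernel)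
  rw [F.Z_cls ha h2 h1]
  have := (by decide +kernel : ∀ k < 8, tb 23 k = true → k = 0 ∨ k = 1 ∨ k = 2 ∨ k = 4) _ (cls_spec ha h2 h1).1 k
  rcases this with e | e | e | e <;> rw [e]
  exacts [F.Z0, h.x1.Z F.Z0, h.x2.Z F.Z0, h.x4.Z (h.x2.Z F.Z0)]
theorem nZ (a : ℕ) (k : band (band (vb a) (Nat.beq (mu a a) o)) (bor (Nat.beq (cls a) 3) (Nat.beq (cls a) 5)) = true := by
    decide +kernel) : ¬ F.Z a := fun hz => by
  simp only [band_iff, bor_iff, Nat.beq_eq] at k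
  rw [F.Z_cls (.of_vb k.1.1) k.1.2 fun e => F.not_Z_o (e ▸ hz)] at hz
  rcases k.2 with e | e <;> rw [e] at hz
  exacts [F.not_w hz, F.not_w (h.x5.Z hz)]
theorem zp (hg : F.S PJ :^ g ≤ F.S PT) (ha : V a) (hm : pm PZ.M a = true) (h1 : a ≠ o) (h2 : ¬ F.Z a) :
    ∃ p, pm PZ.M p = true ∧ nz p = true ∧ F.Cj g a p := by
  have n1 := H16.cj_eq_self_iff.1 (F.wc1.2 g ((H16.cj_mono g (S_le' PA1 PJ)).trans hg))
  have n2 := H16.cj_eq_self_iff.1 (F.wc2.2 g ((H16.cj_mono g (S_le' PA2 PJ)).trans hg))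
  obtain ⟨p, m, k⟩ := Cj.ex n1 ha ((F.fS ha).1 (S_le' PZ PA1 (by decide +kernel) ((F.fS ha).2 hm)))
  refine ⟨p, imp_iff.1 (PA1.all Z_inf k.2.1 m) (k.pm n2 ((F.fS ha).1 (S_le' PZ PA2 (by decide +kernel) ((F.fS ha).2 hm)))), ?_, k⟩
  simp only [nz, bnot_iff, bor_iff, Nat.beq_eq, not_or]
  exact ⟨fun e => h1 ((e ▸ k).symm.uniq Cj.o), fun e => h2 (k.Z.1 (h.zcZ k.2.1 (F.sq_o aChk1 k.2.1 ((F.fS k.2.1).2 m)) e))⟩
theorem sylJ : Sy[2] (F.S PJ) (C1[F.f ct] ⊓ C1[F.f co]) :=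
  sy_of_max (le_inf (S_c PJ) (S_c PJ)) (pg_iff.2 ((pg_iff.1 F.pg_T).to_le (S_le' PJ PT))) fun Q h1 h2 h3 => by
    obtain ⟨g, -, hg⟩ := sy_conj_le F.sy_T le_top h2
    have k := (H16.cj_mono g h3).trans hg
    obtain ⟨p, p1, p2, p3⟩ := h.zp k vt (by decide +kernel) (by decide) (h.nZ _)
    obtain ⟨q, q1, q2, q3⟩ := h.zp k vo (by decide +kernel) (by decide) (h.nZ _)
    obtain ⟨r, -, r2, r3⟩ := h.zp k (vt.mu vo) (by decide +kernel) (by decide +kernel) (h.nZ _)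
    have := PZ.all (band_iff.1 (imp_iff.1 (PZ.all Z_cen p3.2.1 p1) p2)).2 q3.2.1 q1
    rw [imp_iff, band_iff] at this
    have c := this ⟨q2, r3.uniq (p3.mu q3) ▸ r2⟩
    refine (eq_of_le_of_card h3 ((H16.card_cj Q g).ge.trans (H16.card_le fun x hx => ?_))).symm
    obtain ⟨a, ha, hm, rfl⟩ := F.mem_S.1 (hg hx)
    have c := PT.all c ha hm
    rw [imp_iff, band_iff, F.cm_iff ha p3.2.1, F.cm_iff ha q3.2.1, ← p3.2.2, ← q3.2.2, ← mem_cent1, ← mem_cent1, H16.cent1_cj,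
      H16.cent1_cj] at c
    exact (F.fS ha).2 (c ⟨H16.cj_mono g (h1.trans inf_le_left) hx, H16.cj_mono g (h1.trans inf_le_right) hx⟩)
theorem L_le : C1[F.f ct] ⊓ C1[F.f co] ≤ X := by
  have c : ∀ g ∈ C1[F.f ct] ⊓ C1[F.f co], ∀ w ∈ F.SL LW, g * w * g⁻¹ = w := by
    rintro g ⟨h1, h2⟩ _ ⟨a, ha, rfl⟩
    have h1 := mul_inv_eq_iff_eq_mul.2 (mem_cent1.1 h1)
    have h2 := mul_inv_eq_iff_eq_mul.2 (mem_cent1.1 h2)
    simp only [LW, List.mem_cons, List.not_mem_nil, or_false] at ha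
    rcases ha with rfl | rfl | rfl | rfl
    exacts [by rw [F.one]; group, h1, h2, by rw [← fm (a := ct) (b := co) _, ← conj_mul, h1, h2]]
  have vw : ∀ a ∈ LW, V a := V.all (by decide +kernel)
  have hW : F.SL LW ≤ X := by rintro _ ⟨a, ha, rfl⟩; exact h.hX (mem_cent1.2 (F.cen (vw a ha)))
  have v1 : V 0x1049041 := .of_vb (by decide +kernel)
  have v2 : V 0x1841041 := .of_vb (by decide +kernel)
  refine se_quot (le_norm_iff.2 fun g hg w hw => (c g hg w hw).symm ▸ hw) hW (fun g hg x hx h1 h2 h3 h4 => ?_)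
    (sy_pg h.sylJ) h.sylJ.1 (F.fS' PJ (a := 0x1049041) (by decide +kernel)) (F.fS' PJ (a := 0x1841041) (by decide +kernel))
    (h.hX (mem_cent1.2 (F.cen v1))) ⟨by rw [fm o, F.one]; exact one_mem _, fun e => absurd ((fSL v1).1 e) (by decide)⟩
    ⟨by rw [fm o, F.one]; exact one_mem _, fun e => absurd ((fSL v2).1 e) (by decide)⟩ fun e => ?_
  · obtain ⟨m, hm, e⟩ := sy_mem (hl_of_le h.sylJ (le_inf h.sylJ.1 ((F.S_cen PJ).trans h.hX)) inf_le_left) ⟨hx, h1⟩ (by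
      obtain ⟨a, ha, e⟩ := h2
      rw [← e, ← F.mul (vw a ha) (vw a ha), F.one_iff ((vw a ha).mu (vw a ha))]
      clear e; revert a; decide +kernel)
    obtain ⟨a, ha, hp, e⟩ := F.mem_S.1 e
    have := PJ.all J_cos ha hp
    simp only [imp_iff, band_iff, mem_iff, bnot_iff, anyL_iff, force_eq, Nat.beq_eq, sq_eq] at this
    obtain ⟨w, hw, k1, k2⟩ := this ⟨(fSL (ha.mu ha)).1 (by rw [F.mul ha ha, e, conj_mul, c m hm.1 _ h2]; exact h2),
      fun k => h3 (by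
        have := c m⁻¹ (inv_mem hm.1) _ ((fSL ha).2 k)
        rw [show x = F.f a by rw [← this, e]; group]; exact (fSL ha).2 k)⟩
    have v := ha.mu (vw w hw)
    refine (mul_mem_cancel_right (X.inv_mem hm.2)).1 (h.star (h.zcZ v k1 k2) (h.hX (mem_cent1.2 (F.cen v))) ?_)
    rw [F.mul ha (vw w hw), e, ← conj_mul, c _ (mul_mem hg (inv_mem hm.1)) _ ⟨w, hw, rfl⟩]
    refine mul_mem ?_ (hW ⟨w, hw, rfl⟩)
    convert h4 using 1; group
  · rw [← F.mul v1 v2, ← F.mul v2 v1, ← F.inv (v2.mu v1), ← F.mul (v1.mu v2) (v2.mu v1).iv] at e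
    exact absurd ((fSL ((v1.mu v2).mu (v2.mu v1).iv)).1 e) (by decide +kernel)
theorem sylT : Sy[2] (F.S PT ⊓ C1[F.f ct]) C1[F.f ct] :=
  sy_of_max inf_le_right (pg_iff.2 ((pg_iff.1 F.pg_T).to_le inf_le_left)) fun Q h1 h2 h3 => by
    obtain ⟨g, -, hg⟩ := sy_conj_le F.sy_T le_top h2
    have hJ : F.S PJ ≤ F.S PT ⊓ C1[F.f ct] := le_inf (S_le' PJ PT) (S_c PJ)
    obtain ⟨p, p1, p2, p3⟩ := h.zp ((H16.cj_mono g (hJ.trans h3)).trans hg) vt (by decide +kernel) (by decide) (h.nZ _)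
    have c := (band_iff.1 (imp_iff.1 (PZ.all Z_cen p3.2.1 p1) p2)).1
    have c1 := F.card_le PT (cm p) (K := Q :^ g) fun x hx => by
      obtain ⟨a, ha, hm, rfl⟩ := F.mem_S.1 (hg hx)
      refine ⟨a, ha, hm, (F.cm_iff p3.2.1 ha).2 (mem_cent1.1 ?_).symm, rfl⟩
      rw [← p3.2.2, H16.cent1_cj]; exact H16.cj_mono g h1 hx
    have c2 : Nat.card (F.S PJ) = 256 := (F.card_S PJ (by decide +kernel)).trans (by decide +kernel)
    have vs : V 0x1041641 := .of_vb (by decide +kernel)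
    have c3 := H16.card_lt (lt_of_le_of_ne hJ fun e => absurd ((F.fS vs).1 (e.ge ⟨F.fS' PT (by decide +kernel),
      mem_cent1.2 ((F.cm_iff vs vt).1 (by decide +kernel))⟩)) (by decide +kernel))
    have c4 := H16.card_dvd hJ
    rw [H16.card_cj] at c1
    rw [Nat.ble_eq] at c
    rw [c2] at c3 c4
    exact (eq_of_le_of_card h3 (by omega)).symm
theorem key2 {P : Pat} (hP : aChk P = true) (hZ : F.S PZ ≤ F.S P) (hw : w1Chk P F.pt = true) (hn : g ∈ N[F.S P])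
    (ht : F.Cj g ct ct) : g * F.f co * g⁻¹ * (F.f co)⁻¹ ∈ F.SL [o, ct] := by
  have mt : F.f ct ∈ F.S P := hZ (F.fS' PZ (by decide +kernel))
  have oz : ∀ {a}, V a → pm P.M a = true → (Oz F.pt a = true ↔ F.Z a) ∧ (Oz F.pt (mu a ct) = true ↔ F.Z (mu a ct)) ∧
      (zc a = true → F.Z a) ∧ (zc (mu a ct) = true → F.Z (mu a ct)) := fun ha hm =>
    have k1 := F.sq_o hP ha ((F.fS ha).2 hm)
    have k2 := F.sq_o hP (ha.mu vt) (F.mul ha vt ▸ mul_mem ((F.fS ha).2 hm) mt)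
    ⟨F.Oz_iff ha k1, F.Oz_iff (ha.mu vt) k2, h.zcZ ha k1, h.zcZ (ha.mu vt) k2⟩
  have ex : ∀ a, band (vb a) (pm PZ.M a) = true → ∃ b, pm P.M b = true ∧ F.Cj g a b := fun a k =>
    have v := V.of_vb (band_iff.1 k).1
    Cj.ex hn v ((F.fS v).1 (hZ (F.fS' PZ k)))
  obtain ⟨c, m, k⟩ := ex co (by decide +kernel)
  have n1 : ¬ F.Z c := fun e => h.nZ co (by decide +kernel) (k.Z.1 e)
  have n2 : ¬ F.Z (mu c ct) := fun e => h.nZ _ (by decide +kernel) ((k.mu ht).Z.1 e)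
  have q := oz k.2.1 m
  have : c ∈ LW := by
    rcases bor_iff.1 hw with hw | hw
    · have := P.all hw k.2.1 m
      simp only [bor_iff, mem_iff] at this
      exact this.resolve_right fun e => e.elim (fun e => n1 (q.1.1 e)) fun e => n2 (q.2.1.1 e)
    have l : ∀ a, band (band (vb a) (pm PZ.M a)) (band (band (Nat.beq (mu a a) o) (zc a))
        (band (Nat.beq (mu (mu a ct) (mu a ct)) o) (zc (mu a ct)))) = true → g * F.f a * g⁻¹ ∈ F.S PZ := fun a k => by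
      obtain ⟨b, m, e⟩ := ex a (band_iff.1 k).1
      simp only [band_iff, Nat.beq_eq] at k
      have := P.all hw e.2.1 m
      rw [imp_iff, band_iff, (oz e.2.1 m).1, (oz e.2.1 m).2.1, e.Z, (e.mu ht).Z] at this
      exact e.2.2 ▸ (F.fS e.2.1).2 (this ⟨h.zcZ e.1 k.2.1.1 k.2.1.2, h.zcZ (e.1.mu vt) k.2.2.1 k.2.2.2⟩)
    have := mul_mem (l 0x10410c1 (by decide +kernel)) (mul_mem (l 0x1141061 (by decide +kernel)) (l 0x1541041 (by decide +kernel)))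
    rw [conj_mul, conj_mul, fm 0x1441061, fm co, k.2.2, F.fS k.2.1] at this
    have := PZ.all w2_chk k.2.1 this
    simp only [bor_iff, mem_iff] at this
    exact this.resolve_right fun e => e.elim (fun e => n1 (q.2.2.1 e)) fun e => n2 (q.2.2.2 e)
  simp only [LW, List.mem_cons, List.not_mem_nil, or_false] at this
  rcases this with rfl | rfl | rfl | rfl
  · exact absurd (k.symm.uniq Cj.o) (by decide)
  · exact absurd (k.symm.uniq ht.symm) (by decide)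
  · rw [k.2.2, mul_inv_cancel]; exact one_mem _
  · rw [k.2.2, ← fm (a := ct) (b := co) _, mul_inv_cancel_right]; exact ⟨ct, by simp, rfl⟩
theorem key (hg : g ∈ C1[F.f ct]) (hT : g * F.f co * g⁻¹ ∈ F.S PT) : g * F.f co * g⁻¹ * (F.f co)⁻¹ ∈ F.SL [o, ct] := by
  have zt : z ∈ C1[F.f ct] := mem_cent1.2 (F.cen vt).symm
  obtain ⟨l, hl, e⟩ := sy_mem h.sylJ (x := g⁻¹ * z * g) ⟨(C1[F.f ct]).mul_mem (mul_mem (inv_mem hg) zt) hg, by
    have := cent1_comm.1 (F.S_cen PT hT)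
    rwa [H16.cent1_cj, H16.mem_cj] at this⟩ (by rw [show g⁻¹ * z * g * (g⁻¹ * z * g) = g⁻¹ * (z * z) * g by group, F.zz]; group)
  have e1 : g * F.f co * g⁻¹ = g * l⁻¹ * F.f co * (g * l⁻¹)⁻¹ := by
    nth_rw 1 [← mul_inv_eq_iff_eq_mul.2 (mem_cent1.1 ((C1[F.f co]).inv_mem hl.2))]; group
  have hk := mul_mem hg ((C1[F.f ct]).inv_mem hl.1)
  rw [show l * (g⁻¹ * z * g) * l⁻¹ = (g * l⁻¹)⁻¹ * z * (g * l⁻¹) by group] at e
  rw [e1]
  generalize g * l⁻¹ = k at e hk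
  have pt : F.pt ∈ [23, 87, 151, 215] := by
    have := H29.allR_lt pt_chk _ F.pt_lt
    simp only [imp_iff, band_iff, bnot_iff, mem_iff, F.tb_pt, Nat.reduceLT, Nat.ofNat_pos, Nat.one_lt_ofNat] at this
    exact this ⟨⟨F.Z0, h.x1.Z F.Z0, h.x2.Z F.Z0⟩, F.not_w, h.x4.Z (h.x2.Z F.Z0), fun e => F.not_w (h.x5.Z e)⟩
  have w := band_iff.1 (allL_spec w1_chk _ pt)
  have q : ∀ P : Pat, aChk P = true → F.S P ≤ F.S PJ → k⁻¹ * z * k ∈ F.S P → F.S P :^ k ≤ F.S PT := fun P hP hJ hz x hx => by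
    obtain ⟨a, ha, rfl⟩ := F.sur (g := x) (by
      have := mem_cent.1 ((F.a_spec hP).2.1 hz) _ (H16.mem_cj.1 hx)
      calc _ = k * (k⁻¹ * x * k * (k⁻¹ * z * k)) * k⁻¹ := by group
        _ = _ := by rw [this]; group)
    exact (F.fS ha).2 (imp_iff.1 (allH_spec t_cen ha) ((F.cm_iff ha vt).2 (mem_cent1.1
      (H16.cj_le_of_mem hk (hJ.trans (S_c PJ)) hx))))
  have ht : F.Cj k ct ct := ⟨vt, vt, mul_inv_eq_iff_eq_mul.2 (mem_cent1.1 hk)⟩
  obtain ⟨a, ha, hm, e2⟩ := F.mem_S.1 e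
  have := PJ.all J_inv ha hm
  rw [imp_iff, bor_iff, ← F.fS ha, ← F.fS ha, Nat.beq_eq, sq_eq, ← F.one_iff (ha.mu ha), F.mul ha ha, e2] at this
  rcases this (by rw [show k⁻¹ * z * k * (k⁻¹ * z * k) = k⁻¹ * (z * z) * k by group, F.zz]; group) with e | e
  · exact h.key2 aChk1 (S_le' _ _) w.1 (H16.cj_eq_self_iff.1 (F.wc1.2 k (q _ aChk1 (S_le' _ _) e))) ht
  · exact h.key2 aChk2 (S_le' _ _) w.2 (H16.cj_eq_self_iff.1 (F.wc2.2 k (q _ aChk2 (S_le' _ _) e))) ht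
theorem K_le : C1[F.f ct] ≤ X := by
  have c : ∀ g ∈ C1[F.f ct], ∀ w ∈ F.SL [o, ct], g * w * g⁻¹ = w := by
    rintro g h1 _ ⟨a, ha, rfl⟩
    simp only [List.mem_cons, List.not_mem_nil, or_false] at ha
    rcases ha with rfl | rfl
    exacts [by rw [F.one]; group, mul_inv_eq_iff_eq_mul.2 (mem_cent1.1 h1)]
  have hW : ∀ w ∈ F.SL [o, ct], w = 1 ∨ w = F.f ct := by
    rintro _ ⟨a, ha, rfl⟩
    simp only [List.mem_cons, List.not_mem_nil, or_false] at ha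
    rcases ha with rfl | rfl
    exacts [.inl F.one, .inr rfl]
  have hH : ∀ {a}, V a → F.f a ∈ X := fun v => h.hX (mem_cent1.2 (F.cen v))
  have q : ∀ a, band (vb a) (band (cm a ct) (band (Nat.beq (mu a a) o) (bnot (mem a [o, ct])))) = true →
      F.f a ∈ C1[F.f ct] ∧ F.f a * F.f a ∈ F.SL [o, ct] ∧ F.f a ∉ F.SL [o, ct] := fun a k => by
    simp only [band_iff, Nat.beq_eq, bnot_iff, mem_iff] at k
    have v := V.of_vb k.1
    exact ⟨mem_cent1.2 ((F.cm_iff v vt).1 k.2.1), by rw [← F.mul v v, k.2.2.1, F.one]; exact one_mem _,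
      fun e => k.2.2.2 ((fSL v).1 e)⟩
  have oo : F.f co * F.f co = 1 := (fm o).trans F.one
  have st : ∀ a, band (band (vb a) (Nat.beq (mu a a) o)) (zc a) = true → ∀ g ∈ C1[F.f ct],
      g * F.f a * g⁻¹ * (F.f a)⁻¹ ∈ F.SL [o, ct] → g ∈ X := fun a k g hg e => by
    simp only [band_iff, Nat.beq_eq] at k
    have v := V.of_vb k.1.1
    refine h.star (h.zcZ v k.1.2 k.2) (hH v) ((mul_mem_cancel_right (X.inv_mem (hH v))).1 ?_)
    rcases hW _ e with e | e <;> rw [e]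
    exacts [one_mem _, hH vt]
  refine zs_quot (le_norm_iff.2 fun g hg w hw => (c g hg w hw).symm ▸ hw) (q co (by decide +kernel)).1
    (q cz (by decide +kernel)).1 (q 0x10410c1 (by decide +kernel)).1 (q co (by decide +kernel)).2 (q cz (by decide +kernel)).2
    (q 0x10410c1 (by decide +kernel)).2 ?_ ((fm 0x10410e1).trans (fm _).symm) (fun g hg e => ?_) ?_
  · rw [inv_eq_of_mul_eq_one_right ((fm (a := 0x10410c1) (b := 0x10410c1) o).trans F.one), fm 0x10410e1]; exact (q _ (by decide +kernel)).2.2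
  · have o2 : g * F.f co * g⁻¹ * (g * F.f co * g⁻¹) = 1 := by rw [conj_mul, oo]; group
    have m1 := (q co (by decide +kernel)).1
    have m2 := mul_mem (mul_mem hg m1) (inv_mem hg)
    have i1 := inv_eq_of_mul_eq_one_right oo
    have ky := fun k hk => h.key (g := k * g) (mul_mem hk hg)
    simp only [show ∀ k, k * g * F.f co * (k * g)⁻¹ = k * (g * F.f co * g⁻¹) * k⁻¹ from fun k => by group] at ky
    generalize g * F.f co * g⁻¹ = d at *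
    have i2 := inv_eq_of_mul_eq_one_right o2
    rw [mul_inv_rev, i1, i2] at e
    have n : F.f co ∈ N[zpowers (F.f co * d)] := H16.cj_eq_self_iff.1 (by
      rw [← H16.zpowers_cj, ← zpowers_inv]; congr 1
      simp only [mul_inv_rev, i1, i2, ← mul_assoc, oo, one_mul, mul_inv_cancel_right])
    obtain ⟨k, hk, e1⟩ := sy_conj_le h.sylT (U := zpowers (F.f co * d) ⊔ zpowers (F.f co))
      (sup_le (zpowers_le.2 (mul_mem m1 m2)) (zpowers_le.2 m1)) (pg_iff.2 (IsPGroup.to_sup_of_normal_left'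
        (pg_iff.1 (pg_zp (n := 2) (by
          rw [pow_succ' 2, pow_mul, pow_one, pow_two, pow_two]
          rcases hW _ e with e | e <;> rw [e]
          exacts [one_mul _, (fm o).trans F.one]))) (pg_iff.1 (pg_zp (n := 1) (by rwa [pow_one, pow_two]))) (zpowers_le.2 n)))
    have a1 := mem_sup_right (S := zpowers (F.f co * d)) (mem_zpowers (F.f co))
    have a2 := h.key hk (e1 (H16.cj_mem a1)).1
    have a3 := ky k hk (e1 (H16.cj_mem ((mul_mem_cancel_left a1).1 (mem_sup_left (mem_zpowers _))))).1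
    have a4 := mul_mem a3 (inv_mem a2)
    rw [← c k⁻¹ (inv_mem hk) _ a4] at a4
    convert a4 using 1; group
  simp only [List.forall_mem_cons]
  refine ⟨fun g hg e => ?_, st _ (by decide +kernel), st _ (by decide +kernel), by rw [fm 0x10410e1]; exact st _ (by decide +kernel), by simp⟩
  rcases hW _ e with e | e
  · exact h.L_le ⟨hg, mem_cent1.2 (mul_inv_eq_iff_eq_mul.1 (mul_inv_eq_one.1 e))⟩
  · have vs : V 0x1041641 := .of_vb (by decide +kernel)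
    have k : F.Cj (F.f 0x1041641) co (mu ct co) := (Cj.h vs vo).rt
    refine (mul_mem_cancel_left (X.inv_mem (hH vs))).1 (h.L_le ⟨(C1[F.f ct]).mul_mem (inv_mem (mem_cent1.2 ((F.cm_iff vs vt).1
      (by decide +kernel)))) hg, mem_cent1.2 (mul_inv_eq_iff_eq_mul.1 ?_)⟩)
    nth_rw 2 [← k.symm.2.2]
    rw [F.mul vt vo, ← e]; group
theorem top : X = ⊤ := by
  by_contra hn
  have oz := H6.ord2_of F.zz F.z_ne
  refine F.not_w (H6.se_isConj (H6.stronglyEmbedded_iff.2 ⟨hn, ⟨z, h.hX (cent1_self z), oz⟩, fun g y o2 h1 h2 => ?_⟩) oz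
    (H6.ord2_of ((fm (a := ct) (b := ct) o).trans F.one) fun e => absurd ((F.one_iff vt).1 e) (by decide)))
  obtain ⟨x, hx, e | e⟩ := h.inX h1 o2
  · exact h.star ((isConj_cj x y).1 (by rw [e])) h1 h2
  obtain ⟨x', hx', e' | e'⟩ := h.inX h2 (H6.ord2_conj o2 g)
  · exact h.star ((isConj_cj g y).1 ((isConj_cj x' _).1 (by rw [e']))) h1 h2
  have : x' * g * x⁻¹ ∈ X := h.K_le (mem_cent1.2 (by nth_rw 1 [← e]; rw [← e']; group))
  rwa [mul_mem_cancel_right (inv_mem hx), mul_mem_cancel_left hx'] at this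
end Gen
end Fr
end
end H4.Hd
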