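import Cfsg.Agent.H7.AutAlt

/-! Automorphisms trivial on an involution centralizer. -/

set_option autoImplicit false
open Subgroup Equiv

namespace H4.Loc1

theorem loc1 {G : Type*} [Group G] [Finite G] {t g n m : G} (ht : orderOf t = 2) (π : G → Perm (Fin 11))
    (hm : ∀ a b, Commute a t → Commute b t → π (a * b) = π a * π b)
    (hk : ∀ c, Commute c t → (π c = 1 ↔ c = 1 ∨ c = t))
    (hr : ∀ p, Perm.sign p = 1 ↔ ∃ c, Commute c t ∧ π c = p)
    (ρ : Perm (Fin 11)) (hρ : Perm.sign ρ = -1) (H : Set G)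
    (hH : ∀ h ∈ H, h ^ 3 = 1 ∧ Commute h t ∧ Commute (g * h * g⁻¹) t ∧ Commute ρ (π h))
    (hs : g⁻¹ * t * g ∈ closure H ⊔ zpowers t) (hu : Commute (g * t * g⁻¹) t)
    (mt : Commute m t) (mt' : Commute (g * m * g⁻¹) t)
    (L1 : ∀ τ : Perm (Fin 11), (∀ h ∈ H, Commute τ (π (g * h * g⁻¹))) → Perm.sign τ = 1)
    (L2 : ∀ τ : Perm (Fin 11), (∀ h ∈ H, Commute τ (π (g * h * g⁻¹))) → Commute τ (π (g * m * g⁻¹)) →
      τ = 1 ∨ τ = π (g * t * g⁻¹))
    (nt : Commute n t) (nt' : Commute ((n * g) ^ 2) t) (e1 : (n * (t * g)) ^ 2 ≠ (n * g) ^ 2)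
    (e2 : (n * (g * t)) ^ 2 ≠ (n * g) ^ 2) (hgen : centralizer {t} ⊔ zpowers g = ⊤)
    (β : MulAut G) (hβ : β t = t) (hβ' : (∀ c, Commute c t → β c = c) ∨
      ∀ c, Commute c t → π (β c) = ρ * π c * ρ⁻¹) : β = 1 ∨ β = MulAut.conj t := by
  have t2 : t ^ 2 = 1 := ht ▸ pow_orderOf_eq_one t
  have t1 : t ≠ 1 := fun e => by simp [e] at ht
  have ti : t⁻¹ = t := inv_eq_of_mul_eq_one_left (by rw [← t2, sq])
  have p1 : π 1 = 1 := (hk 1 (Commute.one_left t)).2 (Or.inl rfl)
  have pi : ∀ c, Commute c t → π c⁻¹ = (π c)⁻¹ := fun c hc =>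
    eq_inv_of_mul_eq_one_left (by rw [← hm _ _ hc.inv_left hc, inv_mul_cancel, p1])
  have pe : ∀ a b, Commute a t → Commute b t → π a = π b → a = b ∨ a = t * b := fun a b ha hb e => by
    have := (hk _ (ha.mul_left hb.inv_left)).1 (by rw [hm _ _ ha hb.inv_left, pi _ hb, e, mul_inv_cancel])
    exact this.imp mul_inv_eq_one.1 mul_inv_eq_iff_eq_mul.1
  have bc : ∀ c, Commute c t → Commute (β c) t := fun c hc => hβ ▸ hc.map β
  have fh : ∀ h ∈ H, β h = h := fun h hh => by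
    obtain ⟨h3, c1, -, c3⟩ := hH h hh
    refine hβ'.elim (fun a => a h c1) fun a => ?_
    refine (pe _ _ (bc h c1) c1 (by rw [a h c1, c3.eq, mul_inv_cancel_right])).resolve_right fun e => t1 ?_
    have := congrArg (· ^ 3) e
    simp only [← map_pow, h3, map_one, c1.symm.mul_pow, mul_one, pow_succ t 2, t2, one_mul] at this
    exact this.symm
  have ext : ∀ γ : MulAut G, (∀ c, Commute c t → β c = γ c) → β g = γ g → β = γ := fun γ a b => by
    have : (⊤ : Subgroup G) ≤ β.toMonoidHom.eqLocus γ.toMonoidHom := by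
      rw [← hgen]
      exact sup_le (fun c hc => a c (mem_centralizer_singleton_iff.1 hc)) (zpowers_le_of_mem b)
    exact MulEquiv.ext fun x => this (mem_top x)
  have fs : β (g⁻¹ * t * g) = g⁻¹ * t * g := by
    have : closure H ⊔ zpowers t ≤ β.toMonoidHom.eqLocus (MonoidHom.id G) :=
      sup_le ((closure_le _).2 fh) (zpowers_le_of_mem hβ)
    exact this hs
  obtain ⟨d, hd⟩ : ∃ d, β g = d * g := ⟨β g * g⁻¹, by group⟩
  have cj : ∀ h, β h = h → β (g * h * g⁻¹) = d * (g * h * g⁻¹) * d⁻¹ := fun h e => by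
    rw [map_mul, map_mul, map_inv, e, hd]; group
  have dt : Commute d t := by
    have := cj _ fs
    rw [show g * (g⁻¹ * t * g) * g⁻¹ = t by group, hβ] at this
    exact mul_inv_eq_iff_eq_mul.1 this.symm
  rcases hβ' with a | a
  · have cd : ∀ h, Commute h t → Commute (g * h * g⁻¹) t → Commute (π d) (π (g * h * g⁻¹)) :=
      fun h h1 h2 => by
        have := cj h (a h h1)
        rw [a _ h2] at this
        rw [Commute, SemiconjBy, ← hm _ _ dt h2, ← hm _ _ h2 dt, mul_inv_eq_iff_eq_mul.1 this.symm]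
    have k := a _ nt'
    rw [map_pow, map_mul, a n nt, hd] at k
    rcases L2 _ (fun h hh => cd h (hH h hh).2.1 (hH h hh).2.2.1) (cd m mt mt') with e | e
    · rcases (hk d dt).1 e with rfl | rfl
      · exact Or.inl (ext 1 a (by simpa using hd))
      · exact (e1 k).elim
    · rcases pe _ _ dt hu e with rfl | rfl
      · exact (e2 (by simpa using k)).elim
      · refine Or.inr (ext _ (fun c hc => ?_) ?_)
        · rw [a c hc, MulAut.conj_apply, ← hc.eq, mul_inv_cancel_right]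
        · rw [hd, MulAut.conj_apply, ti]; group
  · have := L1 ((π d)⁻¹ * ρ) fun h hh => by
      have h2 := (hH h hh).2.2.1
      have k := a _ h2
      rw [cj h (fh h hh), hm _ _ (dt.mul_left h2) dt.inv_left, hm _ _ dt h2, pi d dt] at k
      rw [Commute, SemiconjBy]
      calc _ = (π d)⁻¹ * (ρ * π (g * h * g⁻¹) * ρ⁻¹) * ρ := by group
        _ = _ := by rw [← k]; group
    rw [map_mul, map_inv, (hr _).2 ⟨d, dt, rfl⟩, hρ] at this
    exact absurd this (by decide)

end H4.Loc1
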