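import Cfsg.Agent.H7.Jh

/-! Transport of the involution centralizer model. -/

set_option autoImplicit false
set_option linter.unusedSectionVars false
set_option linter.unusedVariables false
open Subgroup Equiv H7J

namespace H4.Mod2

variable {G : Type*} [Group G] [Finite G] {ψ : P →* G}

def Q0 : Subgroup P where
  carrier := {p | p.s = false ∧ p.a ^ 4 = 1 ∧ p.b ^ 4 = 1}
  mul_mem' := by
    have : ∀ a b : S, a ^ 4 = 1 → b ^ 4 = 1 → (a * b) ^ 4 = 1 := by decide +kernel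
    rintro ⟨a, b, _⟩ ⟨c, d, _⟩ ⟨rfl, h1, h2⟩ ⟨rfl, h3, h4⟩
    exact ⟨rfl, this _ _ h1 h3, this _ _ h2 h4⟩
  one_mem' := ⟨rfl, one_pow _, one_pow _⟩
  inv_mem' := by
    rintro ⟨a, b, _⟩ ⟨rfl, h1, h2⟩
    exact ⟨rfl, (inv_pow a 4).trans (inv_eq_one.2 h1), (inv_pow b 4).trans (inv_eq_one.2 h2)⟩

theorem pQ : IsPGroup 2 Q0 := by
  have : ∀ p ∈ Q0, p ^ 4 = 1 := by
    rintro ⟨a, b, _⟩ ⟨rfl, h1, h2⟩
    have : (⟨a, b, false⟩ : P) ^ 4 = ⟨a ^ 4, b ^ 4, false⟩ := by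
      simp only [pow_succ, pow_zero, one_mul]; rfl
    exact this.trans (P.ext h1 h2 rfl)
  exact fun x => ⟨2, Subtype.ext (this x x.2)⟩

theorem cen {X : Type*} [Group X] {χ : P →* X} (k : ∀ p, χ p = 1 ↔ p = 1 ∨ p = k0) {p : P}
    (h : ∀ q ∈ Q0, χ q * χ p = χ p * χ q) (h1 : χ p ≠ 1) : χ p = χ z0 := by
  have d : ∀ p : P, (∀ q ∈ [(⟨qi, 1, false⟩ : P), ⟨qj, 1, false⟩, ⟨1, qi, false⟩, ⟨1, qj, false⟩],
      q * p * (p * q)⁻¹ = 1 ∨ q * p * (p * q)⁻¹ = k0) →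
      (p = 1 ∨ p = k0) ∨ p * z0⁻¹ = 1 ∨ p * z0⁻¹ = k0 := by decide +kernel
  refine (d p fun q hq => (k _).1 ?_).elim (fun e => (h1 ((k p).2 e)).elim) fun e => ?_
  · rw [map_mul, map_inv, map_mul, map_mul, h q, mul_inv_cancel]
    simp only [List.mem_cons, List.not_mem_nil, or_false] at hq
    rcases hq with rfl | rfl | rfl | rfl <;> exact ⟨rfl, by decide, by decide⟩
  · have := (k _).2 e
    rwa [map_mul, map_inv, mul_inv_eq_one] at this

theorem mod2 {X : Type*} [Group X] [Finite X] (hX : Nat.card X = 25920) {χ : P →* X} (h : Hy χ)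
    (U : Sylow 2 X) (t₀ : X) (o : orderOf t₀ = 2) (m : t₀ ∈ (U : Subgroup X))
    (c : ∀ u ∈ (U : Subgroup X), u * t₀ = t₀ * u) (t : G) (ht : orderOf t = 2)
    (e : centralizer ({t} : Set G) ≃* centralizer ({t₀} : Set X)) : ∃ ψ : P →* G, Hy ψ := by
  obtain ⟨U', hU⟩ := (pQ.map χ).exists_le_sylow
  obtain ⟨g, rfl⟩ := MulAction.exists_smul_eq X U U'
  have c' : ∀ q ∈ Q0, χ q * (g * t₀ * g⁻¹) = g * t₀ * g⁻¹ * χ q := fun q hq => by
    obtain ⟨u, hu, k⟩ := hU ⟨q, hq, rfl⟩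
    rw [← k]
    show g * u * g⁻¹ * _ = _ * (g * u * g⁻¹)
    rw [conj_mul, conj_mul, c u hu]
  obtain ⟨p, hp⟩ := (h.cz _).1 (c' z0 ⟨rfl, by decide, by decide⟩).symm
  have hz := cen h.ker (p := p) (hp ▸ c') (by
    rw [hp, Ne, conj_eq_one_iff]; rintro rfl; simp at o)
  rw [hp] at hz
  have mem : ∀ x, g⁻¹ * x * g ∈ centralizer {t₀} ↔ x ∈ χ.range := fun x => by
    rw [← h.cz, ← hz, mem_centralizer_singleton_iff]
    constructor <;> intro k
    · calc _ = g * (g⁻¹ * x * g * t₀) * g⁻¹ := by group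
        _ = _ := by rw [k]; group
    · calc _ = g⁻¹ * (x * (g * t₀ * g⁻¹)) * g := by group
        _ = _ := by rw [k]; group
  let κ : P →* centralizer {t₀} := ((MulAut.conj g⁻¹).toMonoidHom.comp χ).codRestrict _ fun p => by
    simpa using (mem _).2 ⟨p, rfl⟩
  have κv : ∀ p, (κ p : X) = g⁻¹ * χ p * g := fun p => by simp [κ]
  have κs : Function.Surjective κ := fun x => by
    obtain ⟨p, hp⟩ := (mem (g * x * g⁻¹)).1 (by simp [mul_assoc])
    exact ⟨p, Subtype.ext (by rw [κv, hp]; group)⟩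
  have κk : ∀ p, κ p = 1 ↔ p = 1 ∨ p = k0 := fun p => by
    rw [← h.ker, Subtype.ext_iff, κv, coe_one, mul_assoc, inv_mul_eq_one, right_eq_mul]
  let t' : centralizer {t} := ⟨t, mem_centralizer_singleton_iff.2 rfl⟩
  obtain ⟨r, hr⟩ := κs (e t')
  have hz' := cen κk (p := r) (fun q _ => by
    obtain ⟨y, hy⟩ := e.surjective (κ q)
    rw [hr, ← hy, ← map_mul, ← map_mul]
    exact congrArg e (Subtype.ext (mem_centralizer_singleton_iff.1 y.2))) (by
    rw [hr, Ne, MulEquiv.map_eq_one_iff, Subtype.ext_iff]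
    rintro (rfl : t = 1); simp at ht)
  have tz : (e.symm (κ z0) : G) = t := by rw [← hz', hr, e.symm_apply_apply]
  refine ⟨(centralizer {t}).subtype.comp (e.symm.toMonoidHom.comp κ), fun p => ?_, fun x => ?_⟩
  · rw [← κk]; simp
  · show x * e.symm (κ z0) = e.symm (κ z0) * x ↔ _
    rw [tz, ← mem_centralizer_singleton_iff]
    refine ⟨fun k => ?_, ?_⟩
    · obtain ⟨q, hq⟩ := κs (e ⟨x, k⟩)
      exact ⟨q, by simp [hq]⟩
    · rintro ⟨q, rfl⟩
      exact (e.symm (κ q)).2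

end H4.Mod2
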