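import Cfsg.Agent.H4.Nc1
import Cfsg.Agent.H6.Count
/-! Groups of order 95040: the frame around the centralizer of order 240. -/
set_option autoImplicit false
set_option linter.unusedSectionVars false
namespace H4.Nc
open H13 Subgroup _root_.Cfsg H15.Mw Equiv
open scoped Pointwise
universe u
variable {G : Type u} [Group G] [Finite G]

abbrev P5 := Perm (Fin 5)
def pZ : P5 := swap 0 1 * swap 2 3
def pS : P5 := swap 0 2 * swap 1 3
def pT : P5 := swap 0 1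
def pR : P5 := swap 0 1 * swap 0 2

theorem d1 : ∀ a : P5, a * pZ = pZ * a → (a = 1 ∨ a = pZ) ∨ (a = pS ∨ a = pS * pZ) ∨ (a = pT ∨ a = pT * pZ) ∨
    (a = pS * pT ∨ a = pS * pT * pZ) := by decide +kernel
theorem d2 : ∀ a : P5, a * a = 1 → a = 1 ∨ ∃ c : P5, a = c * pZ * c⁻¹ ∨ a = c * pT * c⁻¹ := by decide +kernel
theorem d3 : ∀ a : P5, a * pZ = pZ * a → a * pS = pS * a → a * pT = pT * a → a = 1 ∨ a = pZ := by decide +kernel
theorem d4 : ∀ a : P5, a * pZ = pZ * a → ∀ b : P5, b * pZ = pZ * b → b * a * b⁻¹ * a⁻¹ = 1 →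
    (a = 1 ∨ a = pZ) ∨ (b = 1 ∨ b = pZ) ∨ (a * b⁻¹ = 1 ∨ a * b⁻¹ = pZ) := by decide +kernel
theorem d5 : ∀ a : P5, a * pZ = pZ * a → a * pS = pS * a → (a = 1 ∨ a = pZ) ∨ (a = pS ∨ a = pS * pZ) := by
  decide +kernel
theorem d6 : ∀ c : P5, c * pZ = pZ * c → ∀ a, (a = pS ∨ a = pS * pZ) → c * a * c⁻¹ = pS ∨ c * a * c⁻¹ = pS * pZ := by
  decide +kernel
theorem d8 : Nat.card (Cz pZ) = 8 := by
  rw [Nat.card_congr (Equiv.subtypeEquivRight (q := fun a => a * pZ = pZ * a) fun a => mem_Cz),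
    Nat.card_eq_fintype_card, Fintype.card_subtype]
  decide +kernel

structure RL (t : G) (R : G → P5 → Prop) (T : Subgroup G) : Prop where
  tt : t * t = 1
  t1 : t ≠ 1
  c240 : Nat.card (Cz t) = 240
  mul : ∀ {g h a b}, R g a → R h b → R (g * h) (a * b)
  inv : ∀ {g a}, R g a → R g⁻¹ a⁻¹
  ex : ∀ a, ∃ g, R g a
  mem : ∀ {g}, g * t = t * g → ∃ a, R g a
  com : ∀ {g a}, R g a → g * t = t * g
  uq : ∀ {g a b}, R g a → R g b → a = b
  ker : ∀ {g}, R g 1 ↔ g = 1 ∨ g = t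
  c16 : Nat.card T = 16
  mT : ∀ {g}, g ∈ T ↔ ∃ a, R g a ∧ a * pZ = pZ * a

theorem NS.exRL (N : NS G) : ∃ t R T, RL (G := G) t R T := by
  obtain ⟨t, tt, t1, c, -, π, sj, ker⟩ := N.exPi
  refine ⟨t, fun g a => ∃ h : g ∈ Cz t, π ⟨g, h⟩ = a, ((Cz pZ).comap π).map (Cz t).subtype, tt, t1, c,
    ?_, ?_, fun a => ?_, fun h => ⟨_, mem_Cz.2 h, rfl⟩, fun h => mem_Cz.1 h.1, ?_, ?_, ?_, ?_⟩
  · rintro g h _ _ ⟨hg, rfl⟩ ⟨hh, rfl⟩; exact ⟨mul_mem hg hh, map_mul π ⟨g, hg⟩ ⟨h, hh⟩⟩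
  · rintro g _ ⟨hg, rfl⟩; exact ⟨inv_mem hg, map_inv π ⟨g, hg⟩⟩
  · obtain ⟨g, rfl⟩ := sj a; exact ⟨g, g.2, rfl⟩
  · rintro g _ _ ⟨hg, rfl⟩ ⟨_, rfl⟩; rfl
  · exact ⟨fun ⟨hg, e⟩ => (ker _).1 e, fun h => ⟨by
      rcases h with rfl | rfl
      exacts [one_mem _, self_mem_Cz _], (ker _).2 h⟩⟩
  · rw [card_subtype]
    have h1 := ((Cz pZ).comap π).card_mul_index
    have h2 := (Cz pZ).card_mul_index
    rw [index_comap_of_surjective _ sj, c] at h1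
    rw [d8, Nat.card_perm, Nat.card_fin] at h2
    simp only [Nat.factorial] at h2
    rw [show (Cz pZ).index = 15 by omega] at h1
    omega
  · exact ⟨fun ⟨g, hg, e⟩ => ⟨_, ⟨e ▸ g.2, rfl⟩, by
      have := mem_Cz.1 hg
      subst e; exact this⟩, fun ⟨a, ⟨hg, e⟩, c⟩ => ⟨⟨_, hg⟩, mem_Cz.2 (e ▸ c), rfl⟩⟩

namespace RL
variable {t : G} {R : G → P5 → Prop} {T : Subgroup G} (L : RL t R T)
include L
theorem one : R 1 1 := L.ker.2 (.inl rfl)
theorem rt : R t 1 := L.ker.2 (.inr rfl)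
theorem eq {g h : G} {a : P5} (hg : R g a) (hh : R h a) : g = h ∨ g = h * t := by
  rcases L.ker.1 (show R (h⁻¹ * g) 1 from inv_mul_cancel a ▸ L.mul (L.inv hh) hg) with e | e
  · exact .inl (inv_mul_eq_one.1 e).symm
  · exact .inr (inv_mul_eq_iff_eq_mul.1 e)
theorem cj {g h : G} {a b : P5} (hg : R g a) (hh : R h b) : R (g * h * g⁻¹) (a * b * a⁻¹) :=
  L.mul (L.mul hg hh) (L.inv hg)
theorem mt' {g : G} {a : P5} (hg : R g a) : R (g * t) a := mul_one a ▸ L.mul hg L.rt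
theorem cm {g h : G} {a b : P5} (hg : R g a) (hh : R h b) (e : g * h = h * g) : a * b = b * a :=
  L.uq (L.mul hg hh) (e ▸ L.mul hh hg)
theorem of {g : G} {a b : P5} (hg : R g a) (e : a = b) : R g b := e ▸ hg
theorem tT : t ∈ T := L.mT.2 ⟨1, L.rt, by simp⟩
theorem Tle : T ≤ Cz t := fun _ hg => let ⟨_, h, _⟩ := L.mT.1 hg; mem_Cz.2 (L.com h)
theorem pT' : IsPGroup 2 T := IsPGroup.of_card (n := 4) L.c16
theorem maxT {H : Subgroup G} (hH : IsPGroup 2 H) (h1 : T ≤ H) (h2 : H ≤ Cz t) : H = T := by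
  have := Fact.mk Nat.prime_two
  obtain ⟨n, hn⟩ := IsPGroup.iff_card.1 hH
  have d := card_dvd_of_le h2
  rw [L.c240, hn] at d
  have : n ≤ 4 := by
    by_contra h
    have := (pow_dvd_pow 2 (show 5 ≤ n by omega)).trans d
    omega
  refine (eq_of_le_of_card_ge h1 ?_).symm
  rw [hn, L.c16]; exact Nat.pow_le_pow_right (by norm_num) this

theorem nab {s r : G} (hs : s ∈ T) (hr : r ∈ T) (n : s * r ≠ r * s) (H : Subgroup G) (hH : H ≤ Cz t)
    (c : Nat.card H = 16) : ∃ a ∈ H, ∃ b ∈ H, a * b ≠ b * a := by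
  have := Fact.mk Nat.prime_two
  have f : (Nat.card (Cz t)).factorization 2 = 4 := by
    rw [L.c240]; decide +kernel
  let P : Sylow 2 (Cz t) := Sylow.ofCard (H.subgroupOf (Cz t)) (by
    rw [f, Nat.card_congr (subgroupOfEquivOfLe hH).toEquiv, c]; rfl)
  let Q : Sylow 2 (Cz t) := Sylow.ofCard (T.subgroupOf (Cz t)) (by
    rw [f, Nat.card_congr (subgroupOfEquivOfLe L.Tle).toEquiv, L.c16]; rfl)
  obtain ⟨g, e⟩ := MulAction.exists_smul_eq (Cz t) P Q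
  have k : ∀ a (h : a ∈ T), (g : G)⁻¹ * a * g ∈ H := fun a h => by
    have m : (⟨a, L.Tle h⟩ : Cz t) ∈ ((g • P : Sylow 2 (Cz t)) : Subgroup (Cz t)) := e ▸ h
    exact H3.mem_coe_smul_sylow.1 m
  exact ⟨_, k s hs, _, k r hr, fun e => n (by simpa [mul_assoc] using cj_comm (c := (g : G)) e)⟩
end RL

/-- first frame -/
structure F0 (t : G) (R : G → P5 → Prop) (T S : Subgroup G) (z : G) : Prop extends RL t R T where
  pS : IsPGroup 2 S
  cS : Nat.card S = 64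
  TS : T ≤ S
  zz : z * z = 1
  rz : R z pZ
  Sz : ∀ {g}, g ∈ S → g * z = z * g
  nz : ¬ IsConj t z

theorem NS.exF0 (N : NS G) : ∃ t R T S z, F0 (G := G) t R T S z := by
  have := Fact.mk Nat.prime_two
  obtain ⟨t, R, T, L⟩ := N.exRL
  obtain ⟨S, hS⟩ := L.pT'.exists_le_sylow
  have cS : Nat.card (S : Subgroup G) = 64 :=
    H8.NS.card_sylow (k := 6) (by rw [N.card]; norm_num) (by rw [N.card]; norm_num) S
  obtain ⟨z, zS, oz, hz⟩ := H6.exists_central_ord2 S.isPGroup' (fun e => by rw [e] at cS; simp at cS)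
  obtain ⟨zz, z1⟩ := sq_of oz
  have nz : ¬ IsConj t z := fun h => by
    have c1 := card_cz t
    have c2 := card_cz z
    rw [show {g | IsConj z g} = {g | IsConj t g} from Set.ext fun g => ⟨h.trans, h.symm.trans⟩, ← c1] at c2
    have c3 := Nat.eq_of_mul_eq_mul_right (Nat.pos_of_ne_zero fun e => by
      rw [e, N.card] at c1; omega) c2
    have d := card_dvd_of_le (show (S : Subgroup G) ≤ Cz z from fun g hg => mem_Cz.2 (hz g hg).symm)
    rw [cS, c3, L.c240] at d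
    omega
  have zT : z ∈ T := L.maxT (H := S ⊓ Cz t) S.isPGroup'.to_inf_left (le_inf hS L.Tle) inf_le_right ▸
    ⟨zS, mem_Cz.2 (hz t (hS L.tT))⟩
  obtain ⟨a, ra, ca⟩ := L.mT.1 zT
  obtain ⟨s, rs⟩ := L.ex pS
  obtain ⟨r, rr⟩ := L.ex pT
  rcases d3 a ca (L.cm ra rs (hz s (hS (L.mT.2 ⟨_, rs, by decide +kernel⟩))))
    (L.cm ra rr (hz r (hS (L.mT.2 ⟨_, rr, by decide +kernel⟩)))) with rfl | rfl
  · rcases L.ker.1 ra with e | e
    · exact absurd e z1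
    · exact absurd (e ▸ IsConj.refl t) nz
  · exact ⟨t, R, T, S, z, L, S.isPGroup', cS, hS, zz, ra, fun hg => (hz _ hg).symm, nz⟩

namespace F0
variable {t : G} {R : G → P5 → Prop} {T S : Subgroup G} {z : G} (F : F0 t R T S z)
include F
theorem zt : z * t = t * z := F.com F.rz
theorem z1 : z ≠ 1 := fun e => absurd (F.uq F.rz (e ▸ F.one)) (by decide +kernel)
theorem mT' {g : G} : g ∈ T ↔ g * t = t * g ∧ g * z = z * g :=
  ⟨fun h => ⟨mem_Cz.1 (F.Tle h), F.Sz (F.TS h)⟩, fun ⟨h1, h2⟩ =>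
    let ⟨a, ha⟩ := F.mem h1; F.mT.2 ⟨a, ha, F.cm ha F.rz h2⟩⟩
theorem cases {w : G} {a : P5} (h : R w a) (e : a = 1 ∨ a = pZ) : w = 1 ∨ w = t ∨ w = z ∨ w = z * t := by
  rcases e with rfl | rfl
  · exact (F.ker.1 h).imp_right .inl
  · exact .inr (.inr (F.eq h F.rz))
theorem cen {w g : G} {a : P5} (h : R w a) (e : a = 1 ∨ a = pZ) (hg : g ∈ T) : g * w = w * g := by
  obtain ⟨h1, h2⟩ := F.mT'.1 hg
  rcases F.cases h e with rfl | rfl | rfl | rfl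
  exacts [by simp, h1, h2, comm_mul h2 h1]
omit F in
/-- elements of `S` normalizing `T` outside `T` -/
def P (T S : Subgroup G) (x : G) : Prop := x ∈ S ∧ x ∈ normalizer (T : Set G) ∧ x ∉ T
omit F in
theorem P.inv {x : G} (h : P T S x) : P T S x⁻¹ := ⟨inv_mem h.1, inv_mem h.2.1, mt inv_mem_iff.1 h.2.2⟩
omit F in
theorem P.cj {x a : G} (h : P T S x) (ha : a ∈ T) : x * a * x⁻¹ ∈ T := (mem_normalizer_iff.1 h.2.1 a).1 ha
theorem exP : ∃ x, P T S x := by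
  have := Fact.mk Nat.prime_two
  obtain ⟨x, h1, h2, h3⟩ := H6.exists_mem_normalizer_of_lt F.pS (F.TS.lt_of_ne fun e => by
    have := F.cS; rw [← e, F.c16] at this; omega)
  exact ⟨x, h1, h3, h2⟩
theorem Pt {x : G} (h : P T S x) : x * t * x⁻¹ = z * t := by
  obtain ⟨a, ra, ca⟩ := F.mT.1 (h.cj F.tT)
  have k : ∀ b : G, b ∈ T → x * t * x⁻¹ * b = b * (x * t * x⁻¹) := fun b hb => by
    simpa [mul_assoc] using (cj_comm (c := x) (mem_Cz.1 (F.Tle (h.inv.cj hb)))).symm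
  obtain ⟨s, rs⟩ := F.ex Nc.pS
  obtain ⟨r, rr⟩ := F.ex pT
  rcases F.cases ra (d3 a ca (F.cm ra rs (k s (F.mT.2 ⟨_, rs, by decide +kernel⟩)))
    (F.cm ra rr (k r (F.mT.2 ⟨_, rr, by decide +kernel⟩)))) with e | e | e | e
  · exact absurd (cj_eq_one.1 e) F.t1
  · exact absurd (F.mT'.2 ⟨comm_of_cj e, F.Sz h.1⟩) h.2.2
  · exact absurd (e ▸ icj x t) F.nz
  · exact e
theorem Pzt {x : G} (h : P T S x) : x * (z * t) * x⁻¹ = t := by
  rw [cj_mul, F.Pt h, cj_of_comm (F.Sz h.1), ← mul_assoc, F.zz, one_mul]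
theorem PP {x y : G} (h : P T S x) (h' : P T S y) : x * y ∈ T :=
  F.mT'.2 ⟨comm_of_cj (by
    rw [show x * y * t * (x * y)⁻¹ = x * (y * t * y⁻¹) * x⁻¹ by group, F.Pt h', F.Pzt h]), F.Sz (mul_mem h.1 h'.1)⟩
theorem tzt : IsConj t (z * t) := let ⟨x, h⟩ := F.exP; F.Pt h ▸ icj x t
theorem PZ {x w : G} {a : P5} (h : P T S x) (hw : R w a) (e : a = 1 ∨ a = pZ) :
    R (x * w * x⁻¹) 1 ∨ R (x * w * x⁻¹) pZ := by
  rcases F.cases hw e with rfl | rfl | rfl | rfl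
  · exact .inl (by simpa using F.one)
  · exact .inr (F.Pt h ▸ F.mt' F.rz)
  · exact .inr ((cj_of_comm (F.Sz h.1)).symm ▸ F.rz)
  · exact .inl ((F.Pzt h).symm ▸ F.rt)
theorem PZ' {x w : G} {a b : P5} (h : P T S x) (hw : R (x * w * x⁻¹) a) (e : a = 1 ∨ a = pZ) (hb : R w b) :
    b = 1 ∨ b = pZ := by
  have := F.PZ h.inv hw e
  rw [show x⁻¹ * (x * w * x⁻¹) * x⁻¹⁻¹ = w by group] at this
  exact this.imp (F.uq hb) (F.uq hb)

theorem exY : ∃ s y r, Y z s y ∧ R s Nc.pS ∧ R y pR ∧ R r pT ∧ r * s * r⁻¹ = s * z ∧ r * y * r⁻¹ = y⁻¹ := by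
  obtain ⟨y0, ry0⟩ := F.ex pR
  have ry : R (y0 * y0 * y0 * y0) pR := F.of (F.mul (F.mul (F.mul ry0 ry0) ry0) ry0) (by decide +kernel)
  have y3 : (y0 * y0 * y0 * y0) * (y0 * y0 * y0 * y0) * (y0 * y0 * y0 * y0) = 1 := by
    have : (y0 * y0 * y0) * (y0 * y0 * y0) = 1 := by
      rcases F.ker.1 (F.of (F.mul (F.mul ry0 ry0) ry0) (by decide +kernel)) with e | e <;> rw [e]
      exacts [one_mul 1, F.tt]
    calc _ = ((y0 * y0 * y0) * (y0 * y0 * y0)) * ((y0 * y0 * y0) * (y0 * y0 * y0)) := by group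
      _ = 1 := by rw [this, one_mul]
  generalize y0 * y0 * y0 * y0 = y at ry y3
  obtain ⟨r, rr⟩ := F.ex pT
  have rs : R (y * z * y⁻¹) Nc.pS := F.of (F.cj ry F.rz) (by decide +kernel)
  have ys : y * z * y⁻¹ = y * z * y⁻¹ := rfl
  generalize e : y * z * y⁻¹ = s at rs
  have sT : s ∈ T := F.mT.2 ⟨_, rs, by decide +kernel⟩
  have rT : r ∈ T := F.mT.2 ⟨_, rr, by decide +kernel⟩
  have rsz : R (s * z) (Nc.pS * pZ) := F.mul rs F.rz
  have q : r * s * r⁻¹ = s * z := by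
    refine (F.eq (F.of (F.cj rr rs) (by decide +kernel)) rsz).resolve_right fun q => ?_
    obtain ⟨x, h⟩ := F.exP
    obtain ⟨a, ra, ca⟩ := F.mT.1 (h.cj sT)
    obtain ⟨b, rb, cb⟩ := F.mT.1 (h.cj rT)
    have k : (x * r * x⁻¹) * (x * s * x⁻¹) * (x * r * x⁻¹)⁻¹ * (x * s * x⁻¹)⁻¹ = t := by
      calc _ = x * (r * s * r⁻¹ * s⁻¹) * x⁻¹ := by group
        _ = t := by
          rw [q, mul_assoc s, comm_mul (F.mT'.1 sT).2 (F.mT'.1 sT).1, mul_inv_cancel_right, F.Pzt h]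
    have k2 : (x * r * x⁻¹) * (x * s * x⁻¹) = (x * s * x⁻¹) * (x * r * x⁻¹) := by
      rcases d4 a ca b cb (F.uq (F.mul (F.cj rb ra) (F.inv ra)) (k ▸ F.rt)) with e | e | e
      · exact F.cen ra e (h.cj rT)
      · exact (F.cen rb e (h.cj sT)).symm
      · have := F.cen (F.mul ra (F.inv rb)) e (h.cj rT)
        calc _ = (x * r * x⁻¹) * (x * s * x⁻¹ * (x * r * x⁻¹)⁻¹) * (x * r * x⁻¹) := by group
          _ = _ := by rw [this]; group
    rw [k2] at k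
    exact F.t1 (by rw [← k]; group)
  refine ⟨s, y, r, ⟨F.zz, e ▸ cj_sq F.zz, (F.mT'.1 sT).2, y3, e, ?_⟩, rs, ry, rr, q, ?_⟩
  · refine (F.eq (F.of (F.cj ry rs) (by decide +kernel)) rsz).resolve_right fun q2 => F.nz ?_
    have k : s * z * t = (r * y) * (z * t) * (r * y)⁻¹ := by
      rw [cj_mul, cj_of_comm (F.com (F.mul rr ry)), ← q, ← e]; group
    have c1 : IsConj z (s * z * t) := q2 ▸ (e ▸ icj y z).trans (icj y s)
    exact (F.tzt.trans (k ▸ icj _ _)).trans c1.symm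
  · refine (F.eq (F.of (F.cj rr ry) (by decide +kernel)) (F.inv ry)).resolve_right fun q2 => F.t1 ?_
    have k : (r * y * r⁻¹) * (r * y * r⁻¹) * (r * y * r⁻¹) = 1 := by rw [← cj_mul, ← cj_mul, y3]; group
    have c : Commute y⁻¹ t := F.com (F.inv ry)
    rw [q2, ← pow_two, ← pow_succ, c.mul_pow, inv_pow, pow_succ y, pow_two y, y3, pow_succ t, pow_two t, F.tt] at k
    simpa using k
end F0
end H4.Nc
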