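import Cfsg.Agent.H4.Nc3
import Cfsg.Agent.H4.PF2
/-! Groups of order 95040: generators of the Sylow 2-subgroup. -/
set_option autoImplicit false
set_option linter.unusedSectionVars false
namespace H4.Nc
open H13 Subgroup _root_.Cfsg H15.Mw Equiv
universe u
variable {G : Type u} [Group G] [Finite G]

/-- `g` centralizes the four-group and `t` moves it by `v` -/
structure Q (t z s g v : G) : Prop where
  gz : g * z = z * g
  gs : g * s = s * g
  gt : t * g * t = g * v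

theorem Vc {z s v c : G} (hv : F1.V z s v) (h1 : c * z = z * c) (h2 : c * s = s * c) : c * v = v * c := by
  rcases hv with rfl | rfl | rfl | rfl
  exacts [by simp, h1, h2, comm_mul h2 h1]
theorem Q.c {t z s g w v : G} (h : Q t z s g w) (hv : F1.V z s v) : g * v = v * g := Vc hv h.gz h.gs
theorem Vcl {z s v : G} {K : Subgroup G} (hv : F1.V z s v) (h1 : z ∈ K) (h2 : s ∈ K) : v ∈ K := by
  rcases hv with rfl | rfl | rfl | rfl
  exacts [one_mem _, h1, h2, mul_mem h2 h1]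

namespace F1
variable {t : G} {R : G → P5 → Prop} {T S : Subgroup G} {z s y r : G} (F : F1 t R T S z s y r)
include F
theorem st : s * t = t * s := F.com F.rs
theorem rt' : r * t = t * r := F.com F.rr
theorem rz' : r * z = z * r := (F.mT'.1 F.rT).2
theorem s1 : s ≠ 1 := isConj_ne F.zs F.z1
theorem zs1 : z ≠ s := fun e => absurd (F.uq F.rz (e ▸ F.rs)) (by decide +kernel)
omit F in
theorem V1 : V z s 1 := .inl rfl
omit F in
theorem Vz : V z s z := .inr (.inl rfl)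
omit F in
theorem Vs : V z s s := .inr (.inr (.inl rfl))
omit F in
theorem Vsz : V z s (s * z) := .inr (.inr (.inr rfl))
theorem Vmul {v w : G} (hv : V z s v) (hw : V z s w) : V z s (v * w) := by
  have a := F.zz
  have b := F.Y.ss
  have c := F.Y.sz.symm
  have b' : ∀ x, s * (s * x) = x := fun x => by rw [← mul_assoc, b, one_mul]
  have c' : ∀ x, z * (s * x) = s * (z * x) := fun x => by rw [← mul_assoc, c, mul_assoc]
  rcases hv with h | h | h | h <;> rcases hw with k | k | k | k <;> rw [h, k] <;>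
    simp only [V, mul_assoc, one_mul, mul_one, a, b, c, b', c', true_or, or_true]
theorem Vsq {v : G} (hv : V z s v) : v * v = 1 := by
  rcases hv with h | h | h | h <;> rw [h]
  exacts [one_mul 1, F.zz, F.Y.ss, by rw [mul_assoc, ← mul_assoc z, ← F.Y.sz, mul_assoc, F.zz, mul_one, F.Y.ss]]
theorem Vt {v : G} (hv : V z s v) : t * v = v * t := Vc hv F.zt.symm F.st.symm
theorem VV {v w : G} (hv : V z s v) (hw : V z s w) : v * w = w * v :=
  Vc hw (Vc hv rfl F.Y.sz.symm).symm (Vc hv F.Y.sz rfl).symm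
theorem Vy {v : G} (hv : V z s v) : V z s (y * v * y⁻¹) := by
  rcases hv with h | h | h | h <;> rw [h]
  exacts [by simpa using V1, F.Y.yz ▸ Vs, F.Y.ys ▸ Vsz, F.Y.ysz.symm ▸ Vz]
theorem y3 (g : G) : y * (y * (y * g * y⁻¹) * y⁻¹) * y⁻¹ = g := by
  calc _ = (y * y * y) * g * (y * y * y)⁻¹ := by group
    _ = g := by rw [F.Y.y3]; group
theorem y2 (g : G) : y⁻¹ * g * y = y * (y * g * y⁻¹) * y⁻¹ := by
  conv_lhs => rw [← F.y3 g]
  group
theorem Vn {v : G} (hv : V z s v) : v * (y * v * y⁻¹) * (y * (y * v * y⁻¹) * y⁻¹) = 1 := by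
  rcases hv with h | h | h | h <;> rw [h]
  · group
  · rw [F.Y.yz, F.Y.ys, ← F.Y.sz, F.Vsq Vsz]
  · rw [F.Y.ys, F.Y.ysz, ← mul_assoc, F.Y.ss, one_mul, F.zz]
  · rw [F.Y.ysz, F.Y.yz, mul_assoc s, F.zz, mul_one, F.Y.ss]
theorem Vfix {v : G} (hv : V z s v) (e : y * v * y⁻¹ = v) : v = 1 := by
  rcases hv with h | h | h | h <;> rw [h] at e
  · exact h
  · exact absurd (F.Y.yz.symm.trans e).symm F.zs1
  · exact absurd (mul_eq_left.1 (F.Y.ys.symm.trans e)) F.z1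
  · exact absurd (mul_eq_right.1 (F.Y.ysz.symm.trans e).symm) F.s1
theorem Vr {v : G} (hv : V z s v) (e : r * v * r⁻¹ = v) : v = 1 ∨ v = z := by
  rcases hv with h | h | h | h
  exacts [.inl h, .inr h, absurd (mul_eq_left.1 (F.q.symm.trans (h ▸ e))) F.z1, by
    rw [h, cj_mul, F.q, cj_of_comm F.rz'] at e
    exact absurd (mul_eq_left.1 e) F.z1]
theorem nVt : ¬ V z s t := by
  rintro (h | h | h | h)
  exacts [F.t1 h, F.nz (h ▸ IsConj.refl _), F.nz (h ▸ F.zs.symm),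
    F.nz (h ▸ (F.zs.trans (F.Y.ys ▸ icj y s)).symm)]

theorem Qmul {g h v w : G} (a : Q t z s g v) (b : Q t z s h w) (hv : V z s v) : Q t z s (g * h) (v * w) :=
  ⟨(comm_mul a.gz.symm b.gz.symm).symm, (comm_mul a.gs.symm b.gs.symm).symm, by
    calc t * (g * h) * t = (t * g * t) * (t * h * t) := by
          rw [show t * g * t * (t * h * t) = t * g * (t * t) * h * t by group, F.tt]; group
      _ = g * (v * h) * w := by rw [a.gt, b.gt]; group
      _ = _ := by rw [← b.c hv]; group⟩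
theorem QW {g : G} (a : Q t z s g 1) : ∃ v, V z s v ∧ (g = v ∨ g = v * t) :=
  F.inW (by
    calc g * t = g * 1 * t := by rw [mul_one]
      _ = t * g * (t * t) := by rw [← a.gt]; group
      _ = _ := by rw [F.tt, mul_one]) a.gz a.gs
theorem Qt : Q t z s t 1 := ⟨F.zt.symm, F.st.symm, by rw [F.tt, one_mul, mul_one]⟩
theorem Qcj {g v c : G} (a : Q t z s g v) (ct : c * t = t * c) (h1 : V z s (c⁻¹ * z * c))
    (h2 : V z s (c⁻¹ * s * c)) : Q t z s (c * g * c⁻¹) (c * v * c⁻¹) :=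
  ⟨by simpa [mul_assoc] using cj_comm (c := c) (a.c h1), by simpa [mul_assoc] using cj_comm (c := c) (a.c h2), by
    rw [← cj_mul, ← a.gt, cj_mul, cj_mul, cj_of_comm ct]⟩
theorem Qy {g v : G} (a : Q t z s g v) : Q t z s (y * g * y⁻¹) (y * v * y⁻¹) :=
  F.Qcj a F.yt (F.Y.Yz.symm ▸ Vsz) (F.Y.Ys.symm ▸ Vz)
theorem Qr {g v : G} (a : Q t z s g v) : Q t z s (r * g * r⁻¹) (r * v * r⁻¹) :=
  F.Qcj a F.rt' ((cj_of_comm' F.rz').symm ▸ Vz) (by
    have : r⁻¹ * s * r = s * z := by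
      calc r⁻¹ * s * r = r⁻¹ * (s * z * z) * r := by rw [mul_assoc s, F.zz, mul_one]
        _ = s * (r⁻¹ * z * r) := by rw [← F.q]; group
        _ = _ := by rw [cj_of_comm' F.rz']
    exact this.symm ▸ Vsz)
theorem Q1 {g : G} (a : Q t z s g z) : Q t z s (y * g * y⁻¹) s := by simpa only [F.Y.yz] using F.Qy a
theorem Q2 {g : G} (a : Q t z s g z) : Q t z s (y * (y * g * y⁻¹) * y⁻¹) (s * z) := by
  simpa only [F.Y.ys] using F.Qy (F.Q1 a)

theorem gsq {g : G} (a : Q t z s g z) : V z s (g * g) := by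
  obtain ⟨v, hv, e | e⟩ := F.QW (F.zz ▸ F.Qmul a a Vz)
  · exact e ▸ hv
  · have h : g * (v * t) = v * t * g := by rw [← e, mul_assoc]
    rw [← mul_assoc, a.c hv, mul_assoc, mul_assoc] at h
    have k := a.gt
    rw [mul_assoc, mul_left_cancel h, ← mul_assoc, F.tt, one_mul] at k
    exact absurd (left_eq_mul.1 k) F.z1

theorem exK : ∃ g, Q t z s g z ∧ g * (y * g * y⁻¹) * (y * (y * g * y⁻¹) * y⁻¹) = 1 := by
  have key : ∀ g, Q t z s g z → V z s (g * (y * g * y⁻¹) * (y * (y * g * y⁻¹) * y⁻¹)) →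
      g * (y * g * y⁻¹) * (y * (y * g * y⁻¹) * y⁻¹) = 1 := fun g a h => F.Vfix h (by
    rw [cj_mul, cj_mul, F.y3]
    have := a.c h
    rw [mul_assoc g, mul_assoc g] at this
    rw [← mul_left_cancel this, mul_assoc g])
  obtain ⟨g, gz, gs, gt⟩ := F.exG
  have a : Q t z s g z := ⟨gz, gs, by
    rw [mul_assoc, mul_inv_eq_iff_eq_mul.1 gt, F.zt, ← mul_assoc, ← mul_assoc, F.tt, one_mul, gz]⟩
  have m := F.Qmul (F.Qmul a (F.Q1 a) Vz) (F.Q2 a) (F.Vmul Vz Vs)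
  rw [← F.Y.sz, F.Vsq Vsz] at m
  obtain ⟨v, hv, e | e⟩ := F.QW m
  · exact ⟨g, a, key g a (e ▸ hv)⟩
  · have b : Q t z s (g * t) z := by simpa using F.Qmul a F.Qt Vz
    refine ⟨_, b, key _ b ?_⟩
    have k := F.Q1 a
    have k2 := F.Q2 a
    rw [cj_mul y g, cj_of_comm F.yt, cj_mul y _ t, cj_of_comm F.yt]
    generalize y * (y * g * y⁻¹) * y⁻¹ = g2 at *
    generalize y * g * y⁻¹ = g1 at *
    have : g * t * (g1 * t) * (g2 * t) = v * s := by
      calc _ = g * (t * g1 * t) * g2 * t := by group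
        _ = g * g1 * (s * g2) * t := by rw [k.gt]; group
        _ = (g * g1 * g2) * (s * t) := by rw [← k2.gs]; group
        _ = v * (t * t) * s := by rw [e, F.st]; group
        _ = _ := by rw [F.tt, mul_one]
    exact this ▸ F.Vmul hv Vs

section
variable {g : G} (a : Q t z s g z) (m : g * (y * g * y⁻¹) * (y * (y * g * y⁻¹) * y⁻¹) = 1)
include a m
theorem c01 : g * (y * g * y⁻¹) = (y * g * y⁻¹) * g := by
  have h0 := F.gsq a
  have n := F.Vn h0
  have h1 := F.Vy h0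
  have h2 := F.Vy h1
  rw [cj_mul y g, cj_mul y (y * g * y⁻¹)] at n h2
  rw [cj_mul y g] at h1
  have k := F.Q1 a
  generalize y * (y * g * y⁻¹) * y⁻¹ = g2 at *
  generalize y * g * y⁻¹ = g1 at *
  obtain rfl := eq_inv_of_mul_eq_one_right m
  have e : g * g * (g1 * g1) = (g * g1) * (g * g1) := by
    rw [eq_inv_of_mul_eq_one_left n]; group
  exact mul_right_cancel (b := g1) (by simpa [mul_assoc] using e)
theorem g2 : y⁻¹ * g * y = g⁻¹ * (y * g * y⁻¹)⁻¹ := by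
  rw [F.y2, eq_inv_of_mul_eq_one_right m, F.c01 a m, mul_inv_rev]
theorem r1 : r * (y * g * y⁻¹) * r⁻¹ = y⁻¹ * (r * g * r⁻¹) * y := by
  rw [cj_mul, cj_mul, F.ryr, show r * y⁻¹ * r⁻¹ = (r * y * r⁻¹)⁻¹ by group, F.ryr, inv_inv]
theorem rg : ∃ v, V z s v ∧ r * g * r⁻¹ = v * g := by
  have b := F.Qr a
  rw [cj_of_comm F.rz'] at b
  have h0 := F.gsq a
  have e0 : ∀ w, r * g * r⁻¹ * g = w → r * g * r⁻¹ = w * (g * g) * g := fun w e => by
    calc _ = (r * g * r⁻¹ * g) * ((g * g) * (g * g)) * g⁻¹ := by rw [F.Vsq h0]; group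
      _ = _ := by rw [e]; group
  obtain ⟨v, hv, e | e⟩ := F.QW (F.zz ▸ F.Qmul b a Vz)
  · exact ⟨_, F.Vmul hv h0, e0 _ e⟩
  exfalso
  obtain ⟨w, hw, e⟩ : ∃ w, V z s w ∧ r * g * r⁻¹ = w * t * g :=
    ⟨_, F.Vmul hv h0, by rw [e0 _ e, mul_assoc v, F.Vt h0, ← mul_assoc]⟩
  have e1 := F.r1 a m
  have e2 : r * (y * (y * g * y⁻¹) * y⁻¹) * r⁻¹ = y * (r * g * r⁻¹) * y⁻¹ := by
    rw [← F.y2, cj_mul, cj_mul, F.ryr, show r * y⁻¹ * r⁻¹ = (r * y * r⁻¹)⁻¹ by group, F.ryr, inv_inv]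
  have k : r * (g * (y * g * y⁻¹) * (y * (y * g * y⁻¹) * y⁻¹)) * r⁻¹ = 1 := by rw [m]; group
  rw [cj_mul, cj_mul, e1, e2, F.y2, e, cj_mul y _ g, cj_mul y w, cj_of_comm F.yt, cj_mul y _ (y * g * y⁻¹),
    cj_mul y _ t, cj_of_comm F.yt] at k
  have h1 := F.Vy hw
  have h2 := F.Vy h1
  have q1 := F.Q1 a
  have q2 := F.Q2 a
  have c := F.c01 a m
  generalize y * (y * g * y⁻¹) * y⁻¹ = g2 at *
  generalize y * g * y⁻¹ = g1 at *
  generalize y * (y * w * y⁻¹) * y⁻¹ = w2 at *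
  generalize y * w * y⁻¹ = w1 at *
  have m2 : g * g2 * g1 = 1 := by
    rw [eq_inv_of_mul_eq_one_right m, c]; group
  have cg : ∀ {c v : G}, c * v = v * c → ∀ x, c * (v * x) = v * (c * x) := fun h x => by
    rw [← mul_assoc, h, mul_assoc]
  simp only [mul_assoc, cg (a.c h2), cg (F.Vt h2), cg (q2.c h1), cg (a.c h1), cg (F.Vt h1)] at k
  have k2 : t * (g * (t * (g2 * (t * g1)))) = z * s * t := by
    calc _ = (t * g * t) * g2 * (t * g1 * (t * t)) := by rw [F.tt]; group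
      _ = g * (z * g2) * (t * g1 * t) * t := by rw [a.gt]; group
      _ = g * g2 * (z * g1) * s * t := by rw [q1.gt, ← q2.gz]; group
      _ = (g * g2 * g1) * (z * s * t) := by rw [← q1.gz]; group
      _ = _ := by rw [m2, one_mul]
  rw [k2, ← mul_assoc, ← mul_assoc, ← mul_assoc] at k
  have hV := F.Vmul (F.Vmul (F.Vmul hw h2) h1) (F.Vmul Vz Vs)
  rw [← iv (F.Vsq hV), ← eq_inv_of_mul_eq_one_right k] at hV
  exact F.nVt hV

theorem gg : g * g = 1 ∨ g * g = z := by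
  obtain ⟨v, hv, e⟩ := F.rg a m
  refine F.Vr (F.gsq a) ?_
  rw [cj_mul, e, mul_assoc, ← mul_assoc g, a.c hv, ← mul_assoc, ← mul_assoc, F.Vsq hv, one_mul]

theorem good (N : NS G) : r * r = 1 ∧ g * g = z := by
  by_contra hn
  have := N.simple
  obtain ⟨v, hv, e⟩ := F.rg a m
  have q1 := F.Q1 a
  have gK : g ∈ closure ({g, y * g * y⁻¹, z, s} : Set G) := subset_closure (by simp)
  have hK : y * g * y⁻¹ ∈ closure ({g, y * g * y⁻¹, z, s} : Set G) := subset_closure (by simp)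
  have VK : ∀ {w}, V z s w → w ∈ closure ({g, y * g * y⁻¹, z, s} : Set G) := fun h =>
    Vcl h (subset_closure (by simp)) (subset_closure (by simp))
  have VK2 : ∀ {w}, V z s w → w ∈ closure ({z, s} : Set G) := fun h =>
    Vcl h (subset_closure (by simp)) (subset_closure (by simp))
  refine H4PF.partF N.card N.e8 F.zz F.Y.ss F.tt F.z1 F.s1 F.zs1 F.Y.sz.symm F.zt.symm F.st.symm a.gz a.gs
    q1.gz q1.gs (F.c01 a m) a.gt q1.gt F.rt' F.rz' F.q (e ▸ mul_mem (VK hv) gK) ?_ (VK2 (F.gsq a))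
    (VK2 (cj_mul y g g ▸ F.Vy (F.gsq a))) (F.nab F.sT F.rT fun k => F.z1 ?_) ?_
  · rw [F.r1 a m, e, show y⁻¹ * (v * g) * y = (y⁻¹ * v * y) * (y⁻¹ * g * y) by group, F.g2 a m, F.y2]
    exact mul_mem (VK (F.Vy (F.Vy hv))) (mul_mem (inv_mem gK) (inv_mem hK))
  · exact left_eq_mul.1 ((cj_of_comm k.symm).symm.trans F.q)
  · rcases F.r2 with k | k
    · rcases F.gg a m with j | j
      · exact .inr ⟨k, j, cj_sq j⟩
      · exact absurd ⟨k, j⟩ hn
    · exact .inl k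
end

theorem mulT : F1 t R T S z s y (r * t) :=
  { F with
    rr := F.mt' F.rr
    q := by rw [show r * t * s * (r * t)⁻¹ = r * (t * s * t⁻¹) * r⁻¹ by group, cj_of_comm F.st.symm, F.q]
    ryr := by rw [show r * t * y * (r * t)⁻¹ = r * (t * y * t⁻¹) * r⁻¹ by group, cj_of_comm F.yt.symm, F.ryr] }
end F1

theorem NS.exF2 (N : NS G) : ∃ t R T S z s y r g, F1 (G := G) t R T S z s y r ∧ Q t z s g z ∧
    g * (y * g * y⁻¹) * (y * (y * g * y⁻¹) * y⁻¹) = 1 ∧ r * r = 1 ∧ g * g = z ∧ r * g * r⁻¹ = g := by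
  obtain ⟨t, R, T, S, z, F⟩ := N.exF0
  obtain ⟨s, y, r, h1, h2, h3, h4, h5, h6⟩ := F.exY
  have F : F1 t R T S z s y r := ⟨F, h1, h2, h3, h4, h5, h6⟩
  obtain ⟨g, a, m⟩ := F.exK
  obtain ⟨rr, gg⟩ := F.good a m N
  obtain ⟨v, hv, e⟩ := F.rg a m
  have : r * v * r⁻¹ = v := by
    have k : r * (r * g * r⁻¹) * r⁻¹ = g := by
      rw [show r * (r * g * r⁻¹) * r⁻¹ = (r * r) * g * (r * r)⁻¹ by group, rr]; group
    rw [e, cj_mul, e, ← mul_assoc, mul_eq_right] at k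
    rw [eq_inv_of_mul_eq_one_left k, iv (F.Vsq hv)]
  rcases F.Vr hv this with rfl | rfl
  · exact ⟨t, R, T, S, z, s, y, r, g, F, a, m, rr, gg, by rw [e, one_mul]⟩
  · refine ⟨t, R, T, S, v, s, y, _, g, F.mulT, a, m, (F.mulT.good a m N).1, gg, ?_⟩
    rw [show r * t * g * (r * t)⁻¹ = r * (t * g * t⁻¹) * r⁻¹ by group, iv F.tt, a.gt, cj_mul, e, this, mul_assoc,
      a.gz, ← mul_assoc, F.zz, one_mul]
end H4.Nc
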