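import Cfsg.Agent.H15.Mw7
import Cfsg.Agent.H8.NS1
import Cfsg.Agent.S5945
/-! Groups of order 95040 with prescribed element counts: the centralizer of order 240. -/
set_option autoImplicit false
set_option linter.unusedSectionVars false
namespace H4.Nm
open H13 Subgroup _root_.Cfsg H15.Mw
open scoped Pointwise
universe u
variable {G : Type u} [Group G] [Finite G]

theorem cmod {p : ℕ} [Fact p.Prime] {c : G} (hc : c ^ p = 1) (A : Set G)
    (h : ∀ a ∈ A, c * a * c⁻¹ ∈ A) : A.ncard ≡ {a | a ∈ A ∧ c * a = a * c}.ncard [MOD p] := by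
  classical
  let _ := Fintype.ofFinite G
  let f : Function.End A := fun a => ⟨_, h a a.2⟩
  have k : ∀ n : ℕ, ∀ a : A, ((f ^ n) a : G) = c ^ n * a * (c ^ n)⁻¹ := fun n => by
    induction n with
    | zero => intro a; simp; rfl
    | succ n ih =>
      intro a
      rw [pow_succ']
      show c * ((f ^ n) a : G) * c⁻¹ = _
      rw [ih]; group
  have := Equiv.Perm.card_fixedPoints_modEq (f := f) (p := p) (n := 1) (funext fun a => Subtype.ext (by
    rw [pow_one, k, hc]; simp; rfl))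
  rw [← Nat.card_eq_fintype_card, ← Nat.card_eq_fintype_card, Nat.card_coe_set_eq] at this
  rw [← Nat.card_coe_set_eq {a | a ∈ A ∧ c * a = a * c}]
  refine this.trans (by
    rw [Nat.card_congr (β := {a | a ∈ A ∧ c * a = a * c})
      ⟨fun a => ⟨a.1.1, a.1.2, mul_inv_eq_iff_eq_mul.1 (congrArg Subtype.val a.2)⟩,
        fun a => ⟨⟨a.1, a.2.1⟩, Subtype.ext (mul_inv_eq_iff_eq_mul.2 a.2.2)⟩, fun _ => rfl, fun _ => rfl⟩])

theorem ord2 {a : G} (h : a * a = 1) (h1 : a ≠ 1) : orderOf a = 2 := by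
  have := Fact.mk Nat.prime_two
  exact orderOf_eq_prime (by rw [pow_two, h]) h1

theorem sq_of {a : G} (h : orderOf a = 2) : a * a = 1 ∧ a ≠ 1 :=
  ⟨by rw [← pow_two, ← h, pow_orderOf_eq_one], fun e => by simp [e] at h⟩

/-- The counting data. -/
structure NS (G : Type u) [Group G] : Prop where
  card : Nat.card G = 95040
  simple : IsSimpleGroup G
  s2 : Nat.card {g : G // orderOf g = 2} = 891
  c5 : ∀ x : G, orderOf x = 5 → Nat.card (Cz x) = 10
  n5 : Nat.card (Sylow 5 G) = 2376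
  c11 : ∀ x : G, orderOf x = 11 → Nat.card (Cz x) = 11
  e8 : ∃ g : G, orderOf g = 8
  n1440 : ∀ t : G, orderOf t = 2 → Nat.card (Cz t) ≠ 1440

namespace NS
variable (N : NS G)
include N

theorem sq5 {x g : G} (hx : orderOf x = 5) (hg : g * x = x * g) {h : G} (hh : h * x = x * h) :
    g * h ∈ zpowers x ↔ (g ∈ zpowers x ↔ h ∈ zpowers x) := by
  have le : zpowers x ≤ Cz x := zpowers_le.2 (self_mem_Cz x)
  have i : ((zpowers x).subgroupOf (Cz x)).index = 2 := by
    have := ((zpowers x).subgroupOf (Cz x)).card_mul_index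
    rw [Nat.card_congr (subgroupOfEquivOfLe le).toEquiv, Nat.card_zpowers, hx, N.c5 x hx] at this
    omega
  exact mul_mem_iff_of_index_two i (a := ⟨g, mem_Cz.2 hg⟩) (b := ⟨h, mem_Cz.2 hh⟩)

omit N in
theorem nz5 {x a : G} (hx : orderOf x = 5) (aa : a * a = 1) (h : a ∈ zpowers x) : a = 1 := by
  have h1 : orderOf a ∣ 5 := hx ▸ orderOf_dvd_of_mem_zpowers h
  have h2 : orderOf a ∣ 2 := orderOf_dvd_of_pow_eq_one (by rw [pow_two, aa])
  exact orderOf_eq_one_iff.1 (Nat.eq_one_of_dvd_coprimes (by norm_num) h1 h2)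

theorem uniq {x a b : G} (hx : orderOf x = 5) (aa : a * a = 1) (a1 : a ≠ 1) (bb : b * b = 1) (b1 : b ≠ 1)
    (ax : a * x = x * a) (bx : b * x = x * b) : a = b := by
  have h := (N.sq5 hx ax bx).2 (iff_of_false (mt (nz5 hx aa) a1) (mt (nz5 hx bb) b1))
  have c : Commute a (a * b) := by
    obtain ⟨n, hn⟩ := mem_zpowers_iff.1 h
    exact hn ▸ (show Commute a x from ax).zpow_right n
  have c2 : a * b = b * a := by
    have := c.eq
    rw [← mul_assoc, aa, one_mul] at this
    calc a * b = a * (a * b * a) := by rw [← this]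
      _ = (a * a) * b * a := by group
      _ = b * a := by rw [aa, one_mul]
  have := nz5 hx (a := a * b) (by rw [mul_assoc, ← mul_assoc b, ← c2, mul_assoc, bb, mul_one, aa]) h
  rw [← iv bb]; exact eq_inv_of_mul_eq_one_left this

theorem syl5 {x : G} (hx : orderOf x = 5) : ∃ P : Sylow 5 G, (P : Subgroup G) = zpowers x := by
  have := Fact.mk Nat.prime_five
  obtain ⟨P, hP⟩ := H8.NS.exists_syl (p := 5) (k := 1) (x := x) (by rw [pow_one, ← hx, pow_orderOf_eq_one])
  exact ⟨P, H8.NS.syl_eq (k := 1) (H8.NS.card_sylow (by rw [N.card]; norm_num) (by rw [N.card]; norm_num))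
    (by rw [hx, pow_one]) hP⟩

theorem conj5 {x t v : G} (hx : orderOf x = 5) (tt : t * t = 1) (t1 : t ≠ 1) (tx : t * x = x * t)
    (vv : v * v = 1) (v1 : v ≠ 1) (h : 5 ∣ Nat.card (Cz v)) : IsConj t v := by
  have := Fact.mk Nat.prime_five
  obtain ⟨y, hy⟩ := exists_prime_orderOf_dvd_card' 5 h
  have hy' : orderOf (y : G) = 5 := by simpa using hy
  obtain ⟨P, hP⟩ := N.syl5 hx
  obtain ⟨Q, hQ⟩ := N.syl5 hy'
  obtain ⟨g, rfl⟩ := MulAction.exists_smul_eq G P Q
  have m : (y : G) ∈ ((g • P : Sylow 5 G) : Subgroup G) := hQ ▸ mem_zpowers _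
  have m2 := H3.mem_coe_smul_sylow.1 m
  rw [hP] at m2
  obtain ⟨n, hn⟩ := mem_zpowers_iff.1 m2
  have c : t * (g⁻¹ * y * g) = g⁻¹ * y * g * t := hn ▸ ((show Commute t x from tx).zpow_right n).eq
  have o : orderOf (g⁻¹ * y * g) = 5 := by
    have := (MulAut.conj g⁻¹).orderOf_eq (y : G)
    simpa [hy'] using this
  have e := N.uniq o tt t1 (b := g⁻¹ * v * g) (by simpa using cj_sq (c := g⁻¹) vv)
    (by simpa using (cj_eq_one (c := g⁻¹)).not.2 v1) c (by
      simpa using cj_comm (c := g⁻¹) (mem_Cz.1 y.2).symm)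
  exact e ▸ (icj' g v).symm

theorem nab : ¬ ∀ a b : G, a * b = b * a := fun h => by
  have := N.simple
  let _ : CommGroup G := { mul_comm := h }
  have := IsSimpleGroup.prime_card (α := G)
  rw [N.card] at this
  exact absurd this (by norm_num)

theorem nt {t : G} (t1 : t ≠ 1) : Cz t ≠ ⊤ := fun j => by
  have := N.simple
  have : zpowers t = ⊤ := (H1.normal_of_le_center (zpowers_le_of_mem (mem_center_iff.2 fun g =>
      mem_Cz.1 (j ▸ mem_top g)))).eq_bot_or_eq_top.resolve_left (by simpa using t1)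
  refine N.nab fun a b => ?_
  obtain ⟨n, rfl⟩ := mem_zpowers_iff.1 (this ▸ mem_top a : a ∈ zpowers t)
  obtain ⟨m, rfl⟩ := mem_zpowers_iff.1 (this ▸ mem_top b : b ∈ zpowers t)
  exact (Commute.zpow_zpow_self t n m).eq

theorem not8640 {x t : G} (hx : orderOf x = 5) (tt : t * t = 1) (t1 : t ≠ 1) (tx : t * x = x * t) :
    Nat.card (Cz t) ≠ 8640 := fun h => by
  have := N.simple
  have := Fact.mk Nat.prime_five
  have := Fact.mk Nat.prime_two
  have c := card_cz t
  rw [h, N.card] at c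
  set A := {g | IsConj t g} with hA
  have cA : A.ncard = 11 := by omega
  have inv : ∀ c : G, ∀ a ∈ A, c * a * c⁻¹ ∈ A := fun c a ha => IsConj.trans ha (icj c a)
  have m2 := cmod (p := 2) (c := t) (by rw [pow_two, tt]) A (inv t)
  set F := {a | a ∈ A ∧ t * a = a * t} with hF
  have m5 := cmod (p := 5) (c := x) (by rw [← hx, pow_orderOf_eq_one]) F fun a ha =>
    ⟨inv x a ha.1, by simpa [cj_of_comm tx.symm] using cj_comm (c := x) ha.2⟩
  have e1 : {a | a ∈ F ∧ x * a = a * x} = {t} := Set.ext fun a => ⟨fun ha =>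
    N.uniq hx (isConj_sq ha.1.1 tt) (isConj_ne ha.1.1 t1) tt t1 ha.2.symm tx,
    fun ha => by rw [Set.mem_singleton_iff.1 ha]; exact ⟨⟨IsConj.refl t, rfl⟩, tx.symm⟩⟩
  rw [e1, Set.ncard_singleton] at m5
  have le : F.ncard ≤ A.ncard := Set.ncard_le_ncard fun a ha => ha.1
  have g1 : 1 < F.ncard := by
    by_cases h : IsIsolatedInvolution t
    · refine absurd (eq_top_iff.2 fun g _ => mem_Cz.2 (mem_center_iff.1 (H19.zstar_center h ?_) g)) (N.nt t1)
      refine (inferInstance : (pPrimeCore 2 G).Normal).eq_bot_or_eq_top.resolve_right fun j => ?_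
      exact H6.odd_card_iff.1 (H6.coprime_two_iff.1 (H1.coprime_card_pPrimeCore 2)) t (j ▸ mem_top t) (ord2 tt t1)
    · simp only [IsIsolatedInvolution, ord2 tt t1, true_and, not_forall] at h
      obtain ⟨g, a, b⟩ := h
      exact (Set.one_lt_ncard (Set.toFinite _)).2 ⟨_, ⟨icj g t, a.eq⟩, t, ⟨IsConj.refl t, rfl⟩, b⟩
  have e : F = A := Set.eq_of_subset_of_ncard_le (fun a ha => ha.1) (by
    unfold Nat.ModEq at m2 m5; omega)
  refine N.nt t1 (top_le_iff.1 ?_)
  rw [← (normalClosure_normal (s := {t})).eq_bot_or_eq_top.resolve_left fun j =>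
    t1 (mem_bot.1 (j ▸ subset_normalClosure rfl))]
  refine (closure_le _).2 fun g hg => ?_
  obtain ⟨_, rfl, hg'⟩ := Group.mem_conjugatesOfSet_iff.1 hg
  have : g ∈ F := e ▸ hg'
  exact mem_Cz.2 this.2.symm

theorem n11 {t : G} (tt : t * t = 1) (t1 : t ≠ 1) : ¬ 11 ∣ Nat.card (Cz t) := fun h => by
  have := Fact.mk Nat.prime_eleven
  obtain ⟨y, hy⟩ := exists_prime_orderOf_dvd_card' 11 h
  have hy' : orderOf (y : G) = 11 := by simpa using hy
  have := orderOf_dvd_natCard (⟨t, mem_Cz.2 (mem_Cz.1 y.2).symm⟩ : Cz (y : G))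
  rw [N.c11 _ hy', ← orderOf_coe, ord2 tt t1] at this
  omega

theorem cls_le {t : G} (tt : t * t = 1) (t1 : t ≠ 1) : {g | IsConj t g}.ncard ≤ 891 := by
  rw [← N.s2]
  exact Set.ncard_le_ncard (t := {g | orderOf g = 2}) fun g hg => ord2 (isConj_sq hg tt) (isConj_ne hg t1)

theorem exT : ∃ x t : G, orderOf x = 5 ∧ t * t = 1 ∧ t ≠ 1 ∧ t * x = x * t ∧ Nat.card (Cz t) = 240 ∧
    Nat.card (Sylow 5 (Cz t)) = 6 := by
  have := Fact.mk Nat.prime_five
  have := Fact.mk Nat.prime_two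
  obtain ⟨x, hx⟩ := exists_prime_orderOf_dvd_card' (G := G) 5 (by rw [N.card]; norm_num)
  obtain ⟨t, ht⟩ := exists_prime_orderOf_dvd_card' (G := Cz x) 2 (by rw [N.c5 x hx]; norm_num)
  obtain ⟨tt, t1⟩ := sq_of (show orderOf (t : G) = 2 by simpa using ht)
  have tx := mem_Cz.1 t.2
  generalize (t : G) = t at tt t1 tx
  obtain ⟨P, hP⟩ := N.syl5 hx
  have le : (P : Subgroup G) ≤ Cz t := hP ▸ zpowers_le.2 (mem_Cz.2 tx.symm)
  have nle : normalizer ((P : Subgroup G) : Set G) ≤ Cz t := fun g hg => by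
    have m : g⁻¹ * x * g ∈ zpowers x := by
      have := (mem_normalizer_iff''.1 hg x).1 (hP ▸ mem_zpowers x)
      rwa [hP] at this
    obtain ⟨n, hn⟩ := mem_zpowers_iff.1 m
    have c : t * (g⁻¹ * x * g) = g⁻¹ * x * g * t := hn ▸ ((show Commute t x from tx).zpow_right n).eq
    exact mem_Cz'.2 (N.uniq hx (cj_sq tt) (cj_eq_one.not.2 t1) tt t1 (by
      simpa [mul_assoc] using cj_comm (c := g) c) tx)
  have c1 : Nat.card (normalizer ((P : Subgroup G) : Set G)) = 40 := by
    have := (normalizer ((P : Subgroup G) : Set G)).index_mul_card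
    have e : Nat.card (Sylow 5 G) = (normalizer ((P : Subgroup G) : Set G)).index := P.card_eq_index_normalizer
    rw [← e, N.n5, N.card] at this
    omega
  have c2 : Nat.card (Sylow 5 (Cz t)) * 40 = Nat.card (Cz t) := by
    rw [(P.subtype le).card_eq_index_normalizer, ← c1, ← Nat.card_congr (subgroupOfEquivOfLe nle).toEquiv,
      subgroupOf_normalizer_eq le]
    exact index_mul_card _
  have c3 := card_sylow_modEq_one 5 (Cz t)
  have c4 := card_cz t
  have c5 := N.cls_le tt t1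
  have c6 := N.n11 tt t1
  have c7 := N.not8640 hx tt t1 tx
  have c8 := N.n1440 t (ord2 tt t1)
  rw [N.card] at c4
  refine ⟨x, t, hx, tt, t1, tx, ?_⟩
  rw [← c2] at c4 c6 c7 c8 ⊢
  generalize Nat.card (Sylow 5 (Cz t)) = n at *
  generalize {g | IsConj t g}.ncard = m at *
  have d : n ∣ 216 := by
    have : n ∣ 11 * 216 := ⟨m, by nlinarith⟩
    exact (Nat.Coprime.dvd_mul_left ((Nat.coprime_comm.1 (Nat.prime_eleven.coprime_iff_not_dvd.2
      fun h => c6 (h.mul_right _))))).1 this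
  have k : ∀ n ∈ Nat.divisors 216, n % 5 = 1 → n = 1 ∨ n = 6 ∨ n = 36 ∨ n = 216 := by decide +kernel
  rcases k n (Nat.mem_divisors.2 ⟨d, by norm_num⟩) c3 with rfl | rfl | rfl | rfl <;> omega

theorem exPi : ∃ t : G, t * t = 1 ∧ t ≠ 1 ∧ Nat.card (Cz t) = 240 ∧
    (∀ v : G, v * v = 1 → v ≠ 1 → 5 ∣ Nat.card (Cz v) → IsConj t v) ∧
    ∃ π : Cz t →* Equiv.Perm (Fin 5), Function.Surjective π ∧ ∀ g, π g = 1 ↔ (g : G) = 1 ∨ (g : G) = t := by
  classical
  have := Fact.mk Nat.prime_five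
  obtain ⟨x, t, hx, tt, t1, tx, c, n⟩ := N.exT
  refine ⟨t, tt, t1, c, fun v vv v1 h => N.conj5 hx tt t1 tx vv v1 h, ?_⟩
  let X : Cz t := ⟨x, mem_Cz.2 tx.symm⟩
  have oX : orderOf X = 5 := by rw [← orderOf_coe]; exact hx
  have cS := H8.NS.card_sylow (G := Cz t) (p := 5) (k := 1) (by rw [c]; norm_num) (by rw [c]; norm_num)
  obtain ⟨P, hP⟩ := H8.NS.exists_syl (p := 5) (k := 1) (x := X) (by rw [pow_one, ← oX, pow_orderOf_eq_one])
  have eP := H8.NS.syl_eq cS (by rw [oX, pow_one]) hP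
  let φ := MulAction.toPermHom (Cz t) (Sylow 5 (Cz t))
  have hφ : ∀ g, φ g = 1 ↔ ∀ Q : Sylow 5 (Cz t), g ∈ normalizer ((Q : Subgroup (Cz t)) : Set (Cz t)) := fun g =>
    Equiv.ext_iff.trans (forall_congr' fun Q => Sylow.smul_eq_iff_mem_normalizer)
  have nX : ∀ y ∈ zpowers X, φ y = 1 → y = 1 := fun y hy h => by
    by_contra y1
    have oy : orderOf y = 5 := ((Nat.dvd_prime Nat.prime_five).1
      (oX ▸ orderOf_dvd_of_mem_zpowers hy)).resolve_left (mt orderOf_eq_one_iff.1 y1)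
    have k : ∀ Q : Sylow 5 (Cz t), (Q : Subgroup (Cz t)) = zpowers y := fun Q =>
      H8.NS.syl_eq cS (by rw [oy, pow_one]) (by
        have pg : IsPGroup 5 (zpowers y) := IsPGroup.of_card (n := 1) (by rw [Nat.card_zpowers, oy, pow_one])
        have := pg.inf_normalizer_sylow Q
        exact (this.le ⟨mem_zpowers y, (hφ y).1 h Q⟩).2)
    have : Subsingleton (Sylow 5 (Cz t)) := ⟨fun a b => Sylow.ext ((k a).trans (k b).symm)⟩
    have := Finite.card_le_one_iff_subsingleton.2 this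
    omega
  have ker : ∀ g, φ g = 1 ↔ (g : G) = 1 ∨ (g : G) = t := fun g => ⟨fun h => by
      have m : g * X * g⁻¹ ∈ zpowers X := eP ▸ (mem_normalizer_iff.1 ((hφ g).1 h P) X).1 hP
      have e := nX _ (mul_mem m (inv_mem (mem_zpowers X))) (by simp [h])
      have gx : (g : G) * x = x * g := by
        have := congrArg Subtype.val (mul_inv_eq_iff_eq_mul.1 (mul_inv_eq_one.1 e))
        exact this
      have m2 := (N.sq5 hx gx gx).2 Iff.rfl
      obtain ⟨k, hk⟩ := mem_zpowers_iff.1 m2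
      have e2 := nX (g * g) (mem_zpowers_iff.2 ⟨k, Subtype.ext (by simpa using hk)⟩) (by simp [h])
      exact or_iff_not_imp_left.2 fun g1 => N.uniq hx (congrArg Subtype.val e2) g1 tt t1 gx tx,
    fun h => by
      rcases h with h | h
      · rw [show g = 1 from Subtype.ext h, map_one]
      · refine (hφ g).2 fun Q => centralizer_le_normalizer _ (mem_centralizer_iff.2 fun y _ => Subtype.ext ?_)
        show (y : G) * g = g * y
        rw [h]; exact mem_Cz.1 y.2⟩
  have := Fintype.ofFinite (Sylow 5 (Cz t))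
  let e : Sylow 5 (Cz t) ≃ Fin 6 := Fintype.equivFinOfCardEq (by rw [← Nat.card_eq_fintype_card, n])
  let ψ : Cz t →* Equiv.Perm (Fin 6) := (e.permCongrHom).toMonoidHom.comp φ
  have kψ : ∀ g, ψ g = 1 ↔ (g : G) = 1 ∨ (g : G) = t := fun g => by
    rw [← ker]; exact map_eq_one_iff _ e.permCongrHom.injective
  have ck : Nat.card ψ.ker = 2 := by
    rw [show ψ.ker = zpowers ⟨t, self_mem_Cz t⟩ from le_antisymm (fun g hg => by
      rcases (kψ g).1 hg with h | h
      · rw [show g = 1 from Subtype.ext h]; exact one_mem _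
      · rw [show g = ⟨t, self_mem_Cz t⟩ from Subtype.ext h]; exact mem_zpowers _)
      (zpowers_le.2 ((kψ _).2 (.inr rfl))), Nat.card_zpowers, ← orderOf_coe, ord2 tt t1]
  have cr : ψ.range.index = 6 := by
    have h1 := ψ.ker.card_mul_index
    have h2 := ψ.range.card_mul_index
    rw [ck, c, index_ker] at h1
    rw [show Nat.card ψ.range = 120 by omega, Nat.card_perm, Nat.card_fin] at h2
    simp only [Nat.factorial] at h2
    omega
  obtain ⟨f⟩ := Cfsg.Agent.S5945.result.2.1 _ cr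
  refine ⟨f.toMonoidHom.comp ψ.rangeRestrict, f.surjective.comp ψ.rangeRestrict_surjective, fun g => ?_⟩
  rw [← kψ]
  exact (map_eq_one_iff _ f.injective).trans Subtype.ext_iff

end NS
end H4.Nm
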