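import Cfsg.Agent.H4.Nm2
/-! Groups of order 95040: the normalizer of the four-group. -/
set_option autoImplicit false
set_option linter.unusedSectionVars false
namespace H4.Nm
open H13 Subgroup _root_.Cfsg H15.Mw Equiv
universe u
variable {G : Type u} [Group G] [Finite G]

structure F1 (t : G) (R : G → P5 → Prop) (T S : Subgroup G) (z s y r : G) : Prop extends F0 t R T S z where
  Y : Y z s y
  rs : R s Nm.pS
  ry : R y pR
  rr : R r pT
  q : r * s * r⁻¹ = s * z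
  ryr : r * y * r⁻¹ = y⁻¹

namespace F1
variable {t : G} {R : G → P5 → Prop} {T S : Subgroup G} {z s y r : G} (F : F1 t R T S z s y r)
include F
theorem sT : s ∈ T := F.mT.2 ⟨_, F.rs, by decide +kernel⟩
theorem rT : r ∈ T := F.mT.2 ⟨_, F.rr, by decide +kernel⟩
theorem r2 : r * r = 1 ∨ r * r = t := F.ker.1 (F.of (F.mul F.rr F.rr) (by decide +kernel))
theorem invT {g : G} {a : P5} (h : R g a) (c : a * pZ = pZ * a) (gg : g * g = 1) :
    (a = 1 ∨ a = pZ) ∨ (a = Nm.pS ∨ a = Nm.pS * pZ) ∨ (a = pT ∨ a = pT * pZ) := by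
  have e := F.uq (F.mul h h) (gg ▸ F.one)
  rcases d1 a c with k | k | k | k | k
  exacts [.inl k, .inr (.inl k), .inr (.inr k), absurd (k ▸ e) (by decide +kernel), absurd (k ▸ e) (by decide +kernel)]

theorem nofix {g x a : G} {b : P5} (hg : F0.P T S g) (rb : R (g * s * g⁻¹) b) (eb : b = pT ∨ b = pT * pZ)
    (hx : F0.P T S x) (aT : a ∈ T) (aa : a * a = 1) (xa : x * a = a * x) :
    a = 1 ∨ a = t ∨ a = z ∨ a = z * t := by
  have key : ∀ (w : G) (c : P5), R w c → (c = Nm.pS ∨ c = Nm.pS * pZ) →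
      ∃ d, R (x * w * x⁻¹) d ∧ (d = pT ∨ d = pT * pZ) := fun w c rw ec => by
    obtain ⟨e, re, ce⟩ := F.mT.1 (F.PP hg.inv hx)
    have h1 := F.cj re rw
    have h2 := F.mul (F.inv F.rs) h1
    have h3 := F.PZ hg h2 (by
      rcases d6 e ce c ec with k | k <;> rw [k] <;> decide +kernel)
    have e3 : x * w * x⁻¹ = (g * s * g⁻¹) * (g * (s⁻¹ * (g⁻¹ * x * w * (g⁻¹ * x)⁻¹)) * g⁻¹) := by group
    rw [e3]
    rcases h3 with h3 | h3 <;> refine ⟨_, F.mul rb h3, ?_⟩ <;> rcases eb with rfl | rfl <;> decide +kernel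
  obtain ⟨c, rc, cc⟩ := F.mT.1 aT
  rcases F.invT rc cc aa with k | k | k
  · exact F.cases rc k
  · obtain ⟨d, rd, ed⟩ := key a c rc k
    rw [cj_of_comm xa] at rd
    obtain rfl := F.uq rc rd
    rcases k with rfl | rfl <;> exact absurd ed (by decide +kernel)
  · obtain ⟨d, rd, ed⟩ := key s _ F.rs (.inl rfl)
    have h1 := F.mul rd (F.inv rc)
    rw [show x * s * x⁻¹ * a⁻¹ = x * (s * a⁻¹) * x⁻¹ by rw [cj_mul, cj_of_comm (comm_inv xa.symm).symm]] at h1
    have := F.PZ' hx h1 (by rcases k with rfl | rfl <;> rcases ed with rfl | rfl <;> decide +kernel)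
      (F.mul F.rs (F.inv rc))
    rcases k with rfl | rfl <;> exact absurd this (by decide +kernel)

theorem notII {g : G} {b : P5} (hg : F0.P T S g) (rb : R (g * s * g⁻¹) b) (eb : b = pT ∨ b = pT * pZ) : False := by
  classical
  have := Fact.mk Nat.prime_two
  have lt : S ⊓ normalizer (T : Set G) < S := inf_le_left.lt_of_ne fun e => by
    have n : ∀ x ∈ S, x ∈ normalizer (T : Set G) := fun x hx => (e.ge hx).2
    have i : (T.subgroupOf S).index = 2 := index_eq_two_iff.2 ⟨⟨g, hg.1⟩, fun b => by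
      by_cases h : (b : G) ∈ T
      · exact .inr ⟨h, fun k => hg.2.2 ((mul_mem_cancel_left h).1 k)⟩
      · exact .inl ⟨F.PP ⟨b.2, n b b.2, h⟩ hg, h⟩⟩
    have := (T.subgroupOf S).card_mul_index
    rw [i, Nat.card_congr (subgroupOfEquivOfLe F.TS).toEquiv, F.c16, F.cS] at this
    omega
  obtain ⟨h, hS, hn, hN⟩ := H6.exists_mem_normalizer_of_lt F.pS lt
  have le : T ≤ S ⊓ normalizer (T : Set G) := le_inf F.TS le_normalizer
  have m : ∀ a ∈ T, h * a * h⁻¹ ∈ S ⊓ normalizer (T : Set G) := fun a ha =>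
    (mem_normalizer_iff.1 hN a).1 (le ha)
  have hz := F.Sz hS
  by_cases k : h * t * h⁻¹ ∈ T
  · by_cases k2 : ∀ a ∈ T, h * a * h⁻¹ ∈ T
    · exact hn ⟨hS, mem_normalizer_fintype k2⟩
    push Not at k2
    obtain ⟨a, ha, k2⟩ := k2
    rcases F.nofix hg rb eb ⟨(m a ha).1, (m a ha).2, k2⟩ k (cj_sq F.tt) (cj_comm (F.mT'.1 ha).1) with e | e | e | e
    · exact F.t1 (cj_eq_one.1 e)
    · exact hn (le (F.mT'.2 ⟨comm_of_cj e, hz⟩))
    · exact F.nz (e ▸ icj h t)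
    · have : g⁻¹ * h ∈ T := F.mT'.2 ⟨comm_of_cj (by
        rw [show g⁻¹ * h * t * (g⁻¹ * h)⁻¹ = g⁻¹ * (h * t * h⁻¹) * g⁻¹⁻¹ by group, e, F.Pzt hg.inv]),
        F.Sz (mul_mem (inv_mem hg.1) hS)⟩
      exact hn (by simpa using mul_mem (show g ∈ S ⊓ normalizer (T : Set G) from ⟨hg.1, hg.2.1⟩) (le this))
  · have pt : F0.P T S (h * t * h⁻¹) := ⟨(m t F.tT).1, (m t F.tT).2, k⟩
    have fin : ∀ w, R w Nm.pS → w * w = 1 → h * w * h⁻¹ ∈ T → False := fun w rw ww hw => by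
      have c := cj_comm (c := h) (F.com rw).symm
      rcases F.nofix hg rb eb pt hw (cj_sq ww) c with e | e | e | e
      · exact absurd (F.uq rw (cj_eq_one.1 e ▸ F.one)) (by decide +kernel)
      · exact k (F.mT'.2 ⟨e ▸ c, F.Sz pt.1⟩)
      · exact absurd (F.uq rw (cj_inj (e.trans (cj_of_comm hz).symm) ▸ F.rz)) (by decide +kernel)
      · rw [e, ← mul_assoc, F.Sz pt.1, mul_assoc, mul_assoc z] at c
        exact k (F.mT'.2 ⟨mul_left_cancel c, F.Sz pt.1⟩)
    by_cases k2 : h * s * h⁻¹ ∈ T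
    · exact fin s F.rs F.Y.ss k2
    · refine fin (s * t) (F.mt' F.rs) (by
        rw [mul_assoc, ← mul_assoc t, ← F.com F.rs, mul_assoc, F.tt, mul_one, F.Y.ss]) ?_
      rw [cj_mul]
      exact F.PP ⟨(m s F.sT).1, (m s F.sT).2, k2⟩ pt

theorem yt : y * t = t * y := F.com F.ry
theorem tst : IsConj t (s * t) := by
  have := F.tzt.trans (icj y _)
  rwa [cj_mul, F.Y.yz, cj_of_comm F.yt] at this
theorem tszt : IsConj t (s * z * t) := by
  have := F.tst.trans (icj y _)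
  rwa [cj_mul, F.Y.ys, cj_of_comm F.yt] at this
theorem zs : IsConj z s := F.Y.yz ▸ icj y z

theorem exG : ∃ g, g * z = z * g ∧ g * s = s * g ∧ g * t * g⁻¹ = z * t := by
  obtain ⟨g, hg⟩ := F.exP
  obtain ⟨b, rb, cb⟩ := F.mT.1 (hg.cj F.sT)
  have c : IsConj z (g * s * g⁻¹) := F.zs.trans (icj g s)
  have gz := F.Sz hg.1
  have rz := (F.mT'.1 F.rT).2
  rcases F.invT rb cb (cj_sq F.Y.ss) with k | k | k
  · exact absurd (F.PZ' hg rb k F.rs) (by decide +kernel)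
  · rcases k with rfl | rfl
    · rcases F.eq rb F.rs with e | e
      · exact ⟨g, gz, comm_of_cj e, F.Pt hg⟩
      · exact absurd (F.tst.trans (e ▸ c).symm) F.nz
    · rcases F.eq rb (F.mul F.rs F.rz) with e | e
      · refine ⟨r * g, (comm_mul rz.symm gz.symm).symm, comm_of_cj ?_, ?_⟩
        · rw [show r * g * s * (r * g)⁻¹ = r * (g * s * g⁻¹) * r⁻¹ by group, e, cj_mul, F.q, cj_of_comm rz,
            mul_assoc, F.zz, mul_one]
        · rw [show r * g * t * (r * g)⁻¹ = r * (g * t * g⁻¹) * r⁻¹ by group, F.Pt hg,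
            cj_of_comm (comm_mul rz (F.com F.rr))]
      · exact absurd (F.tszt.trans (e ▸ c).symm) F.nz
  · exact (F.notII hg rb k).elim

omit F in
/-- the four-group -/
def V (z s v : G) : Prop := v = 1 ∨ v = z ∨ v = s ∨ v = s * z

theorem inW {c : G} (h1 : c * t = t * c) (h2 : c * z = z * c) (h3 : c * s = s * c) :
    ∃ v, V z s v ∧ (c = v ∨ c = v * t) := by
  obtain ⟨a, ra⟩ := F.mem h1
  rcases d5 a (F.cm ra F.rz h2) (F.cm ra F.rs h3) with (rfl | rfl) | (rfl | rfl)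
  exacts [⟨1, .inl rfl, F.eq ra F.one⟩, ⟨z, .inr (.inl rfl), F.eq ra F.rz⟩,
    ⟨s, .inr (.inr (.inl rfl)), F.eq ra F.rs⟩, ⟨_, .inr (.inr (.inr rfl)), F.eq ra (F.mul F.rs F.rz)⟩]
end F1
end H4.Nm
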