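import Cfsg.Agent.H4.Nm4
import Cfsg.Agent.H8.PE
import Cfsg.Agent.H5.PD3
/-! Groups of order 95040 with the element counts of `M12`. -/
set_option autoImplicit false
set_option linter.unusedSectionVars false
namespace H4.Nm
open H13 Subgroup _root_.Cfsg H15.Mw Equiv
universe u
variable {G : Type u} [Group G] [Finite G]

namespace F1
variable {t : G} {R : G → P5 → Prop} {T S : Subgroup G} {z s y r : G} (F : F1 t R T S z s y r)
include F
theorem BC (a1 : IsConj t r) (a2 : IsConj t (r * t)) {b : G} (hb : IsConj z b) (bt : b * t = t * b) :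
    ∃ c, c * t = t * c ∧ b = c * z * c⁻¹ := by
  have n : ¬ IsConj t b := fun h => F.nz (h.trans hb.symm)
  obtain ⟨a, ra⟩ := F.mem bt
  have k : ∀ {c w : G}, c * t = t * c → c * w * c⁻¹ * t = c * (w * t) * c⁻¹ := fun h => by
    rw [cj_mul, cj_of_comm h]
  rcases d2 a (F.uq (F.mul ra ra) ((isConj_sq hb F.zz).symm ▸ F.one)) with rfl | ⟨c, rfl | rfl⟩
  · rcases F.ker.1 ra with e | e
    · exact absurd e (isConj_ne hb F.z1)
    · exact absurd (e ▸ IsConj.refl _) n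
  · obtain ⟨c, rc⟩ := F.ex c
    rcases F.eq ra (F.cj rc F.rz) with e | e
    · exact ⟨c, F.com rc, e⟩
    · exact absurd (by rw [e, k (F.com rc)]; exact F.tzt.trans (icj _ _)) n
  · obtain ⟨c, rc⟩ := F.ex c
    rcases F.eq ra (F.cj rc F.rr) with e | e
    · exact absurd (by rw [e]; exact a1.trans (icj _ _)) n
    · exact absurd (by rw [e, k (F.com rc)]; exact a2.trans (icj _ _)) n

theorem orb (a1 : IsConj t r) (a2 : IsConj t (r * t)) {a : G} (ha : IsConj t a) (az : a * z = z * a) :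
    ∃ u, u * z = z * u ∧ a = u * t * u⁻¹ := by
  obtain ⟨h, rfl⟩ := isConj_iff.1 ha
  obtain ⟨c, ct, e⟩ := F.BC a1 a2 (icj' h z) (comm_cj' az.symm)
  refine ⟨h * c, comm_of_cj ?_, ?_⟩
  · rw [show h * c * z * (h * c)⁻¹ = h * (c * z * c⁻¹) * h⁻¹ by group, ← e]; group
  · rw [show h * c * t * (h * c)⁻¹ = h * (c * t * c⁻¹) * h⁻¹ by group, cj_of_comm ct]

theorem c12 (a1 : IsConj t r) (a2 : IsConj t (r * t)) (c : Nat.card (Cz z) = 192) :
    {a : G | IsConj t a ∧ a * z = z * a}.ncard = 12 := by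
  let t' : Cz z := ⟨t, mem_Cz.2 F.zt.symm⟩
  have h := card_cz t'
  have e1 : Cz t' = T.subgroupOf (Cz z) := Subgroup.ext fun g =>
    ⟨fun k => F.mT'.2 ⟨congrArg Subtype.val (mem_Cz.1 k), mem_Cz.1 g.2⟩,
      fun k => mem_Cz.2 (Subtype.ext (F.mT'.1 k).1)⟩
  have e2 : {a : G | IsConj t a ∧ a * z = z * a} = Subtype.val '' {g : Cz z | IsConj t' g} := Set.ext fun a =>
    ⟨fun ⟨k1, k2⟩ => by
      obtain ⟨u, hu, rfl⟩ := F.orb a1 a2 k1 k2
      exact ⟨_, icj ⟨u, mem_Cz.2 hu⟩ t', rfl⟩, by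
      rintro ⟨g, hg, rfl⟩
      exact ⟨(Cz z).subtype.map_isConj hg, mem_Cz.1 g.2⟩⟩
  rw [e1, Nat.card_congr (subgroupOfEquivOfLe fun g hg => mem_Cz.2 (F.mT'.1 hg).2).toEquiv, F.c16, c] at h
  rw [e2, Set.ncard_image_of_injective _ Subtype.val_injective]
  omega

theorem c192 (N : NS G) (cl : ∀ y : G, y * y = 1 → y ≠ 1 → IsConj t y ∨ IsConj z y) : Nat.card (Cz z) = 192 := by
  have h1 := card_cz t
  have h2 := card_cz z
  have h3 := N.s2
  have e : {g : G | orderOf g = 2} = {g | IsConj t g} ∪ {g | IsConj z g} := Set.ext fun g =>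
    ⟨fun h => cl g (sq_of h).1 (sq_of h).2, fun h => h.elim (fun k => ord2 (isConj_sq k F.tt) (isConj_ne k F.t1))
      fun k => ord2 (isConj_sq k F.zz) (isConj_ne k F.z1)⟩
  rw [show Nat.card {g : G // orderOf g = 2} = {g : G | orderOf g = 2}.ncard from rfl, e,
    Set.ncard_union_eq (s := {g | IsConj t g}) (t := {g | IsConj z g})
      (Set.disjoint_left.2 fun g a b => F.nz (IsConj.trans a (IsConj.symm b)))] at h3
  rw [F.c240, N.card] at h1
  rw [show {g | IsConj z g}.ncard = 495 by omega, N.card] at h2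
  omega
end F1

theorem NS.iso (N : NS G) : Spor.IsoM12 G := by
  have := N.simple
  obtain ⟨t, R, T, S, z, s, y, r, g, F, a, m, rr, rfl, rg⟩ := N.exF2
  have q1 := F.Q1 a
  have ll : y * g * y⁻¹ * (y * g * y⁻¹) = s := by rw [← cj_mul, F.Y.yz]
  have p4 : ∀ {x : G}, x * x * (x * x) = 1 → x ^ 4 = 1 := fun h => by
    rw [← h, show 4 = 2 * 2 from rfl, pow_mul, pow_two, pow_two]
  have k4 := p4 F.zz
  have l4 := p4 (x := y * g * y⁻¹) (by rw [ll, F.Y.ss])
  have tk : t * g * t = g⁻¹ := by rw [a.gt]; exact eq_inv_of_mul_eq_one_left (by rw [← F.zz]; group)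
  have tl : t * (y * g * y⁻¹) * t = (y * g * y⁻¹)⁻¹ := by
    rw [q1.gt]; exact eq_inv_of_mul_eq_one_right (by rw [← mul_assoc, ll, F.Y.ss])
  have rk : r * g * r = g := by simpa only [iv rr] using rg
  have rl : r * (y * g * y⁻¹) * r = g⁻¹ * (y * g * y⁻¹)⁻¹ := by
    simpa only [iv rr, rk, F.g2 a m] using F.r1 a m
  obtain ⟨c64, a1, a2, cl, h⟩ := H8PE.partE N.card k4 l4 (F.c01 a m) F.tt rr F.rt'.symm tk tl rk rl F.z1 F.nz
    (ll.symm ▸ F.zs)
  have c192 := F.c192 N cl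
  obtain ⟨hA, n3⟩ := h (F.c12 a1 a2 c192)
  obtain ⟨_, _, _, _, _, _, E⟩ := H5PD.partD k4 l4 (F.c01 a m) F.tt rr F.rt'.symm tk tl rk rl c64 c192 hA a1 a2 F.nz
    (fun k => F.nz (k.trans (ll.symm ▸ F.zs.symm))) n3 fun x b x3 xz tb bz xb => by
      obtain ⟨u, hu, rfl⟩ := F.orb a1 a2 tb bz
      have m : u⁻¹ * x * u ∈ T := F.mT'.2 ⟨comm_cj' xb, comm_cj' (by rw [cj_of_comm hu, xz])⟩
      have d := T.orderOf_dvd_natCard m
      have o := (MulAut.conj u⁻¹).orderOf_eq x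
      rw [MulAut.conj_apply, inv_inv, x3] at o
      rw [o, F.c16] at d
      omega
  obtain ⟨_, _, E⟩ := E.recog
  exact E.iso
end H4.Nm
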