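/-
Small tools for recognizing groups by order and degree graph.
-/
import Cfsg.Agent.H21.CD1
import Cfsg.Agent.H4.SL2Deg
import Cfsg.Agent.H8.FTc
import Cfsg.Agent.S0496
import Cfsg.Agent.S0495
import Cfsg.Agent.S4774
import Cfsg.Agent.S4811

set_option autoImplicit false
open Subgroup Cfsg H17 CF

namespace H4.Sd

universe u
variable {G : Type*} [Group G] [Finite G]

theorem up (N : Subgroup G) [N.Normal] {d : ℕ} (h : d ∈ charDegrees N) :
    ∃ e ∈ charDegrees G, d ∣ e := by
  obtain ⟨ξ, rfl⟩ := h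
  have hθ : extendByZero N ξ ∈ Irr N := CF.ext0_mem_Irr.2 ξ.2
  obtain ⟨χ, hχ⟩ := H21.over_nonempty (K := ⊤) le_top hθ
  obtain ⟨m, -, hm⟩ := H21.deg_over le_top (by rw [normalizer_eq_top]) hθ hχ
  refine ⟨charDegree χ, ⟨⟨χ, mem_Irr_top.1 (H21.over_subset _ _ _ hχ)⟩, rfl⟩, m, ?_⟩
  rw [hm, mul_comm]
  congr 1
  exact H21.deg_congr (extendByZero_coe (H := N) _ 1)

omit [Finite G] in
theorem nc (hp : _root_.commutator G = ⊤) [IsSimpleGroup (G ⧸ center G)] :
    ¬ IsMulCommutative (G ⧸ center G) := by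
  intro h
  have h1 : _root_.commutator G ≤ center G := by
    rw [_root_.commutator_def, commutator_le]
    intro a _ b _
    rw [← QuotientGroup.eq_one_iff, ← QuotientGroup.mk'_apply, map_commutatorElement,
      commutatorElement_eq_one_iff_mul_comm]
    exact h.is_comm.comm _ _
  obtain ⟨x, hx⟩ := exists_ne (1 : G ⧸ center G)
  obtain ⟨x, rfl⟩ := QuotientGroup.mk_surjective x
  exact hx ((QuotientGroup.eq_one_iff x).2 (h1 (hp ▸ mem_top x)))

omit [Finite G] in
theorem cdvd (K : Subgroup G) : Nat.card (K ⧸ center K) ∣ Nat.card G :=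
  (card_quotient_dvd_card _).trans (card_subgroup_dvd_card K)

theorem simple_of (K : Subgroup G) [IsSimpleGroup (K ⧸ center K)]
    (h : Nat.card (K ⧸ center K) = Nat.card G) : IsSimpleGroup G := by
  have h1 := Nat.le_of_dvd Nat.card_pos (card_quotient_dvd_card (center K))
  have h2 := card_le_card_group K
  have b1 : Function.Bijective (QuotientGroup.mk' (center K)) :=
    (QuotientGroup.mk'_surjective _).bijective_of_nat_card_le (by omega)
  have b2 : Function.Bijective K.subtype :=
    K.subtype_injective.bijective_of_nat_card_le (by omega)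
  exact ((MulEquiv.ofBijective _ b2).symm.trans (MulEquiv.ofBijective _ b1)).isSimpleGroup

omit [Finite G] in
theorem gr_congr {H : Type*} [Group H] (f : H ≃* G) :
    degreePrimes G = degreePrimes H ∧ degreeGraph G = degreeGraph H := by
  have := H4.deg_of_equiv f
  refine ⟨by simp only [degreePrimes, this], ?_⟩
  ext p q
  simp only [degreeGraph, this]

theorem h3_of {n p : ℕ} (hn : 0 < n) (hp : 1 < p)
    (h : ∀ k < n / p + 1, p * k + 1 ∣ n → k = 0 ∨
      ∃ s ∈ [2, 3, 5, 7, 11, 13, 17, 19], ∃ t ∈ [2, 3, 5, 7, 11, 13, 17, 19],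
        s ≠ t ∧ s ∣ p * k + 1 ∧ t ∣ p * k + 1) (r a : ℕ) (hr : r.Prime) (hd : r ^ a ∣ n)
    (hm : r ^ a ≡ 1 [MOD p]) : a = 0 := by
  have e : p * (r ^ a / p) + 1 = r ^ a := by
    have := Nat.div_add_mod (r ^ a) p
    rwa [show r ^ a % p = 1 from Eq.trans hm (Nat.mod_eq_of_lt hp)] at this
  have := h _ (Nat.lt_succ_of_le (Nat.div_le_div_right (Nat.le_of_dvd hn hd))) (e.symm ▸ hd)
  rw [e] at this
  rcases this with h | ⟨s, hs, t, ht, hne, h1, h2⟩
  · rw [h] at e
    exact (Nat.pow_eq_one.1 e.symm).resolve_left hr.one_lt.ne'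
  · have P : ∀ s ∈ [2, 3, 5, 7, 11, 13, 17, 19], s.Prime := by
      simp only [List.mem_cons, List.not_mem_nil, or_false]
      rintro s (rfl | rfl | rfl | rfl | rfl | rfl | rfl | rfl) <;> norm_num
    exact (hne (((Nat.prime_dvd_prime_iff_eq (P s hs) hr).1 ((P s hs).dvd_of_dvd_pow h1)).trans
      ((Nat.prime_dvd_prime_iff_eq (P t ht) hr).1 ((P t ht).dvd_of_dvd_pow h2)).symm)).elim

/-- a non-simple group all of whose smaller relevant sections are solvable is solvable -/
theorem solv_of {G : Type u} [Group G] [Finite G] (P : ∀ (X : Type u) [Group X] [Finite X], Prop)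
    (hN : ∀ (X : Type u) [Group X] [Finite X] (N : Subgroup X) [N.Normal], P X → P N)
    (hQ : ∀ (X : Type u) [Group X] [Finite X] (N : Subgroup X) [N.Normal], P X → P (X ⧸ N))
    (hS : ∀ (X : Type u) [Group X] [Finite X] [IsSimpleGroup X], ¬ IsMulCommutative X →
      Nat.card X ∣ Nat.card G → Nat.card X < Nat.card G → P X → False)
    (hG : P G) (h1 : 1 < Nat.card G) (hs : ¬ IsSimpleGroup G) : Group.IsSolvable G := by
  have key : ∀ (X : Type u) [Group X] [Finite X],
      Nat.card X ∣ Nat.card G → Nat.card X < Nat.card G → P X → Group.IsSolvable X := by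
    intro X _ _ a b c
    refine H8.isSolvable_of_simple_cases
      (fun X _ _ => Nat.card X ∣ Nat.card G ∧ Nat.card X < Nat.card G ∧ P X)
      (fun X _ _ N _ h => ⟨(card_subgroup_dvd_card N).trans h.1,
        (card_le_card_group N).trans_lt h.2.1, hN X N h.2.2⟩)
      (fun X _ _ N _ h => ⟨(card_quotient_dvd_card N).trans h.1,
        (Nat.le_of_dvd Nat.card_pos (card_quotient_dvd_card N)).trans_lt h.2.1, hQ X N h.2.2⟩)
      (fun X _ _ _ h => ?_) _ X rfl ⟨a, b, c⟩
    by_cases hc : IsMulCommutative X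
    · exact Group.isSolvable_of_comm hc.is_comm.comm
    · exact (hS X hc h.1 h.2.1 h.2.2).elim
  have : Nontrivial G := Finite.one_lt_card_iff_nontrivial.1 h1
  by_contra hns
  refine hs ⟨fun N hN' => ?_⟩
  by_contra h
  push Not at h
  have := key N (card_subgroup_dvd_card N) ((card_le_card_group N).lt_of_ne
    fun e => h.2 (eq_top_of_card_eq N e)) (hN G N hG)
  have := key (G ⧸ N) (card_quotient_dvd_card N) (by
    have h1 := card_eq_card_quotient_mul_card_subgroup N
    have h2 := (one_lt_card_iff_ne_bot N).2 h.1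
    have h3 : 0 < Nat.card (G ⧸ N) := Nat.card_pos
    nlinarith) (hQ G N hG)
  exact hns (Group.isSolvable_of_ker_le_range N.subtype (QuotientGroup.mk' N) (by simp))

theorem not_solv3 {a b c : ℕ} (ha : a ∈ degreePrimes G) (hb : b ∈ degreePrimes G)
    (hc : c ∈ degreePrimes G) (h1 : a ≠ b) (h2 : a ≠ c) (h3 : b ≠ c)
    (h : ∀ r s, ¬ (degreeGraph G).Adj r s) : ¬ Group.IsSolvable G := fun hs => by
  have h4 := Cfsg.Agent.S4811.result (G := G)
  have hb' : (degreeGraph G).induce (degreePrimes G) = ⊥ := by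
    ext r s
    simp only [SimpleGraph.comap_adj, Function.Embedding.subtype_apply, SimpleGraph.bot_adj, h]
  rw [hb'] at h4
  have : Finite (degreePrimes G) := by
    refine ((Set.finite_le_nat (Nat.card G)).subset ?_).to_subtype
    rintro r ⟨-, d, ⟨χ, rfl⟩, hd⟩
    have := H21.deg_dvd_card (mem_Irr_top.2 χ.2)
    rw [card_top] at this
    exact Nat.le_of_dvd Nat.card_pos (hd.trans this)
  have hm : ∀ i : Fin 3, ![a, b, c] i ∈ degreePrimes G := by
    intro i; fin_cases i <;> assumption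
  have := Nat.card_le_card_of_injective
    (fun i : Fin 3 => (⊥ : SimpleGraph (degreePrimes G)).connectedComponentMk ⟨_, hm i⟩)
    fun i j h => by
      have := congrArg Subtype.val
        (SimpleGraph.reachable_bot.1 (SimpleGraph.ConnectedComponent.eq.1 h))
      fin_cases i <;> fin_cases j <;> simp_all
  rw [Nat.card_fin] at this
  omega

theorem simple504 (h : Nat.card G = 504) (h2 : 2 ∈ degreePrimes G) (h3 : 3 ∈ degreePrimes G)
    (h7 : 7 ∈ degreePrimes G) (hA : ∀ r s, ¬ (degreeGraph G).Adj r s) : IsSimpleGroup G := by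
  by_contra hs
  refine not_solv3 h2 h3 h7 (by norm_num) (by norm_num) (by norm_num) hA
    (solv_of (fun X _ _ => ¬ ∃ d ∈ charDegrees X, 2 * 3 ∣ d) ?_ ?_ ?_ ?_ (by omega) hs)
  · rintro X _ _ N _ hX ⟨d, hd, h6⟩
    obtain ⟨e, he, hde⟩ := up N hd
    exact hX ⟨e, he, h6.trans hde⟩
  · rintro X _ _ N _ hX ⟨d, hd, h6⟩
    exact hX ⟨d, H4.deg_of_surj _ (QuotientGroup.mk'_surjective N) hd, h6⟩
  · intro X _ _ _ hc hd hlt hX
    have h168 : Nat.card X = 168 := by
      have := Cfsg.Agent.S0496.result hc (by omega)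
      rw [h] at hd hlt
      rcases this with e | e | e | e | e | e <;> rw [e] at hd hlt <;> first | exact e | omega
    have : Fact (Nat.Prime 7) := ⟨by norm_num⟩
    have := ((Cfsg.Agent.S4774.result (ZMod 7) 7 (by norm_num) 7 (ZMod.card 7) (by norm_num)
      (Or.inl (Cfsg.Agent.S0495.result h168 (ZMod.card 7)))).2 2 3).2 (by norm_num)
    exact hX this.2.2.2
  · exact fun hX => hA 2 3 ⟨by norm_num, by norm_num, by norm_num, hX⟩

end H4.Sd
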