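/-
Solvable groups of order 168 and 5616 and their degree primes; reduction to a simple section.
-/
import Cfsg.Agent.H1.Solvable
import Cfsg.Agent.H1.SylNum
import Cfsg.Agent.H17.Deg
import Cfsg.Agent.H4.SL2Deg
import Cfsg.Agent.H2.FiltG
import Cfsg.Agent.H25.O7920

set_option autoImplicit false
open Subgroup Cfsg

namespace H4.Sd

variable {G : Type*} [Group G] [Finite G]

theorem ito {p : ℕ} (A : Subgroup G) [A.Normal] (hA : A ≤ centralizer (A : Set G))
    (hi : ¬ p ∣ A.index) : p ∉ degreePrimes G := by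
  rintro ⟨-, d, ⟨χ, rfl⟩, hd⟩
  exact hi (hd.trans (H17.Cfsg.IsIrrCharacter.degree_dvd_index_of_comm χ.2 (H4.irr_one_eq χ.2) A
    ⟨⟨fun a b => Subtype.ext (mem_centralizer_iff.1 (hA b.2) _ a.2)⟩⟩))

theorem syl_ab {p : ℕ} [hp : Fact p.Prime] (h1 : p ∣ Nat.card G) (h2 : ¬ p * p ∣ Nat.card G)
    (P : Sylow p G) : (P : Subgroup G) ≤ centralizer ((P : Subgroup G) : Set G) := by
  have := (isCyclic_of_prime_card (H2.sm_sylow_prime h1 h2 P)).isMulCommutative
  exact le_centralizer _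

theorem csol0 [Group.IsSolvable G] {p r : ℕ} (hp : p.Prime) (h1 : p ∣ Nat.card G)
    (h2 : ¬ p * p ∣ Nat.card G) (h4 : ¬ r ^ 3 * r ∣ Nat.card G)
    (h3 : ∀ q a : ℕ, q.Prime → q ^ a ∣ Nat.card G → q ^ a ≡ 1 [MOD p] → a = 0 ∨ (q = r ∧ a = 3))
    (hp' : p ∈ degreePrimes G) (hr' : r ∈ degreePrimes G) : False := by
  have := Fact.mk hp
  obtain ⟨P⟩ : Nonempty (Sylow p G) := inferInstance
  have hab := syl_ab h1 h2 P
  have act : ∀ (q : ℕ) (Q : Subgroup G), q.Prime → q ≠ p → Q.Normal → IsPGroup q Q →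
      Q ≤ centralizer ((P : Subgroup G) : Set G) ∨
        (q = r ∧ (centralizer ((P : Subgroup G) : Set G)).relIndex Q = r ^ 3) := by
    intro q Q hq hne _ hQ
    have := Fact.mk hq
    obtain ⟨k, hk⟩ := hQ.exists_card_eq
    have i1 := H1.relIndex_centralizer_modEq_one (Q := Q) P.2 le_normalizer_of_normal
      (hk ▸ Nat.Coprime.pow_left _ ((Nat.coprime_primes hq hp).2 hne))
    have i2 := relIndex_dvd_card (centralizer ((P : Subgroup G) : Set G)) Q
    obtain ⟨a, -, ha⟩ := (Nat.dvd_prime_pow hq).1 (hk ▸ i2)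
    rw [ha] at i1
    rcases h3 q a hq (ha ▸ i2.trans (card_subgroup_dvd_card Q)) i1 with rfl | ⟨rfl, rfl⟩
    · exact Or.inl (relIndex_eq_one.1 ha)
    · exact Or.inr ⟨rfl, ha⟩
  by_cases hall : ∀ q : Nat.Primes, pCore q G ≤ centralizer ((P : Subgroup G) : Set G)
  · have h5 : (P : Subgroup G) ≤ pCore p G := H1.le_pCore_of_le_fitting P.2
      ((le_centralizer_iff.1 (H1.fitting_eq_iSup_pCore.le.trans (iSup_le hall))).trans
        H1.centralizer_fitting_le)
    have : (P : Subgroup G).Normal := le_antisymm h5 (H1.pCore_le_sylow P) ▸ inferInstance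
    exact ito (P : Subgroup G) hab P.not_dvd_index hp'
  push Not at hall
  obtain ⟨⟨q, hq⟩, hn⟩ := hall
  have hne : q ≠ p := by
    rintro rfl
    exact hn ((H1.pCore_le_sylow P).trans hab)
  obtain ⟨rfl, hR⟩ := (act q _ hq hne inferInstance (H1.isPGroup_pCore q)).resolve_left hn
  have := Fact.mk hq
  set R := pCore q G
  have hb : centralizer ((P : Subgroup G) : Set G) ⊓ R = ⊥ := by
    by_contra h
    have h5 := ((centralizer ((P : Subgroup G) : Set G)).subgroupOf R).card_mul_index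
    rw [← relIndex, hR, ← inf_subgroupOf_right,
      Nat.card_congr (subgroupOfEquivOfLe inf_le_right).toEquiv] at h5
    have h6 := ((H1.isPGroup_pCore (G := G) q).to_le inf_le_right).card_eq_or_dvd.resolve_left
      fun e => h (card_eq_one.1 e)
    exact h4 (((mul_dvd_mul_left _ h6).trans (by rw [mul_comm, h5])).trans
      (card_subgroup_dvd_card R))
  have hZ := H1.inf_centralizer_ne_bot_of_isPGroup (H1.isPGroup_pCore (G := G) q)
    (H1.isPGroup_pCore q) le_normalizer fun e => hn (e.le.trans bot_le)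
  rcases act q (R ⊓ centralizer (R : Set G)) hq hne inferInstance
    ((H1.isPGroup_pCore q).to_le inf_le_left) with h | ⟨-, h⟩
  · exact hZ (le_bot_iff.1 (hb ▸ le_inf h inf_le_left))
  · refine ito (R ⊓ centralizer (R : Set G))
      (inf_le_right.trans (centralizer_le inf_le_left)) (fun h5 => h4 ?_) hr'
    rw [← (R ⊓ centralizer (R : Set G)).card_mul_index]
    exact mul_dvd_mul (h ▸ relIndex_dvd_card _ _) h5

theorem csol [Group.IsSolvable G] {p r : ℕ}
    (h : (Nat.card G = 168 ∧ p = 7 ∧ r = 2) ∨ (Nat.card G = 5616 ∧ p = 13 ∧ r = 3))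
    (hp : p ∈ degreePrimes G) (hr : r ∈ degreePrimes G) : False := by
  have key : ∀ n p r : ℕ, 0 < n → 1 < p → (∀ k < n / p + 1, p * k + 1 ∣ n → k = 0 ∨
      p * k + 1 = r ^ 3 ∨ 2 ∣ p * k + 1 ∧ 3 ∣ p * k + 1) → r.Prime →
      ∀ q a : ℕ, q.Prime → q ^ a ∣ n → q ^ a ≡ 1 [MOD p] → a = 0 ∨ (q = r ∧ a = 3) := by
    intro n p r hn hp h hr q a hq hd hm
    have e : p * (q ^ a / p) + 1 = q ^ a := by
      have := Nat.div_add_mod (q ^ a) p
      rwa [show q ^ a % p = 1 from Eq.trans hm (Nat.mod_eq_of_lt hp)] at this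
    have := h _ (Nat.lt_succ_of_le (Nat.div_le_div_right (Nat.le_of_dvd hn hd))) (e.symm ▸ hd)
    rw [e] at this
    rcases this with h | h | ⟨h1, h2⟩
    · rw [h] at e
      exact Or.inl ((Nat.pow_eq_one.1 e.symm).resolve_left hq.one_lt.ne')
    · obtain rfl : r = q := (Nat.prime_dvd_prime_iff_eq hr hq).1
        (hr.dvd_of_dvd_pow (h ▸ dvd_pow_self r (by norm_num)))
      exact Or.inr ⟨rfl, Nat.pow_right_injective hr.two_le h⟩
    · have a1 := (Nat.prime_dvd_prime_iff_eq Nat.prime_two hq).1 (Nat.prime_two.dvd_of_dvd_pow h1)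
      have a2 := (Nat.prime_dvd_prime_iff_eq Nat.prime_three hq).1
        (Nat.prime_three.dvd_of_dvd_pow h2)
      omega
  rcases h with ⟨h, rfl, rfl⟩ | ⟨h, rfl, rfl⟩ <;>
  exact csol0 hp.1 (by rw [h]; norm_num) (by rw [h]; norm_num) (by rw [h]; norm_num)
    (h ▸ key _ _ _ (by norm_num) (by norm_num) (by decide +kernel) hr.1) hp hr

end H4.Sd
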