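/-
Reduction to a simple section for a prime dividing a character degree.
-/
import Cfsg.Agent.H4.Sd2

set_option autoImplicit false
open Subgroup Cfsg

namespace H4.Sd

variable {G : Type*} [Group G] [Finite G]

theorem redp {p : ℕ} (hp : p.Prime) (h1 : p ∣ Nat.card G) (h2 : ¬ p * p ∣ Nat.card G)
    (h3 : ∀ r a : ℕ, r.Prime → r ^ a ∣ Nat.card G → r ^ a ≡ 1 [MOD p] → a = 0)
    (hd : p ∈ degreePrimes G) : ∃ K : Subgroup G, K.Normal ∧ _root_.commutator K = ⊤ ∧
      IsSimpleGroup (K ⧸ center K) ∧ p ∣ Nat.card (K ⧸ center K) := by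
  have := Fact.mk hp
  obtain ⟨P⟩ : Nonempty (Sylow p G) := inferInstance
  have hP := H2.sm_sylow_prime h1 h2 P
  set K := normalClosure ((P : Subgroup G) : Set G)
  have hPK : (P : Subgroup G) ≤ K := le_normalClosure
  have hKG := card_subgroup_dvd_card K
  have A : ∀ N : Subgroup K, N.Normal → ¬ p ∣ N.index → N = ⊤ := by
    intro N _ hi
    have : K ≤ N.map K.subtype := by
      refine (closure_le _).2 fun x hx => ?_
      have hxK : x ∈ K := subset_closure hx
      obtain ⟨a, ha, hc⟩ := Group.mem_conjugatesOfSet_iff.1 hx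
      have hx1 : orderOf (⟨x, hxK⟩ : K) ∣ p := by
        obtain ⟨c, rfl⟩ := isConj_iff.1 hc
        rw [orderOf_dvd_iff_pow_eq_one, Subtype.ext_iff, coe_pow, conj_pow,
          orderOf_dvd_iff_pow_eq_one.1 (hP ▸ Subgroup.orderOf_dvd_natCard _ ha)]
        simp
      refine ⟨⟨x, hxK⟩, ?_, rfl⟩
      have hcop : (orderOf (⟨x, hxK⟩ : K)).Coprime N.index :=
        ((hp.coprime_iff_not_dvd).2 hi).coprime_dvd_left hx1
      obtain ⟨m, hm⟩ := exists_pow_eq_self_of_coprime hcop.symm
      rw [← hm]
      exact N.pow_mem (N.pow_index_mem _) _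
    exact eq_top_iff.2 fun x _ => by
      obtain ⟨y, hy, e⟩ := this x.2
      rwa [← (Subtype.ext e : y = x)]
  obtain ⟨S⟩ : Nonempty (Sylow p K) := inferInstance
  have iS : ∀ N : Subgroup K, (S : Subgroup K) ≤ N → ¬ p ∣ N.index := fun N h h' =>
    S.not_dvd_index (h'.trans (index_dvd_of_le h))
  have B : ∀ N : Subgroup K, N.Normal → N ≠ ⊤ → N ≤ center K := by
    intro N _ hN
    have hi : p ∣ N.index := by_contra fun h => hN (A N inferInstance h)
    have cop : (Nat.card N).Coprime p := (hp.coprime_iff_not_dvd.2 fun h =>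
      h2 (((mul_dvd_mul h hi).trans N.card_mul_index.dvd).trans hKG)).symm
    have : (centralizer ((S : Subgroup K) : Set K)).relIndex N = 1 := by
      by_contra h
      obtain ⟨r, hr, hd⟩ := Nat.exists_prime_and_dvd h
      have := Fact.mk hr
      exact H25.syl_cent S.2 le_normalizer_of_normal cop
        (fun a h1 h2 => h3 r a hr ((h1.trans (card_subgroup_dvd_card N)).trans hKG) h2) hd
    exact centralizer_eq_top_iff_subset.1
      (A _ inferInstance (iS _ (le_centralizer_iff.1 (relIndex_eq_one.1 this))))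
  have C : p ∣ (center K).index := by
    by_contra h
    have h := A _ inferInstance h
    refine ito K (fun x hx => mem_centralizer_iff.2 fun y hy => ?_)
      (fun h => P.not_dvd_index (h.trans (index_dvd_of_le hPK))) hd
    exact congrArg Subtype.val (mem_center_iff.1 (h.ge (mem_top (⟨x, hx⟩ : K))) ⟨y, hy⟩)
  refine ⟨K, inferInstance, ?_, ?_, C⟩
  · by_contra h
    have h5 : _root_.commutator K ≤ centralizer ((S : Subgroup K) : Set K) :=
      (B _ inferInstance h).trans (center_le_centralizer _)
    have h6 := A _ (Normal.of_commutator_le _ h5) (iS _ (syl_ab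
      (hP ▸ card_dvd_of_le hPK) (fun h => h2 (h.trans hKG)) S))
    exact iS _ (centralizer_eq_top_iff_subset.1 h6) C
  · have : Nontrivial (K ⧸ center K) := Finite.one_lt_card_iff_nontrivial.1
      (hp.one_lt.trans_le (Nat.le_of_dvd Nat.card_pos C))
    refine ⟨fun N hN => ?_⟩
    have hs := QuotientGroup.mk'_surjective (center K)
    by_cases h : N.comap (QuotientGroup.mk' (center K)) = ⊤
    · right
      rw [← map_comap_eq_self_of_surjective hs N, h, map_top_of_surjective _ hs]
    · left
      rw [← map_comap_eq_self_of_surjective hs N, Subgroup.map_eq_bot_iff, QuotientGroup.ker_mk']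
      exact B _ inferInstance h

end H4.Sd
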