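import Cfsg.Agent.H4.Tor5
import Cfsg.Agent.H6.Dihedral

/-!
The elements generating a solvable subgroup with a given element of a minimal simple `PSL₂(q)`.
-/

set_option autoImplicit false

namespace H4

open Matrix MulAction
open scoped MatrixGroups LinearAlgebra.Projectivization commutatorElement

section Gen

variable {G : Type*} [Group G]

theorem solv_two_inv {x y : G} (hx : x * x = 1) (hy : y * y = 1) :
    Group.IsSolvable (Subgroup.closure {x, y}) := by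
  have h1 : x * (x * y) * x⁻¹ = (x * y)⁻¹ := by
    rw [← mul_assoc, hx, one_mul, _root_.mul_inv_rev, inv_eq_of_mul_eq_one_right hy]
  have h2 := fun d => H6.mem_closure_inverts' (d := d) (hx ▸ one_mem (Subgroup.zpowers (x * y))) h1
  have h3 : ∀ k : ℤ, x * (x * y) ^ k = (x * y) ^ (-k) * x := fun k => by
    rw [← mul_inv_eq_iff_eq_mul, ← conj_zpow, h1, _root_.inv_zpow']
  refine isSolvable_of_le (K := Subgroup.closure {x * y, x}) ((Subgroup.closure_le _).2 ?_)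
    (isSolvable_of_commutator_mem (U := Subgroup.zpowers (x * y)) (fun a ha b hb => ?_)
      (Group.isSolvable_of_comm fun a b => mul_comm' a b))
  · rintro _ (rfl | rfl)
    · exact Subgroup.subset_closure (Or.inr rfl)
    · exact (h2 _).2 ⟨-1, Or.inr (by
        rw [← h3, zpow_one, ← mul_assoc, hx, one_mul])⟩
  · have h4 : ∀ c ∈ Subgroup.closure {x * y, x}, ∀ k : ℤ,
        c * (x * y) ^ k * c⁻¹ ∈ Subgroup.zpowers (x * y) := fun c hc k => by
      obtain ⟨l, rfl | rfl⟩ := (h2 c).1 hc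
      · exact ⟨k, by group⟩
      · exact ⟨-k, by rw [mul_assoc _ x, h3]; group⟩
    obtain ⟨k, rfl | rfl⟩ := (h2 a).1 ha
    · have := mul_mem (⟨k, rfl⟩ : (x * y) ^ k ∈ Subgroup.zpowers _) (h4 b hb (-k))
      rwa [show (x * y) ^ k * (b * (x * y) ^ (-k) * b⁻¹) = ⁅(x * y) ^ k, b⁆ by
        rw [commutatorElement_def]; group] at this
    obtain ⟨l, rfl | rfl⟩ := (h2 b).1 hb
    · have := mul_mem (h4 _ ha l) (⟨-l, rfl⟩ : (x * y) ^ (-l) ∈ Subgroup.zpowers _)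
      rwa [show (x * y) ^ k * x * (x * y) ^ l * ((x * y) ^ k * x)⁻¹ * (x * y) ^ (-l) =
        ⁅(x * y) ^ k * x, (x * y) ^ l⁆ by rw [commutatorElement_def]; group] at this
    · refine ⟨k - l + (k - l), ?_⟩
      have h5 : x⁻¹ = x := inv_eq_of_mul_eq_one_right hx
      calc (x * y) ^ (k - l + (k - l)) = (x * y) ^ k * ((x * y) ^ (-l) * x) * x⁻¹ *
            ((x * y) ^ (- -k) * x) * x⁻¹ * (x * y) ^ (-l) := by group
        _ = _ := by
          rw [← h3, ← h3, commutatorElement_def, _root_.mul_inv_rev, _root_.mul_inv_rev, h5]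
          rw [show (x * y) ^ k * (x * (x * y) ^ l) * x * (x * (x * y) ^ (-k)) * x * (x * y) ^ (-l) =
            (x * y) ^ k * x * ((x * y) ^ l * (x * x)) * (x * y) ^ (-k) * x * (x * y) ^ (-l) by group,
            show (x * y) ^ k * x * ((x * y) ^ l * x) * (x * ((x * y) ^ k)⁻¹) * (x * ((x * y) ^ l)⁻¹) =
            (x * y) ^ k * x * ((x * y) ^ l * (x * x)) * (x * y) ^ (-k) * x * (x * y) ^ (-l) by group]

theorem closure_pair_le {x y z : G} (h : z ∈ Subgroup.closure {x, y}) :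
    Subgroup.closure {x, z} ≤ Subgroup.closure {x, y} :=
  (Subgroup.closure_le _).2 (by
    rintro _ (rfl | rfl)
    exacts [Subgroup.subset_closure (Or.inl rfl), h])

theorem comm_of_sq {x y : G} (hx : x * x = 1) (hy : y * y = 1) (h : x * y * (x * y) = 1) :
    y * x = x * y := by
  rw [← inv_eq_of_mul_eq_one_right h, _root_.mul_inv_rev, inv_eq_of_mul_eq_one_right hx,
    inv_eq_of_mul_eq_one_right hy]

theorem ncard_rigid [Finite G] (R : G → G → Prop)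
    (h1 : ∀ a b g, R a b → R (g * a * g⁻¹) (g * b * g⁻¹))
    (h2 : ∀ a b a' b', R a b → R a' b' → ∃ g, g * a * g⁻¹ = a' ∧ g * b * g⁻¹ = b')
    (h3 : ∀ a b g, R a b → g * a = a * g → g * b = b * g → g = 1) {a b : G} (h : R a b) :
    {b' | R a b'}.ncard = Nat.card (Subgroup.centralizer ({a} : Set G)) := by
  rw [card_eq_of_fibers (fun c : Subgroup.centralizer ({a} : Set G) => c.1 * b * c.1⁻¹) ⊥
    fun c d => ?_, Subgroup.card_bot, one_mul]
  · congr 1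
    ext b'
    constructor
    · intro hb
      obtain ⟨g, h4, h5⟩ := h2 _ _ _ _ h hb
      exact ⟨⟨g, Subgroup.mem_centralizer_singleton_iff.2 (mul_inv_eq_iff_eq_mul.1 h4)⟩, h5⟩
    · rintro ⟨c, rfl⟩
      have := h1 a b c h
      rwa [Subgroup.mem_centralizer_singleton_iff.1 c.2, mul_inv_cancel_right] at this
  · rw [Subgroup.mem_bot]
    refine ⟨fun h4 => Subtype.ext (h3 a b _ h (Subgroup.mem_centralizer_singleton_iff.1 (c⁻¹ * d).2) ?_),
      fun h4 => by rw [inv_mul_eq_one.1 h4]⟩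
    calc c.1⁻¹ * d.1 * b = c.1⁻¹ * (d.1 * b * d.1⁻¹) * d.1 := by group
      _ = b * (c.1⁻¹ * d.1) := by rw [← h4]; group

theorem ncard_mul_left (x : G) (S : Set G) : {y | x * y ∈ S}.ncard = S.ncard :=
  Set.ncard_preimage_of_injective_subset_range (f := (x * ·)) (mul_right_injective x)
    fun y _ => ⟨x⁻¹ * y, mul_inv_cancel_left x y⟩

set_option synthInstance.maxSize 2000 in
theorem a4_facts' (a b : Equiv.Perm (Fin 4)) : Equiv.Perm.sign a = 1 → Equiv.Perm.sign b = 1 →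
    (a * a = 1 → b * b = 1 ∨ (b ^ 3 = 1 ∧ (a * b) ^ 3 = 1)) ∧
    (a ≠ 1 → a ^ 3 = 1 → b = 1 ∨ b = a ∨ b = a * a ∨ (b ≠ 1 ∧ b * b = 1 ∧ (b * a) ^ 3 = 1) ∨
      (a * b ≠ 1 ∧ a * b * (a * b) = 1 ∧ (a * b * a) ^ 3 = 1) ∨
      (a * a * b ≠ 1 ∧ a * a * b * (a * a * b) = 1 ∧ (a * a * b * a) ^ 3 = 1)) := by
  revert a b; decide +kernel

theorem a4_facts {H : Subgroup G} (h : Nonempty (H ≃* alternatingGroup (Fin 4))) {a b : G}
    (ha : a ∈ H) (hb : b ∈ H) : (a * a = 1 ∨ a ^ 3 = 1) ∧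
    (a * a = 1 → b * b = 1 ∨ (b ^ 3 = 1 ∧ (a * b) ^ 3 = 1)) ∧
    (a ≠ 1 → a ^ 3 = 1 → b = 1 ∨ b = a ∨ b = a * a ∨ (b ≠ 1 ∧ b * b = 1 ∧ (b * a) ^ 3 = 1) ∨
      (a * b ≠ 1 ∧ a * b * (a * b) = 1 ∧ (a * b * a) ^ 3 = 1) ∨
      (a * a * b ≠ 1 ∧ a * a * b * (a * a * b) = 1 ∧ (a * a * b * a) ^ 3 = 1)) := by
  obtain ⟨e⟩ := h
  let φ : H →* Equiv.Perm (Fin 4) := (alternatingGroup (Fin 4)).subtype.comp e.toMonoidHom
  have hφ : Function.Injective φ := (Subgroup.subtype_injective _).comp e.injective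
  have h1 := a4_facts' (φ ⟨a, ha⟩) (φ ⟨b, hb⟩) (e _).2 (e _).2
  have h2 := a4_pow' (φ ⟨a, ha⟩) (e _).2
  rw [sq] at h2
  simp only [← map_mul, ← map_pow, ne_eq, map_eq_one_iff φ hφ, hφ.eq_iff, Subtype.ext_iff,
    Subgroup.coe_mul, Subgroup.coe_pow, Subgroup.coe_one] at h1 h2
  exact ⟨h2, h1⟩

end Gen

variable {F : Type*} [Field F]

/-- The elements of `PSL₂` generating a solvable group with `x`. -/
def Sol (x : PGL(2, F)) : Set PGL(2, F) :=
  {y | y ∈ pL F ∧ Group.IsSolvable (Subgroup.closure {x, y})}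

theorem card_sol (x : PSL(2, F)) :
    Nat.card {y : PSL(2, F) // Group.IsSolvable (Subgroup.closure ({x, y} : Set PSL(2, F)))} =
      (Sol (psl2pgl x)).ncard := by
  have k : ∀ y : PSL(2, F), Group.IsSolvable (Subgroup.closure ({x, y} : Set PSL(2, F))) ↔
      Group.IsSolvable (Subgroup.closure {psl2pgl x, psl2pgl y}) := fun y => by
    have e := nonempty_map_psl (Subgroup.closure ({x, y} : Set PSL(2, F)))
    rw [MonoidHom.map_closure, Set.image_pair] at e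
    exact ⟨isSolvable_of_equiv ⟨e.some.symm⟩, isSolvable_of_equiv e⟩
  rw [show Sol (psl2pgl x) = psl2pgl '' {y | Group.IsSolvable (Subgroup.closure ({x, y} : Set PSL(2, F)))}
    from ?_, Set.ncard_image_of_injective _ psl2pgl_injective]
  · rfl
  · ext y
    constructor
    · rintro ⟨⟨y, rfl⟩, h⟩
      exact ⟨y, (k y).2 h, rfl⟩
    · rintro ⟨y, h, rfl⟩
      exact ⟨⟨y, rfl⟩, (k y).1 h⟩

theorem mem_sol {x y : PGL(2, F)} {K : Subgroup PGL(2, F)} (hK : Group.IsSolvable K) (hx : x ∈ K)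
    (hy : y ∈ K) (h : y ∈ pL F) : y ∈ Sol x :=
  ⟨h, isSolvable_of_le ((Subgroup.closure_le _).2 (by rintro _ (rfl | rfl); exacts [hx, hy])) hK⟩

theorem mem_sol_of_mul {x y z : PGL(2, F)} (hx : x ∈ pL F) (hz : z ∈ Subgroup.zpowers x)
    (h : z * y ∈ Sol x) : y ∈ Sol x := by
  refine ⟨(mul_mem_cancel_left (Subgroup.zpowers_le_of_mem hx hz)).1 h.1,
    isSolvable_of_le (closure_pair_le ?_) h.2⟩
  have h1 : x ∈ Subgroup.closure {x, z * y} := Subgroup.subset_closure (Or.inl rfl)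
  exact (mul_mem_cancel_left (Subgroup.zpowers_le_of_mem h1 hz)).1
    (Subgroup.subset_closure (Or.inr rfl))

/-- The solvable two-generator subgroups of `PSL₂(F)` are reducible, dihedral or `A₄`. -/
def MS (F : Type*) [Field F] (A : Prop) : Prop :=
  ∀ x ∈ pL F, ∀ y ∈ Sol x, (∃ a : ℙ F (Fin 2 → F), x • a = a ∧ y • a = a) ∨
    (∃ g : GL (Fin 2) F, disc g.1 ≠ 0 ∧ x ∈ pN g ∧ y ∈ pN g) ∨
    (A ∧ ∃ H : Subgroup PGL(2, F), x ∈ H ∧ y ∈ H ∧ Nonempty (H ≃* alternatingGroup (Fin 4)))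

theorem ms_of [Fintype F] {p r : ℕ} [Fact p.Prime] [CharP F p] (hr : r.Prime)
    (hF : Fintype.card F = p ^ r) (h : p = 2 ∨ (p = 3 ∧ Odd r)) : MS F (p = 3) := by
  intro x hx y hy
  have a1 : x ∈ Subgroup.closure {x, y} := Subgroup.subset_closure (Or.inl rfl)
  have a2 : y ∈ Subgroup.closure {x, y} := Subgroup.subset_closure (Or.inr rfl)
  have a3 : Subgroup.closure {x, y} ≤ pL F :=
    (Subgroup.closure_le _).2 (by rintro _ (rfl | rfl); exacts [hx, hy.1])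
  rcases dickson_pgl p (Subgroup.closure {x, y}) with ⟨a, h1⟩ | ⟨g, hg, h1⟩ | ⟨h1, h2⟩ | ⟨-, h1⟩ |
    ⟨E, P, hE, h1⟩
  · exact Or.inl ⟨a, h1 a1, h1 a2⟩
  · exact Or.inr (Or.inl ⟨g, hg, h1 a1, h1 a2⟩)
  · refine (h1 ?_).elim
    rcases h2 with h2 | h2 | h2 <;> rw [card_of_equiv h2] <;> simp only [card_a4, card_s4, card_a5] <;>
      rcases h with rfl | ⟨rfl, -⟩ <;> norm_num
  · exact (not_isSolvable_a5 (isSolvable_of_equiv ⟨h1.some.symm⟩ hy.2)).elim
  · obtain ⟨E₀, h0⟩ := exists_prime_subfield (F := F) p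
    have h2 : cj (pslS E) P ≤ Subgroup.closure {x, y} := by
      rcases h1 with h1 | h1 <;> rw [h1]
      exact cj_mono (pslS_le_pglS E) P
    have h3 : Nat.card E < 4 := by
      by_contra h3
      exact not_isSolvable_pslS (not_lt.1 h3) (isSolvable_of_equiv ⟨(nonempty_map_conj _ P).some.symm⟩
        (isSolvable_of_le h2 hy.2))
    have h4 : Nat.card F = Nat.card E₀ ^ r := by rw [h0, Nat.card_eq_fintype_card, hF]
    have h5 : 2 ^ 2 ≤ p ^ r := (Nat.pow_le_pow_left (Fact.out : p.Prime).two_le _).trans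
      (Nat.pow_le_pow_right (Fact.out : p.Prime).pos hr.two_le)
    obtain rfl := (subfield_eq_or hr h4 (le_prime_subfield p h0 E)).resolve_right fun h => by
      rw [h, card_subfield_top, Nat.card_eq_fintype_card] at h3; omega
    obtain ⟨rfl, h6⟩ := h.resolve_left (by omega)
    refine Or.inr (Or.inr ⟨rfl, _, a1, a2, ?_⟩)
    rcases h1 with h1 | h1
    · rw [h1]; exact equiv_cj (pslS_equiv_a4 h0) P
    · rw [h1] at a3
      exact absurd ((pglS_le_pL_iff (two_ne_zero_of_char 3 (by norm_num)) (by rw [h0, hF])).1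
        (cj_le_pL_iff.1 a3)) (Nat.not_even_iff_odd.2 h6)

theorem pN_eq_of_sq [Finite F] {u g : GL (Fin 2) F} (hg : disc g.1 ≠ 0) (h : pmk u ∈ pN g)
    (h1 : pmk u * pmk u ≠ 1) : pN u = pN g :=
  pN_eq_of_mem hg (fun h2 => h1 (by rw [pmk_eq_one_iff.2 h2, one_mul])) ((dih_pN hg).mem_of_sq h h1)

theorem not_fix_ell {g : GL (Fin 2) F} (h : Ell g.1) (a : ℙ F (Fin 2 → F)) : pmk g • a ≠ a := by
  induction a using Projectivization.ind with | _ v hv =>
  intro hx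
  obtain ⟨c, hc⟩ := (pmk_fix_iff hv).1 hx
  exact ell_iff.1 h c v hv hc

theorem sol_ell [Fintype F] {A : Prop} (hm : MS F A) {u : SL(2, F)} (h : Ell u.1)
    (h1 : smk u * smk u ≠ 1) (h3 : A → smk u ^ 3 ≠ 1) :
    Nat.gcd 2 (Fintype.card F - 1) * (Sol (smk u)).ncard = 2 * (Fintype.card F + 1) := by
  have hg : disc (sgl u).1 ≠ 0 := h.disc_ne_zero
  rw [show Sol (smk u) = (pN (sgl u) ⊓ pL F : Subgroup _) from ?_, ← Nat.card_coe_set_eq,
    SetLike.coe_sort_coe, card_pN_pL hg, mul_left_comm, card_pT_pL hg, card_pT_ell h]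
  refine Set.ext fun y => ⟨fun hy => ⟨?_, hy.1⟩, fun hy => mem_sol (dih_pN hg).isSolvable
    (pT_le_pN _ (pmk_mem_pT_self _)) hy.1 hy.2⟩
  rcases hm _ (smk_mem_pL u) y hy with ⟨a, h4, -⟩ | ⟨g, h4, h5, h6⟩ | ⟨hA, H, h4, h5, h6⟩
  · exact (not_fix_ell (g := sgl u) h a h4).elim
  · rwa [pN_eq_of_sq (u := sgl u) h4 h5 h1]
  · exact ((a4_facts h6 h4 h5).1.elim h1 (h3 hA)).elim

theorem sp_points {g : GL (Fin 2) F} {a b : F} (h : Sp g.1 a b) :
    ∃ x y : ℙ F (Fin 2 → F), (∀ z, pmk g • z = z ↔ z = x ∨ z = y) ∧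
      stabilizer PGL(2, F) x ⊓ stabilizer PGL(2, F) y = pT g ∧
      ∀ z : ℙ F (Fin 2 → F), pmk g • z = z → stabilizer PGL(2, F) z ⊓ pN g ≤ pT g := by
  obtain ⟨x, y, hxy, h1⟩ := Set.ncard_eq_two.1 (card_fix_sp h)
  have h2 : ∀ z, pmk g • z = z ↔ z = x ∨ z = y := fun z => Set.ext_iff.1 h1 z
  have h3 : ∀ z : ℙ F (Fin 2 → F), pmk g • z = z → pT g ≤ stabilizer _ z := fun z hz c hc => by
    induction z using Projectivization.ind with | _ v hv =>
    obtain ⟨c, rfl⟩ := ProjGenLinGroup.mk_surjective c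
    obtain ⟨s, t, h4⟩ := (comm_iff h.not_sc).1 (pmk_mem_pT.1 hc)
    obtain ⟨d, hd⟩ := (pmk_fix_iff hv).1 hz
    exact (pmk_fix_iff hv).2 ⟨s + t * d, by
      rw [h4, add_mulVec, smul_mulVec, smul_mulVec, one_mulVec, hd, smul_smul, add_smul]⟩
  refine ⟨x, y, h2, le_antisymm (fun c hc => ?_)
    (le_inf (h3 _ ((h2 _).2 (Or.inl rfl))) (h3 _ ((h2 _).2 (Or.inr rfl)))), fun z hz c hc => ?_⟩
  · have h4 := (h2 x).2 (Or.inl rfl)
    have h5 := (h2 y).2 (Or.inr rfl)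
    induction x using Projectivization.ind with | _ v hv =>
    induction y using Projectivization.ind with | _ w hw =>
    obtain ⟨c, rfl⟩ := ProjGenLinGroup.mk_surjective c
    obtain ⟨_, a1⟩ := (pmk_fix_iff hv).1 h4
    obtain ⟨_, a2⟩ := (pmk_fix_iff hw).1 h5
    obtain ⟨_, a3⟩ := (pmk_fix_iff hv).1 hc.1
    obtain ⟨_, a4⟩ := (pmk_fix_iff hw).1 hc.2
    exact pmk_mem_pT.2 (comm_of_eig (mt (mk_eq_mk_iff_det2 hv hw).2 hxy) a1 a2 a3 a4)
  · induction z using Projectivization.ind with | _ v hv =>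
    obtain ⟨c, rfl⟩ := ProjGenLinGroup.mk_surjective c
    refine pmk_mem_pT.2 ((pmk_mem_pN.1 hc.2).resolve_right fun h4 => ?_).symm
    obtain ⟨d, a1⟩ := (pmk_fix_iff hv).1 hz
    obtain ⟨e, a2⟩ := (pmk_fix_iff hv).1 hc.1
    have h5 := congrArg (· *ᵥ v) h4
    simp only [← mulVec_mulVec, a1, a2, mulVec_smul, adj_eq, sub_mulVec, smul_mulVec, one_mulVec,
      smul_smul, ← sub_smul] at h5
    have h6 := smul_left_injective F hv h5
    have h7 : e ≠ 0 := by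
      rintro rfl
      exact hv (gl_mulVec_injective c (a2.trans (by simp)))
    have h8 : g.1.trace = d + d := mul_left_cancel₀ h7 (by linear_combination -h6)
    have h9 := h.2.1
    rcases h.eq_or (exists_eig_iff.1 ⟨v, hv, a1⟩) with rfl | rfl
    · exact h.1 (by linear_combination h9 - h8)
    · exact h.1 (by linear_combination h8 - h9)

theorem sol_sp [Fintype F] {A : Prop} (hm : MS F A) {u : SL(2, F)} {a b : F} (h : Sp u.1 a b)
    (h1 : smk u * smk u ≠ 1) (h3 : A → smk u ^ 3 ≠ 1) :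
    Nat.gcd 2 (Fintype.card F - 1) * (Sol (smk u)).ncard =
      2 * (Fintype.card F * (Fintype.card F - 1)) := by
  have hg : disc (sgl u).1 ≠ 0 := h.disc_ne_zero
  obtain ⟨x, y, h4, h5, h6⟩ := sp_points (g := sgl u) h
  have fx := (h4 x).2 (Or.inl rfl)
  have fy := (h4 y).2 (Or.inr rfl)
  have e : Sol (smk u) = (((stabilizer PGL(2, F) x ⊓ pL F : Subgroup _) : Set PGL(2, F)) ∪
      (stabilizer PGL(2, F) y ⊓ pL F : Subgroup _)) ∪ (pN (sgl u) ⊓ pL F : Subgroup _) := by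
    refine Set.ext fun z => ⟨fun hz => ?_, ?_⟩
    · rcases hm _ (smk_mem_pL u) z hz with ⟨c, h7, h8⟩ | ⟨g, h7, h8, h9⟩ | ⟨hA, H, h7, h8, h9⟩
      · rcases (h4 c).1 h7 with rfl | rfl
        exacts [Or.inl (Or.inl ⟨h8, hz.1⟩), Or.inl (Or.inr ⟨h8, hz.1⟩)]
      · exact Or.inr ⟨by rwa [pN_eq_of_sq (u := sgl u) h7 h8 h1], hz.1⟩
      · exact ((a4_facts h9 h7 h8).1.elim h1 (h3 hA)).elim
    · rintro ((hz | hz) | hz)
      · exact mem_sol (isSolvable_stab x) fx hz.1 hz.2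
      · exact mem_sol (isSolvable_stab y) fy hz.1 hz.2
      · exact mem_sol (dih_pN hg).isSolvable (pT_le_pN _ (pmk_mem_pT_self _)) hz.1 hz.2
  have e1 : ((stabilizer PGL(2, F) x ⊓ pL F : Subgroup _) : Set PGL(2, F)) ∩
      (stabilizer PGL(2, F) y ⊓ pL F : Subgroup _) = (pT (sgl u) ⊓ pL F : Subgroup _) := by
    rw [← Subgroup.coe_inf, ← h5, ← inf_inf_distrib_right]
  have e2 : (((stabilizer PGL(2, F) x ⊓ pL F : Subgroup _) : Set PGL(2, F)) ∪
      (stabilizer PGL(2, F) y ⊓ pL F : Subgroup _)) ∩ (pN (sgl u) ⊓ pL F : Subgroup _) =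
      (pT (sgl u) ⊓ pL F : Subgroup _) := by
    refine Set.ext fun z => ⟨?_, fun hz => ⟨Or.inl ⟨(h5.ge hz.1).1, hz.2⟩, pT_le_pN _ hz.1, hz.2⟩⟩
    rintro ⟨h7 | h7, h8⟩
    exacts [⟨h6 x fx ⟨h7.1, h8.1⟩, h8.2⟩, ⟨h6 y fy ⟨h7.1, h8.1⟩, h8.2⟩]
  have c1 := Set.ncard_union_add_ncard_inter ((stabilizer PGL(2, F) x ⊓ pL F : Subgroup _) : Set PGL(2, F))
    (stabilizer PGL(2, F) y ⊓ pL F : Subgroup _)
  have c2 := Set.ncard_union_add_ncard_inter (((stabilizer PGL(2, F) x ⊓ pL F : Subgroup _) : Set PGL(2, F)) ∪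
      (stabilizer PGL(2, F) y ⊓ pL F : Subgroup _)) (pN (sgl u) ⊓ pL F : Subgroup _)
  rw [e1] at c1
  rw [e2, ← e] at c2
  simp only [← Nat.card_coe_set_eq (s := SetLike.coe _), SetLike.coe_sort_coe] at c1 c2
  rw [card_pN_pL hg] at c2
  rw [show (Sol (smk u)).ncard = Nat.card (stabilizer PGL(2, F) x ⊓ pL F : Subgroup _) +
    Nat.card (stabilizer PGL(2, F) y ⊓ pL F : Subgroup _) by omega, mul_add, card_stab_pL,
    card_stab_pL, two_mul]

/-- The involutions of `PSL₂` not commuting with `x`. -/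
def Jn (x : PGL(2, F)) : Set PGL(2, F) :=
  {y | y ∈ pL F ∧ orderOf y = 2} \ Subgroup.centralizer {x}

theorem mem_Jn {x y : PGL(2, F)} : y ∈ Jn x ↔ y ∈ pL F ∧ y * y = 1 ∧ y * x ≠ x * y :=
  ⟨fun h => ⟨h.1.1, sq_of_ord2 h.1.2, fun h1 => h.2 (Subgroup.mem_centralizer_singleton_iff.2 h1)⟩,
    fun h => ⟨⟨h.1, orderOf_eq_prime ((sq y).trans h.2.1) fun h1 => h.2.2 (by rw [h1, one_mul, mul_one])⟩,
      fun h1 => h.2.2 (Subgroup.mem_centralizer_singleton_iff.1 h1)⟩⟩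

theorem Jn_sub {x : PGL(2, F)} (h : x * x = 1) : Jn x ⊆ Sol x := fun _ hy =>
  ⟨(mem_Jn.1 hy).1, solv_two_inv h (mem_Jn.1 hy).2.1⟩

theorem Jn_cases [Finite F] {x y : PGL(2, F)} (hx : x ∈ pL F) (hy : y ∈ pL F) {g : GL (Fin 2) F}
    (hg : disc g.1 ≠ 0) (h1 : x ∈ pN g) (h2 : y ∈ pN g) (h3 : y * x ≠ x * y) :
    y ∈ Jn x ∨ x * y ∈ Jn x := by
  by_cases h4 : y ∈ pT g
  · have h5 : x ∉ pT g := fun h5 => h3 ((dih_pN hg).comm h4 h5)
    refine Or.inr (mem_Jn.2 ⟨mul_mem hx hy, (dih_pN hg).sq _ (mul_mem h1 h2)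
      fun h6 => h5 ((mul_mem_cancel_right h4).1 h6), fun h6 => h3 ?_⟩)
    rwa [mul_assoc, mul_right_inj] at h6
  · exact Or.inl (mem_Jn.2 ⟨hy, (dih_pN hg).sq _ h2 h4, h3⟩)

theorem ncard_Jn [Finite F] {x : PGL(2, F)} (h : x * x = 1) {B : Set PGL(2, F)}
    (h1 : ∀ y ∈ B, y ∉ Jn x) (h2 : ∀ y ∈ B, x * y ∉ Jn x) :
    (B ∪ Jn x ∪ {y | x * y ∈ Jn x}).ncard = B.ncard + 2 * (Jn x).ncard := by
  rw [Set.ncard_union_eq (Set.disjoint_left.2 ?_), Set.ncard_union_eq (Set.disjoint_left.2 h1),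
    ncard_mul_left, two_mul, add_assoc]
  rintro y (hy | hy) h3
  · exact h2 y hy h3
  · exact (mem_Jn.1 hy).2.2 (comm_of_sq h (mem_Jn.1 hy).2.1 (mem_Jn.1 h3).2.1)

theorem sol_two [Fintype F] (h2 : (2 : F) = 0) {A : Prop} (hm : MS F A) (hA : ¬ A)
    {x : PGL(2, F)} (hx : orderOf x = 2) :
    (Sol x).ncard = 3 * Fintype.card F * (Fintype.card F - 1) := by
  have : CharP F 2 := CharTwo.of_one_ne_zero_of_two_eq_zero one_ne_zero h2
  have hL : ∀ y, y ∈ pL F := fun y => (pL_eq_top h2).ge (Subgroup.mem_top y)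
  have hx1 : x ≠ 1 := fun h => by rw [h, orderOf_one] at hx; omega
  have hx2 := sq_of_ord2 hx
  obtain ⟨u, v, rfl, hv, h3⟩ := exists_unip 2 hx1 (k := 1) ((sq x).trans hx2)
  have h4 : smk u • Projectivization.mk F v hv = Projectivization.mk F v hv :=
    (pmk_fix_iff (g := sgl u) hv).2 ⟨1, by rw [one_smul]; exact h3⟩
  have h5 := fun y => fix_unique rfl hx1 hv h3 (y := y)
  generalize Projectivization.mk F v hv = a at h4 h5
  have k1 : ∀ y, y * smk u = smk u * y → y • a = a := fun y h =>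
    h5 _ (by rw [← mul_smul, ← h, mul_smul, h4])
  have k2 : ∀ y : PGL(2, F), ∀ k, y ^ 2 ^ k = 1 → y * y = 1 := fun y k h => by
    by_cases h1 : y = 1
    · rw [h1, one_mul]
    obtain ⟨w, rfl⟩ := mem_pL.1 (hL y)
    refine pmk_sq_eq_one (g := sgl w) ?_
    have := disc_eq_zero_of_pow 2 (A := w.1) (k := k) (by
      rw [← sl_coe_pow, ← smk_eq_one_iff, map_pow, h])
    rw [disc, show (4 : F) = 2 * 2 by norm_num, h2, zero_mul, zero_mul, sub_zero] at this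
    exact mul_self_eq_zero.1 this
  have k3 : ∀ y, y • a = a → y ∉ Jn (smk u) := fun y h1 h6 => by
    obtain ⟨h7, h8, h9⟩ := mem_Jn.1 h6
    obtain ⟨y, rfl⟩ := mem_pL.1 h7
    obtain ⟨k, hk⟩ := ((pslU 2 a).mul_mem (x := (u : PSL(2, F))) (y := (y : PSL(2, F)))
      ⟨h4, 1, psl2pgl_injective (by rw [map_pow, map_one]; exact (sq _).trans hx2)⟩
      ⟨h1, 1, psl2pgl_injective (by rw [map_pow, map_one]; exact (sq _).trans h8)⟩).2
    exact h9 (comm_of_sq hx2 h8 (k2 _ k (by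
      have := congrArg psl2pgl hk
      rwa [map_pow, map_mul, map_one] at this)))
  have e : Sol (smk u) = (stabilizer PGL(2, F) a : Set PGL(2, F)) ∪ Jn (smk u) ∪
      {y | smk u * y ∈ Jn (smk u)} := by
    refine Set.ext fun y => ⟨fun hy => ?_, ?_⟩
    · by_cases h6 : y * smk u = smk u * y
      · exact Or.inl (Or.inl (k1 y h6))
      rcases hm _ (hL _) y hy with ⟨c, h7, h8⟩ | ⟨g, h7, h8, h9⟩ | ⟨h7, -⟩
      · exact Or.inl (Or.inl (h5 c h7 ▸ h8))
      · exact (Jn_cases (hL _) (hL _) h7 h8 h9 h6).imp_left Or.inr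
      · exact (hA h7).elim
    · rintro ((hy | hy) | hy)
      · exact mem_sol (isSolvable_stab a) h4 hy (hL _)
      · exact Jn_sub hx2 hy
      · exact mem_sol_of_mul (hL _) (Subgroup.mem_zpowers _) (Jn_sub hx2 hy)
  have hu : Un u.1 1 := sl_un_of_pow 2 (fun h => hx1 (by rw [h, map_one])) (k := 1) (by
    rcases sl_sc_iff.1 (smk_eq_one_iff.1 ((map_pow smk u _).trans ((sq _).trans hx2))) with h | h
    exacts [h, h.trans (sl_neg_one_eq_one h2)])
  have c1 : Nat.card (Subgroup.centralizer {smk u}) = Fintype.card F := by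
    rw [cent_eq_pT (g := sgl u) (y := smk u) hu.1 (pmk_mem_pT_self _) hx1 (Or.inl h2), card_pT_un hu]
  have c2 : {y | y ∈ pL F ∧ orderOf y = 2}.ncard = Fintype.card F ^ 2 - 1 := by
    have h6 := (Subgroup.centralizer {smk u}).index_mul_card
    rw [c1, card_pgl, mul_comm (Fintype.card F), ← H8.card_conj_class] at h6
    rw [← Nat.eq_of_mul_eq_mul_right Fintype.card_pos h6, ← Nat.card_coe_set_eq]
    refine Nat.card_congr (Equiv.subtypeEquivRight fun y => ⟨fun h => ?_, fun h => ⟨hL _, ?_⟩⟩)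
    · obtain ⟨w, rfl⟩ := mem_pL.1 (hL y)
      refine smk.map_isConj (sl_isConj_of hu.1 (fun h7 => ?_)
        ((trace_eq_zero_of_ord2 hx).trans (trace_eq_zero_of_ord2 h.2).symm) (Or.inr h2))
      have := h.2
      rw [smk_eq_one_iff.2 h7, orderOf_one] at this; omega
    · obtain ⟨c, rfl⟩ := isConj_iff.1 h
      exact ((MulAut.conj c).orderOf_eq _).trans hx
  have c3 : ({y | y ∈ pL F ∧ orderOf y = 2} ∩ (Subgroup.centralizer {smk u} : Subgroup _)).ncard =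
      Fintype.card F - 1 := by
    rw [← c1, ← SetLike.coe_sort_coe, Nat.card_coe_set_eq,
      ← Set.ncard_sdiff_singleton_of_mem (Subgroup.one_mem _)]
    congr 1
    refine Set.ext fun y => ⟨fun h => ⟨h.2, fun h6 => ?_⟩, fun h => ⟨⟨hL _, ?_⟩, h.1⟩⟩
    · have := h.1.2
      rw [show y = 1 from h6, orderOf_one] at this; omega
    · obtain ⟨k, -, hk⟩ := H22.exists_card_eq_pow (F := F) 2
      refine orderOf_eq_prime ((sq y).trans (k2 y k ?_)) h.2
      rw [← hk, ← c1, ← orderOf_dvd_iff_pow_eq_one]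
      exact orderOf_dvd_card_of_mem h.1
  have c4 := Set.ncard_inter_add_ncard_sdiff_eq_ncard {y | y ∈ pL F ∧ orderOf y = 2}
    (Subgroup.centralizer {smk u} : Subgroup PGL(2, F))
  rw [c2, c3, sq_sub_one_eq, mul_add, mul_one, add_comm] at c4
  rw [e, ncard_Jn (B := (stabilizer PGL(2, F) a : Set _)) hx2 k3
    fun y hy => k3 _ (by rw [mul_smul, show y • a = a from hy, h4]), ← Nat.card_coe_set_eq,
    SetLike.coe_sort_coe, card_stab, show (Jn (smk u)).ncard = _ from Nat.add_right_cancel c4]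
  ring

/-- Pairs generating `A₄` in characteristic three. -/
def R4 (a b : PGL(2, F)) : Prop :=
  a ∈ pL F ∧ b ∈ pL F ∧ a ≠ 1 ∧ a * a = 1 ∧ b ≠ 1 ∧ b ^ 3 = 1 ∧ (a * b) ^ 3 = 1

theorem R4.conj {a b : PGL(2, F)} (g : PGL(2, F)) (h : R4 a b) :
    R4 (g * a * g⁻¹) (g * b * g⁻¹) := by
  obtain ⟨h1, h2, h3, h4, h5, h6, h7⟩ := h
  refine ⟨Subgroup.Normal.conj_mem inferInstance _ h1 g, Subgroup.Normal.conj_mem inferInstance _ h2 g,
    fun h => h3 (by simpa using h), ?_, fun h => h5 (by simpa using h), ?_, ?_⟩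
  · rw [conj_mul, h4]; group
  · rw [conj_pow, h6]; group
  · rw [conj_mul, conj_pow, h7]; group

theorem R4.lift {a b : PGL(2, F)} (h : R4 a b) : ∃ A B : SL(2, F), smk A = a ∧ smk B = b ∧
    A.1.trace = 0 ∧ B.1.trace = -1 ∧ (A * B).1.trace = 1 := by
  obtain ⟨h1, h2, h3, h4, h5, h6, h7⟩ := h
  obtain ⟨B, hB, tB⟩ : ∃ B : SL(2, F), smk B = b ∧ B.1.trace = -1 := by
    obtain ⟨B, rfl⟩ := mem_pL.1 h2
    rcases sq_eq_one_iff_of_field (sub_eq_zero.1 ((smk_cube_iff h5).1 h6)) with h8 | h8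
    · exact ⟨-B, smk_neg B, by rw [sl_neg_val, trace_neg, h8]⟩
    · exact ⟨B, rfl, h8⟩
  subst hB
  obtain ⟨A, rfl⟩ := mem_pL.1 h1
  have tA := (smk_sq_iff h3).1 ((sq _).trans h4)
  rw [← map_mul] at h7
  have h8 : smk (A * B) ≠ 1 := fun h => by
    rw [map_mul, mul_eq_one_iff_eq_inv] at h
    rw [h, ← _root_.mul_inv_rev, inv_eq_one] at h4
    rw [pow_succ, sq, h4, one_mul] at h6
    exact h5 h6
  rcases sq_eq_one_iff_of_field (sub_eq_zero.1 ((smk_cube_iff h8).1 h7)) with h9 | h9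
  · exact ⟨A, B, rfl, rfl, tA, tB, h9⟩
  · exact ⟨-A, B, smk_neg A, rfl, by rw [sl_neg_val, trace_neg, tA, neg_zero], tB,
      by rw [neg_mul, sl_neg_val, trace_neg, h9, neg_neg]⟩

theorem det_comm_r4 (h3 : (3 : F) = 0) {A B : SL(2, F)} (tA : A.1.trace = 0) (tB : B.1.trace = -1)
    (tAB : (A * B).1.trace = 1) : (A.1 * B.1 - B.1 * A.1).det ≠ 0 := by
  rw [det_comm_eq, ← sl_coe_mul, tA, tB, tAB, A.2, B.2]
  exact fun h => one_ne_zero (α := F) (by linear_combination h3 - h)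

theorem R4.exists_conj (h3 : (3 : F) = 0) {a b a' b' : PGL(2, F)} (h : R4 a b) (h' : R4 a' b') :
    ∃ g, g * a * g⁻¹ = a' ∧ g * b * g⁻¹ = b' := by
  obtain ⟨A, B, rfl, rfl, tA, tB, tAB⟩ := h.lift
  obtain ⟨A', B', rfl, rfl, tA', tB', tAB'⟩ := h'.lift
  obtain ⟨P, rfl, rfl⟩ := exists_conj_pair_sl (det_comm_r4 h3 tA tB tAB) (tA.trans tA'.symm)
    (tB.trans tB'.symm) (tAB.trans tAB'.symm)
  exact ⟨pmk P, (smk_conjSL P A).symm, (smk_conjSL P B).symm⟩

theorem R4.eq_one (h3 : (3 : F) = 0) {a b g : PGL(2, F)} (h : R4 a b) (h1 : g * a = a * g)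
    (h2 : g * b = b * g) : g = 1 := by
  obtain ⟨A, B, rfl, rfl, tA, tB, tAB⟩ := h.lift
  obtain ⟨P, rfl⟩ := ProjGenLinGroup.mk_surjective g
  have k : ∀ X : M2 F, P.1 * X = -(X * P.1) → X.trace = -X.trace := fun X h => by
    have := trace_eq_of_conj (B := -X) (gl_det_ne_zero P) (h.trans (neg_mul _ _).symm)
    rwa [trace_neg] at this
  have h4 := (comm_or_anti h2).resolve_right fun h => by
    have := k _ h
    rw [tB] at this
    exact one_ne_zero (α := F) (by linear_combination h3 + this)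
  have h5 := (comm_or_anti h1).resolve_right fun h => by
    have := k (A * B).1 (by rw [sl_coe_mul, ← mul_assoc, h, neg_mul, mul_assoc, h4, mul_assoc])
    rw [tAB] at this
    exact one_ne_zero (α := F) (by linear_combination h3 - this)
  exact pmk_eq_one_iff.2 (sc_of_comm_pair (det_comm_r4 h3 tA tB tAB) h5 h4)

theorem R4.solv [Finite F] (h2 : (2 : F) ≠ 0) {a b : PGL(2, F)} (h : R4 a b) :
    Group.IsSolvable (Subgroup.closure {a, b}) := by
  obtain ⟨h1, h3, h4, h5, -, h6, h7⟩ := h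
  have ha := orderOf_eq_prime ((sq a).trans h5) h4
  have e1 : a⁻¹ = a := inv_eq_of_mul_eq_one_right h5
  have e2 : b * (b * a * b⁻¹) * b⁻¹ = a * (b * a * b⁻¹) := by
    have e3 : b * b = b⁻¹ := eq_inv_of_mul_eq_one_left (by rw [← h6, pow_succ, sq])
    have e4 : a * b * a = b⁻¹ * a⁻¹ * b⁻¹ := by
      calc a * b * a = (a * b) ^ 3 * (b⁻¹ * a⁻¹ * b⁻¹) := by rw [pow_succ, sq]; group
        _ = _ := by rw [h7, one_mul]
    calc b * (b * a * b⁻¹) * b⁻¹ = b * b * a * (b * b)⁻¹ := by group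
      _ = b⁻¹ * a⁻¹ * b⁻¹ * b⁻¹ := by
        rw [mul_assoc (b⁻¹ * a⁻¹), ← _root_.mul_inv_rev b b, e1, e3]
      _ = _ := by rw [← e4]; group
  have k : ∀ c, orderOf (c * a * c⁻¹) = 2 := fun c => ((MulAut.conj c).orderOf_eq a).trans ha
  have h8 : orderOf (a * (b * a * b⁻¹)) = 2 := by
    rw [← e2, show b * (b * a * b⁻¹) * b⁻¹ = b * b * a * (b * b)⁻¹ by group]
    exact k _
  have h9 : Four a (b * a * b⁻¹) := ⟨ha, k b, fun h => by
    rw [← h, h5, orderOf_one] at h8; omega,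
    (comm_of_sq h5 (sq_of_ord2 (k b)) (sq_of_ord2 h8)).symm⟩
  refine isSolvable_of_le ((Subgroup.closure_le _).2 ?_) (isSolvable_of_equiv
    (normalizer_four_equiv h2 h1 (Subgroup.Normal.conj_mem inferInstance _ h1 b) h9) isSolvable_s4)
  rintro _ (rfl | rfl)
  · exact Subgroup.le_normalizer (left_mem_V4 _ _)
  · exact mem_normalizer_V4 (right_mem_V4 _ _) (e2 ▸ mul_mem (left_mem_V4 _ _) (right_mem_V4 _ _))

theorem exists_R4 [CharP F 3] : R4 (smk (slComp (0 : F))) (smk (-upT 1)) := by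
  have h3 : (3 : F) = 0 := CharP.cast_eq_zero F 3
  have h2 : (2 : F) ≠ 0 := fun h => one_ne_zero (α := F) (by linear_combination h3 - h)
  have h4 := ord2_of_trace h2 (trace_slComp (0 : F))
  have h5 := smk_un_pow 3 (un_upT (one_ne_zero (α := F)))
  have h6 : (slComp (0 : F) * -upT 1).1.trace = -1 := by
    rw [mul_neg, sl_neg_val, trace_neg, sl_coe_mul]
    change -(comp (0 : F) 1 * !![1, 1; 0, 1]).trace = _
    rw [comp, mul_fin_two, trace_fin_two_of]; ring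
  refine ⟨smk_mem_pL _, smk_mem_pL _, fun h => by rw [h, orderOf_one] at h4; omega, sq_of_ord2 h4,
    fun h => by rw [smk_neg] at h; rw [h, orderOf_one] at h5; omega,
    by rw [smk_neg, ← orderOf_dvd_iff_pow_eq_one, h5], ?_⟩
  rw [← map_mul]
  by_cases h7 : smk (slComp (0 : F) * -upT 1) = 1
  · rw [h7, one_pow]
  · rw [smk_cube_iff h7, h6]; ring

theorem sol_inv3 [Fintype F] [CharP F 3] {A : Prop} (hm : MS F A) (hq : Fintype.card F % 4 = 3)
    {x : PGL(2, F)} (hL : x ∈ pL F) (hx : orderOf x = 2) :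
    (Sol x).ncard = Fintype.card F * (Fintype.card F + 1) := by
  have h3 : (3 : F) = 0 := CharP.cast_eq_zero F 3
  have h2 : (2 : F) ≠ 0 := fun h => one_ne_zero (α := F) (by linear_combination h3 - h)
  obtain ⟨u, rfl⟩ := mem_pL.1 hL
  have tu := trace_eq_zero_of_ord2 hx
  have hx2 := sq_of_ord2 hx
  have hx1 := H6.ord2_ne_one hx
  have he : Ell u.1 := fun c hc => FiniteField.isSquare_neg_one_iff.1
    ⟨c, by rw [tu, u.2] at hc; linear_combination -hc⟩ hq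
  have hg : disc (sgl u).1 ≠ 0 := he.disc_ne_zero
  have hC : Subgroup.centralizer {smk u} = pN (sgl u) := cent_eq_pN (g := sgl u) tu
  have hC' : ∀ y, y ∈ pN (sgl u) ↔ y * smk u = smk u * y := fun y => by
    rw [← hC, Subgroup.mem_centralizer_singleton_iff]
  have e : Sol (smk u) = ((pN (sgl u) ⊓ pL F : Subgroup _) : Set PGL(2, F)) ∪ Jn (smk u) ∪
      {y | smk u * y ∈ Jn (smk u)} ∪ {y | R4 (smk u) y} := by
    refine Set.ext fun y => ⟨fun hy => ?_, ?_⟩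
    · by_cases h6 : y * smk u = smk u * y
      · exact Or.inl (Or.inl (Or.inl ⟨(hC' y).2 h6, hy.1⟩))
      rcases hm _ hL y hy with ⟨c, h7, -⟩ | ⟨g, h7, h8, h9⟩ | ⟨-, H, h7, h8, h9⟩
      · exact (not_fix_ell (g := sgl u) he c h7).elim
      · exact Or.inl ((Jn_cases hL hy.1 h7 h8 h9 h6).imp_left Or.inr)
      · rcases (a4_facts h9 h7 h8).2.1 hx2 with h | h
        · exact Or.inl (Or.inl (Or.inr (mem_Jn.2 ⟨hy.1, h, h6⟩)))
        · exact Or.inr ⟨hL, hy.1, hx1, hx2, fun h => h6 (by rw [h, one_mul, mul_one]), h⟩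
    · rintro (((hy | hy) | hy) | hy)
      · exact mem_sol (dih_pN hg).isSolvable (pT_le_pN _ (pmk_mem_pT_self _)) hy.1 hy.2
      · exact Jn_sub hx2 hy
      · exact mem_sol_of_mul hL (Subgroup.mem_zpowers _) (Jn_sub hx2 hy)
      · exact ⟨hy.2.1, R4.solv h2 hy⟩
  have k : ∀ z : PGL(2, F), z * z = 1 → z ^ 3 = 1 → z = 1 := fun z a b => by
    rwa [pow_succ, sq, a, one_mul] at b
  have d : Disjoint (((pN (sgl u) ⊓ pL F : Subgroup _) : Set PGL(2, F)) ∪ Jn (smk u) ∪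
      {y | smk u * y ∈ Jn (smk u)}) {y | R4 (smk u) y} := by
    refine Set.disjoint_left.2 ?_
    rintro y ((hy | hy) | hy) ⟨-, -, -, -, h5, h6, h7⟩
    · rw [(show Commute (smk u) y from ((hC' y).1 hy.1).symm).mul_pow, h6, mul_one] at h7
      exact hx1 (k _ hx2 h7)
    · exact h5 (k _ (mem_Jn.1 hy).2.1 h6)
    · exact (mem_Jn.1 hy).2.2 (by rw [k _ (mem_Jn.1 hy).2.1 h7, one_mul, mul_one])
  have c0 : {y | R4 (smk u) y}.ncard = 2 * (Fintype.card F + 1) := by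
    obtain ⟨c, hc⟩ := isConj_iff.1 (smk.map_isConj (sl_isConj_of_disc
      ((trace_slComp (0 : F)).trans tu.symm) (by
        rw [(trace_slComp (0 : F)).trans tu.symm]; exact he.sl_disc)))
    have := (exists_R4 (F := F)).conj c
    rw [hc] at this
    rw [ncard_rigid R4 (fun _ _ => R4.conj) (fun _ _ _ _ => R4.exists_conj h3)
      (fun _ _ _ => R4.eq_one h3) this, hC, card_pN hg, card_pT_ell he]
  have c1 := card_pT_pL hg
  have c2 := card_pN_pL hg
  rw [gcd_eq_two (by omega), card_pT_ell he] at c1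
  have c3 := card_inv_mul h2 (g := sgl u) tu hL
  have c4 := card_pL_two h2
  have c5 : ({y | y ∈ pL F ∧ orderOf y = 2} ∩ (Subgroup.centralizer {smk u} : Subgroup _)) =
      insert (smk u) (((pN (sgl u) ⊓ pL F : Subgroup _) : Set PGL(2, F)) \
        (pT (sgl u) ⊓ pL F : Subgroup _)) := by
    rw [hC]
    refine Set.ext fun y => ⟨fun h => ?_, ?_⟩
    · refine or_iff_not_imp_right.2 fun h4 => ?_
      have h5 : y ∈ pT (sgl u) := by
        by_contra h5
        exact h4 ⟨⟨h.2, h.1.1⟩, fun h6 => h5 h6.1⟩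
      obtain ⟨w, rfl⟩ := mem_pL.1 h.1.1
      obtain ⟨s, t, h6⟩ := (comm_iff he.not_sc).1 (pmk_mem_pT.1 (show pmk (sgl w) ∈ _ from h5))
      have h7 := trace_eq_zero_of_ord2 h.1.2
      change w.1 = _ at h6
      rw [h6, trace_add, trace_smul, trace_smul, tu, trace_one, Fintype.card_fin, smul_zero,
        add_zero, smul_eq_mul, Nat.cast_ofNat, mul_eq_zero] at h7
      refine (pmk_eq_iff (g := sgl u) (h := sgl w)).2 ⟨t, h6.trans ?_⟩ |>.symm
      rw [h7.resolve_right h2, zero_smul, zero_add]; rfl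
    · rintro (rfl | h)
      · exact ⟨⟨hL, hx⟩, pT_le_pN _ (pmk_mem_pT_self _)⟩
      · have h4 : y ∉ pT (sgl u) := fun h4 => h.2 ⟨h4, h.1.2⟩
        exact ⟨⟨h.1.2, H6.ord2_of ((dih_pN hg).sq _ h.1.1 h4) fun h5 => h4 (h5 ▸ one_mem _)⟩, h.1.1⟩
  have c6 := Set.ncard_inter_add_ncard_sdiff_eq_ncard {y | y ∈ pL F ∧ orderOf y = 2}
    (Subgroup.centralizer {smk u} : Subgroup PGL(2, F))
  rw [c5, Set.ncard_insert_of_notMem (fun h => h.2 ⟨pmk_mem_pT_self _, hL⟩),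
    Set.ncard_sdiff (SetLike.coe_subset_coe.2 (inf_le_inf_right _ (pT_le_pN _))),
    ← Nat.card_coe_set_eq (s := SetLike.coe _), ← Nat.card_coe_set_eq (s := SetLike.coe _),
    SetLike.coe_sort_coe, SetLike.coe_sort_coe] at c6
  change _ + (Jn (smk u)).ncard = _ at c6
  rw [e, Set.ncard_union_eq d, c0, ncard_Jn hx2 (fun y hy h => (mem_Jn.1 h).2.2 ((hC' y).1 hy.1))
    fun y hy h => (mem_Jn.1 h).2.2 (by rw [mul_assoc, (hC' y).1 hy.1]), ← Nat.card_coe_set_eq,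
    SetLike.coe_sort_coe]
  rw [← c3, c2, c1, sq_sub_one_eq] at c4
  rw [c2] at c6 ⊢
  generalize {y | y ∈ pL F ∧ orderOf y = 2}.ncard = n at *
  generalize Fintype.card F = q at *
  obtain ⟨q, rfl⟩ : ∃ r, q = r + 1 := ⟨q - 1, by omega⟩
  have c7 : 2 * n = (q + 1) * q := Nat.eq_of_mul_eq_mul_left (show 0 < q + 1 + 1 by omega) (by
    rw [Nat.add_sub_cancel] at c4; linear_combination c4)
  have c8 : (q + 1) * (q + 1 + 1) = (q + 1) * q + 2 * q + 2 := by ring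
  omega

theorem sol_three [Fintype F] [CharP F 3] {A : Prop} (hm : MS F A) {x : PGL(2, F)}
    (hx : orderOf x = 3) : 2 * (Sol x).ncard = Fintype.card F * (Fintype.card F + 5) := by
  have h3 : (3 : F) = 0 := CharP.cast_eq_zero F 3
  have h2 : (2 : F) ≠ 0 := fun h => one_ne_zero (α := F) (by linear_combination h3 - h)
  have : Fact (Nat.Prime 3) := ⟨Nat.prime_three⟩
  have hx1 : x ≠ 1 := fun h => by rw [h, orderOf_one] at hx; omega
  have hx3 : x ^ 3 = 1 := hx ▸ pow_orderOf_eq_one x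
  have hx2 : x * x ≠ 1 := fun h => hx1 (by rwa [pow_succ, sq, h, one_mul] at hx3)
  obtain ⟨u, v, rfl, hv, h0⟩ := exists_unip 3 hx1 (k := 1) hx3
  have hL := smk_mem_pL u
  have h4 : smk u • Projectivization.mk F v hv = Projectivization.mk F v hv :=
    (pmk_fix_iff (g := sgl u) hv).2 ⟨1, by rw [one_smul]; exact h0⟩
  have h5 := fun y => fix_unique rfl hx1 hv h0 (y := y)
  have k0 : ∀ t, R4 t (smk u) → t • Projectivization.mk F v hv ≠ Projectivization.mk F v hv := by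
    intro t ht h6
    obtain ⟨T, B, rfl, h7, tA, tB, tAB⟩ := ht.lift
    rw [← h7] at h4
    obtain ⟨c, hc⟩ := (pmk_fix_iff (g := sgl T) hv).1 h6
    obtain ⟨d, hd⟩ := (pmk_fix_iff (g := sgl B) hv).1 h4
    change T.1 *ᵥ v = _ at hc
    change B.1 *ᵥ v = _ at hd
    refine det_comm_r4 h3 tA tB tAB (exists_mulVec_eq_zero_iff.1 ⟨v, hv, ?_⟩)
    rw [sub_mulVec, ← mulVec_mulVec, ← mulVec_mulVec, hc, hd, mulVec_smul, mulVec_smul, hc, hd,
      smul_comm, sub_self]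
  generalize Projectivization.mk F v hv = a at h4 h5 k0
  have hd : disc (sgl u).1 = 0 := disc_eq_zero_of_pow 3 (k := 1) (by
    rw [← Units.val_pow_eq_pow_val, ← pmk_eq_one_iff, map_pow]; exact hx3)
  have hs : ¬ Sc (sgl u).1 := mt smk_eq_one_iff.2 hx1
  have k1 : ∀ z y : PGL(2, F), z • a = a → (∀ c : ℙ F (Fin 2 → F), z • c = c → c = a) →
      R4 y (smk u) → ¬ R4 (z * y) (smk u) := fun z y h6 h7 h8 h9 => k0 y h8 (h7 _ (by
    rw [← mul_smul, ← inv_eq_of_mul_eq_one_right h9.2.2.2.1, _root_.mul_inv_rev,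
      inv_eq_of_mul_eq_one_right h8.2.2.2.1, mul_smul, inv_smul_eq_iff.2 h6.symm]))
  have e : Sol (smk u) = ((stabilizer PGL(2, F) a ⊓ pL F : Subgroup _) : Set PGL(2, F)) ∪
      {t | R4 t (smk u)} ∪ {y | smk u * y ∈ {t | R4 t (smk u)}} ∪
      {y | smk u * smk u * y ∈ {t | R4 t (smk u)}} := by
    have k2 : ∀ t, R4 t (smk u) → t ∈ Sol (smk u) := fun t h =>
      ⟨h.1, Set.pair_comm t (smk u) ▸ h.solv h2⟩
    refine Set.ext fun y => ⟨fun hy => ?_, ?_⟩
    · rcases hm _ hL y hy with ⟨c, h7, h8⟩ | ⟨g, h7, h8, -⟩ | ⟨-, H, h7, h8, h9⟩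
      · exact Or.inl (Or.inl (Or.inl ⟨h5 c h7 ▸ h8, hy.1⟩))
      · exact (disc_of_mem_pT h7 hs ((dih_pN h7).mem_of_sq h8 hx2) hd).elim
      · rcases (a4_facts h9 h7 h8).2.2 hx1 hx3 with h | h | h | h | h | h
        · exact Or.inl (Or.inl (Or.inl (h ▸ one_mem _)))
        · exact Or.inl (Or.inl (Or.inl ⟨h ▸ h4, hy.1⟩))
        · exact Or.inl (Or.inl (Or.inl ⟨h ▸ mul_mem h4 h4, hy.1⟩))
        · exact Or.inl (Or.inl (Or.inr ⟨hy.1, hL, h.1, h.2.1, hx1, hx3, h.2.2⟩))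
        · exact Or.inl (Or.inr ⟨mul_mem hL hy.1, hL, h.1, h.2.1, hx1, hx3, h.2.2⟩)
        · exact Or.inr ⟨mul_mem (mul_mem hL hL) hy.1, hL, h.1, h.2.1, hx1, hx3, h.2.2⟩
    · rintro (((hy | hy) | hy) | hy)
      · exact mem_sol (isSolvable_stab a) h4 hy.1 hy.2
      · exact k2 _ hy
      · exact mem_sol_of_mul hL (Subgroup.mem_zpowers _) (k2 _ hy)
      · exact mem_sol_of_mul hL (mul_mem (Subgroup.mem_zpowers _) (Subgroup.mem_zpowers _)) (k2 _ hy)
  have c0 : {t | R4 t (smk u)}.ncard = Fintype.card F := by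
    obtain ⟨b, hb⟩ := (m2_cases (sgl u).1).resolve_left hs |>.resolve_right fun h =>
      h.elim (fun ⟨_, _, h⟩ => h.disc_ne_zero hd) fun h => h.disc_ne_zero hd
    obtain ⟨t, ht⟩ : ∃ t, R4 t (smk u) := by
      have h6 := un_upT (one_ne_zero (α := F))
      have h7 := exists_R4 (F := F)
      rw [smk_neg] at h7
      rcases sq_eq_one_iff_of_field ((sq b).trans (Un.sl_sq (g := u) hb)) with rfl | rfl
      · obtain ⟨c, hc⟩ := isConj_iff.1 (pmk.map_isConj (gl_isConj_of (g := sgl (upT 1)) h6.1 hs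
          (h6.2.1.trans hb.2.1.symm) ((upT 1).2.trans u.2.symm)))
        exact ⟨_, hc ▸ h7.conj c⟩
      · have h8 := hb.neg
        rw [neg_neg] at h8
        obtain ⟨c, hc⟩ := isConj_iff.1 (pmk.map_isConj (gl_isConj_of (g := sgl (upT 1))
          (h := sgl (-u)) h6.1 h8.1 (h6.2.1.trans h8.2.1.symm) ((upT 1).2.trans (-u).2.symm)))
        exact ⟨_, (hc.trans (smk_neg u)) ▸ h7.conj c⟩
    rw [ncard_rigid (fun a b => R4 b a) (fun _ _ => R4.conj)
      (fun _ _ _ _ h h' => let ⟨g, h⟩ := h.exists_conj h3 h'; ⟨g, h.2, h.1⟩)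
      (fun _ _ _ h h1 h2 => h.eq_one h3 h2 h1) ht,
      cent_eq_pT (y := smk u) hs (pmk_mem_pT_self _) hx1 (Or.inr hx2), card_pT_un hb]
  have c1 := card_stab_pL a
  rw [gcd_eq_two (odd_card_of_two_ne_zero h2)] at c1
  have f2 : (smk u * smk u) • a = a := by rw [mul_smul, h4, h4]
  rw [e, Set.ncard_union_eq (Set.disjoint_left.2 ?_), Set.ncard_union_eq (Set.disjoint_left.2 ?_),
    Set.ncard_union_eq (Set.disjoint_left.2 ?_), ncard_mul_left,
    ncard_mul_left, c0, ← Nat.card_coe_set_eq, SetLike.coe_sort_coe, mul_add, mul_add, mul_add, c1]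
  · obtain ⟨q, hq⟩ : ∃ r, Fintype.card F = r + 1 := ⟨_, (Nat.succ_pred_eq_of_pos Fintype.card_pos).symm⟩
    rw [hq, Nat.add_sub_cancel]; ring
  · exact fun y hy h => k0 y h hy.1
  · rintro y (hy | hy) h
    · exact k0 _ h (by rw [mul_smul, show y • a = a from hy.1, h4])
    · exact k1 _ _ h4 h5 hy h
  · rintro y ((hy | hy) | hy) h
    · exact k0 _ h (by rw [mul_smul, show y • a = a from hy.1, f2])
    · refine k1 _ _ f2 (fun c hc => h5 c ?_) hy h
      rw [← mul_one (smk u), ← hx3, show smk u * smk u ^ 3 = smk u * smk u * (smk u * smk u) by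
        simp only [pow_succ, pow_zero, one_mul, mul_assoc], mul_smul, hc, hc]
    · exact k1 _ _ h4 h5 hy (mul_assoc (smk u) _ _ ▸ h)

theorem sp_or_ell_of_dvd [Fintype F] {x : PSL(2, F)} (h1 : x ≠ 1) (h2 : orderOf x ≠ 2) :
    psl2pgl x * psl2pgl x ≠ 1 ∧
    (orderOf x ∣ Fintype.card F - 1 → ∃ (u : SL(2, F)) (a b : F), Sp u.1 a b ∧ psl2pgl x = smk u) ∧
    (orderOf x ∣ Fintype.card F + 1 → ∃ u : SL(2, F), Ell u.1 ∧ psl2pgl x = smk u) := by
  have k : ¬ orderOf x ∣ 2 := fun h => ((Nat.dvd_prime Nat.prime_two).1 h).elim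
    (fun h => h1 (orderOf_eq_one_iff.1 h)) h2
  have k1 : orderOf x ∣ Fintype.card F - 1 → ¬ orderOf x ∣ Fintype.card F + 1 := fun a b => k (by
    have := Nat.dvd_sub b a
    have := Fintype.card_pos (α := F)
    rwa [show Fintype.card F + 1 - (Fintype.card F - 1) = 2 by omega] at *)
  obtain ⟨p, hp⟩ := CharP.exists F
  have : Fact p.Prime := ⟨CharP.char_is_prime F p⟩
  have hq : p ∣ Fintype.card F := (CharP.cast_eq_zero_iff F p _).1 (FiniteField.cast_card_eq_zero F)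
  have hp1 := (Fact.out : p.Prime).one_lt
  refine ⟨fun h => k (by rw [← orderOf_psl, orderOf_dvd_iff_pow_eq_one, sq, h]), ?_⟩
  rcases (psl_cases x).resolve_left h1 with ⟨u, a, h, rfl⟩ | ⟨u, h, rfl⟩
  · rw [← orderOf_psl, show psl2pgl (u : PSL(2, F)) = smk u from rfl, smk_un_pow p h]
    refine ⟨fun h3 => ?_, fun h3 => absurd (Nat.le_of_dvd one_pos ((Nat.dvd_add_right hq).1 h3)) (by omega)⟩
    have := Nat.dvd_sub hq h3
    have := Fintype.card_pos (α := F)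
    rw [show Fintype.card F - (Fintype.card F - 1) = 1 by omega] at *
    exact absurd (Nat.le_of_dvd one_pos ‹p ∣ 1›) (by omega)
  · have h3 := (orderOf_psl_dvd h (x := u) (pmk_mem_pT_self _)).trans
      (Nat.div_dvd_of_dvd (Dvd.intro _ (card_pT_pL h)))
    rcases sp_or_ell_of_disc h with ⟨a, b, h4⟩ | h4
    · rw [card_pT_sp h4] at h3
      exact ⟨fun _ => ⟨u, a, b, h4, rfl⟩, fun h5 => (k1 h3 h5).elim⟩
    · rw [card_pT_ell h4] at h3
      exact ⟨fun h5 => (k1 h5 h3).elim, fun _ => ⟨u, h4, rfl⟩⟩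

end H4
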