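import Cfsg.Agent.Lead.Fv0
import Cfsg.Agent.H1.HallTop
import Cfsg.Agent.H11.CharP

set_option autoImplicit false

open Subgroup Cfsg H4 H12 Lead.Fv
open scoped commutatorElement

namespace H4.Up

universe u
variable {X : Type u} [Group X] [Finite X] {p : ℕ} [hp : Fact p.Prime] {G R P Y : Subgroup X}

omit [Finite X] hp in
theorem comm_le {B : Subgroup X} (hB : B ≤ G) (hG : G ≤ 𝒩 B) (hR : R ≤ 𝒩 B)
    (h : IsPGroup p (⁅B, R⁆ : Subgroup X)) : ⁅B, R⁆ ≤ pCoreOf p G :=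
  (H11.le_pCoreOf (le_normalizer_iff_commutator_le_left.1 hR) (normalizer_commutator_ge_left _ _)
    h).trans ((H11.pCoreOf_eq_inf_of_le_normalizer hB hG).le.trans inf_le_left)

theorem up (hn : R ≤ 𝒩 Y) (hc : (Nat.card R).Coprime (Nat.card Y)) (hs : Group.IsSolvable R)
    (h : IsPGroup p (⁅res p Y, R⁆ : Subgroup X)) : IsPGroup p (⁅Y, R⁆ : Subgroup X) := by
  obtain ⟨S, hS, hRS⟩ := H1.exists_invariant_sylowOf p hn hc (Or.inl hs)
  have hS : SylIn p S Y := H1.isPiHallOf_singleton_iff.1 hS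
  have hN : R ≤ 𝒩 (res p Y) := hn.trans (normalizer_le_normalizer_res Y)
  have hO : ⁅res p Y, R⁆ ≤ S := (comm_le (res_le Y) (le_normalizer_res Y) hN h).trans
    (hS.le_of_normal (H11.isPGroup_pCoreOf Y) (H11.pCoreOf_le Y) (H11.le_normalizer_pCoreOf Y))
  refine hS.pgrp.to_le ((H1.commutator_le_of_mul_centralizer fun y hy => ?_).trans
    (le_normalizer_iff_commutator_le_left.1 hRS))
  obtain ⟨t, ht, k, hk, rfl⟩ := hS.exists_mul_res' hy
  obtain ⟨x, hx, c, hc', rfl⟩ := H1.exists_commutator_mul_centralizer hN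
    (hc.coprime_dvd_right (card_dvd_of_le (res_le Y))) (Or.inl hs) hk
  exact ⟨t * x, S.mul_mem ht (hO hx), c, hc'.2, (mul_assoc _ _ _).symm⟩

theorem rc (hn : R ≤ 𝒩 G) (hc : (Nat.card R).Coprime (Nat.card G)) (hs : Group.IsSolvable R)
    (h : Phi p G R) : R ≤ 𝒞 (res p (G ⊓ 𝒞 (pCoreOf p G))) := by
  have nb : 𝒩 G ≤ 𝒩 (G ⊓ 𝒞 (pCoreOf p G)) := H1.le_normalizer_inf le_rfl
    (H1.le_normalizer_centralizer (H11.normalizer_le_normalizer_pCoreOf G))
  have hO := comm_le inf_le_left (le_normalizer.trans nb) (hn.trans nb) h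
  refine le_centralizer_iff.1 (res_le_iff.2 fun y hy ho => ?_)
  have hz : zpowers y ≤ G ⊓ 𝒞 (pCoreOf p G) := zpowers_le.2 hy
  obtain ⟨k, hk⟩ := (H11.isPGroup_pCoreOf (p := p) G).exists_card_eq
  refine H1.le_centralizer_of_commutator_le (A := zpowers y) (N := pCoreOf p G)
    ((commutator_comm _ _).le.trans ((commutator_mono hz le_rfl).trans hO))
    (le_centralizer_iff.1 (hz.trans inf_le_right)) ?_ (mem_zpowers y)
  rw [Nat.card_zpowers, hk]
  exact ho.pow_right _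

end H4.Up
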